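import Cfsg.Agent.Lib.Local.Uniq.Pair
import Cfsg.Agent.Lib.Local.DStarFusion
import Cfsg.Agent.Lib.Local.QdInvolved
import Cfsg.Agent.Lib.Fusion.Tate

/-!
The uniqueness theorem: in a minimal simple group of odd order every elementary subgroup of order at
least `p ^ 3` lies in one maximal subgroup only.
-/

set_option autoImplicit false
set_option linter.style.haveILetI false

namespace Cfsg.Lib.Local.Uniq

open Subgroup
open scoped commutatorElement

universe u

variable {G : Type u} [Group G] [Finite G] {p : ℕ} [hp : Fact p.Prime]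

/-- If every `F (M)` has `p`-rank at most two, a Sylow subgroup lies in a maximal subgroup with a big
core for another prime. -/
theorem exists_good (hG : Cfsg.IsMinSimpleOddOrder G)
    (hF : ∀ M : Subgroup G, IsCoatom M → Cfsg.PRankLE p 2 (Cfsg.fittingOf M))
    (P : Sylow p G) (hr : ¬ Cfsg.PRankLE p 2 (P : Subgroup G)) :
    ∃ (M : Subgroup G) (q : ℕ), q.Prime ∧ q ≠ p ∧ Good q M ∧ (P : Subgroup G) ≤ M := by
  obtain ⟨E₀, hE₀P, hE₀, hE₀3⟩ := exists_elementary hr
  have hPne : (P : Subgroup G) ≠ ⊥ := ne_bot_of_le_ne_bot (ne_bot_of_card (by norm_num) hE₀3) hE₀P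
  have hpG : p ∣ Nat.card G := by
    obtain ⟨i, hi⟩ := IsPGroup.iff_card.mp P.isPGroup'
    exact (dvd_pow_self p fun h0 => hPne (eq_bot_of_card_eq _ (by rw [hi, h0, pow_zero]))).trans
      (hi ▸ card_subgroup_dvd_card _)
  have hp2 := Uniq.ne_two hG hpG
  have hst : Cfsg.IsNormalizerPStable p G := by
    refine QdInvolved.isNormalizerPStable_of_not_involves_qd hp2 fun h => ?_
    refine SL2Involved.not_involves_SL2_of_abelian_sylow_two (p := p) hp2 (fun T => ?_)
      (SL2Involved.involves_SL2_of_qd h)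
    have hT : (T : Subgroup G) = ⊥ := by
      haveI : Fact (Nat.Prime 2) := ⟨Nat.prime_two⟩
      obtain ⟨k, hk⟩ := IsPGroup.iff_card.1 T.isPGroup'
      rcases k with _ | k
      · exact Subgroup.card_eq_one.1 (by simpa using hk)
      · exfalso
        have h2 : 2 ∣ Nat.card G := (Dvd.intro_left (2 ^ k) (pow_succ 2 k).symm).trans
          (hk ▸ Subgroup.card_subgroup_dvd_card (T : Subgroup G))
        exact (Nat.not_even_iff_odd.2 hG.1) (even_iff_two_dvd.2 h2)
    refine ⟨⟨fun x y => Subtype.ext ?_⟩⟩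
    show (x : G) * y = y * x
    rw [Subgroup.mem_bot.1 (hT.le x.2), one_mul, mul_one]
  set D := Cfsg.dStarOf (P : Subgroup G)
  have hD := DStarFusion.isNormal_dStarOf hp2 hst P
  have hDtop : D ≠ ⊤ :=
    ne_top_of_le_ne_top (ne_top_of_isPGroup hG P.isPGroup') (DStarFusion.dStarOf_le _)
  obtain ⟨M, hM, hNM⟩ := exists_coatom
    (OddTransitivity.normalizer_ne_top_of hG (DStarFusion.dStarOf_ne_bot P.isPGroup' hPne) hDtop)
  have hPM : (P : Subgroup G) ≤ M :=
    le_normalizer.trans ((DStarFusion.normalizer_le_dStarOf _).trans hNM)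
  have hctl : ∀ x ∈ (P : Subgroup G), ∀ g : G, g * x * g⁻¹ ∈ (P : Subgroup G) →
      ∃ h ∈ M, h * x * h⁻¹ = g * x * g⁻¹ := by
    intro x hx g hgx
    obtain ⟨ψ, ⟨-, -, h, hh⟩, hψ, hψD⟩ := hD.2 (zpowers x)
      ((MulAut.conj g).toMonoidHom.comp (zpowers x).subtype) ⟨zpowers_le.mpr hx, fun y => by
        obtain ⟨i, hi⟩ := mem_zpowers_iff.mp y.2
        show g * (y : G) * g⁻¹ ∈ (P : Subgroup G)
        rw [← hi, ← conj_zpow]
        exact zpow_mem hgx i, g, fun y => rfl⟩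
    refine ⟨h, hNM ?_, ?_⟩
    · rw [Core.mem_normalizer_iff_map_conj]
      refine eq_of_le_of_card_ge ?_ (by rw [Cfsg.Lib.Coprime.card_map_conj])
      rintro _ ⟨d, hd, rfl⟩
      have h1 : ψ ⟨d, mem_sup_right hd⟩ ∈ (D.subgroupOf (zpowers x ⊔ D)).map ψ :=
        mem_map_of_mem _ (mem_subgroupOf.mpr hd)
      have h2 := hψD.le h1
      rw [hh] at h2
      exact h2
    · have h1 := hψ ⟨x, mem_zpowers x⟩
      rw [hh] at h1
      exact h1
  have hcomm : ⁅(⊤ : Subgroup G), (⊤ : Subgroup G)⁆ = (⊤ : Subgroup G) := by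
    refine (CN.eq_bot_or_top hG _).resolve_left fun e => hG.2.2.1 ⟨⟨fun a b => ?_⟩⟩
    exact (commutatorElement_eq_one_iff_mul_comm.mp (mem_bot.mp
      (e.le (commutator_mem_commutator (mem_top a) (mem_top b)))))
  have hPM' : (P : Subgroup G) ≤ ⁅M, M⁆ := by
    have h1 := Cfsg.Lib.Fusion.commutator_inf_eq_of_controls P M hPM hctl
    rw [show commutator G = ⊤ from hcomm, top_inf_eq] at h1
    exact h1.le.trans inf_le_left
  haveI : Group.IsSolvable M := hG.2.2.2 M hM.1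
  by_cases hops : ∀ (s : ℕ) [Fact s.Prime],
      IsPGroup s (commutator (MulAut.conjNormal (H := Cfsg.pCore s M)).range)
  · exfalso
    refine not_rankLE_of_elementary (hE₀P.trans (hPM'.trans ?_)) hE₀ hE₀3 (hF M hM)
    rw [← map_subtype_commutator]
    exact map_mono (NarrowAut.commutator_le_fitting hops)
  push Not at hops
  obtain ⟨q, hq, hne⟩ := hops
  have hgood := good_of_not_commutator hG hM hne
  exact ⟨M, q, hq.out, fun e => by subst e; exact hgood.fitting_rank (hF M hM), hgood, hPM⟩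

/-- The action of an elementary subgroup of rank three on a big core. -/
theorem split (hG : Cfsg.IsMinSimpleOddOrder G) {q : ℕ} [Fact q.Prime] {M : Subgroup G} (h : Good q M)
    (hqp : q ≠ p) {A E : Subgroup G} [IsMulCommutative A] (hAM : A ≤ M) (hEA : E ≤ A)
    (hE : Cfsg.IsElementaryAbelian p E) (hE3 : p ^ 3 ≤ Nat.card E) (hEu : ¬ Cfsg.InUniqueMaximal E) :
    centralizer (A : Set G) ≤ M ∧ ∃ v v2 x e : G,
      (v ∈ core q M ∧ v ^ q = 1 ∧ v ≠ 1 ∧ A ≤ normalizer (zpowers v : Set G)) ∧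
      (v2 ∈ core q M ∧ v2 ^ q = 1 ∧ v2 ≠ 1 ∧ A ≤ normalizer (zpowers v2 : Set G)) ∧
      (x ∈ E ∧ x * v2 = v2 * x ∧ x * v ≠ v * x) ∧ (e ∈ E ∧ e * v2 ≠ v2 * e) ∧
      p ^ 2 ≤ Nat.card (E ⊓ centralizer ({v} : Set G) : Subgroup G) := by
  haveI := hE.1
  have hAA : A ≤ centralizer (A : Set G) := le_centralizer_iff_isMulCommutative.mpr inferInstance
  set R := core q M
  have hRp : IsPGroup q R := core_isPGroup q M
  have hEp := Cfsg.Lib.PGroup.isPGroup_of_isElementaryAbelian hE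
  have hcop : ∀ {B Y : Subgroup G}, B ≤ E → Y ≤ R → (Nat.card B).Coprime (Nat.card Y) := by
    intro B Y hB hY
    obtain ⟨i, hi⟩ := IsPGroup.iff_card.mp (hEp.to_le hB)
    obtain ⟨j, hj⟩ := IsPGroup.iff_card.mp (hRp.to_le hY)
    rw [hi, hj]
    exact ((Nat.coprime_primes hp.out Fact.out).mpr hqp.symm).pow i j
  have hAR : A ≤ normalizer (R : Set G) := hAM.trans (le_normalizer_core q M)
  have hER : E ≤ normalizer (R : Set G) := hEA.trans hAR
  have hEtop : E ≠ ⊤ := ne_top_of_isPGroup hG hEp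
  have hAB : ∀ {B : Subgroup G}, B ≤ A → A ≤ normalizer (B : Set G) := fun {B} hB =>
    (hAA.trans (Subgroup.centralizer_le hB)).trans (centralizer_le_normalizer _)
  by_cases hEcent : E ≤ centralizer (R : Set G)
  · obtain ⟨E₁, -, hE₁R, hE₁, hE₁3⟩ := h.extend_elementary ⊥ bot_le elementary_bot
    exact absurd (unique_of_centralizes hG (h.unique_three hG hE₁ hE₁3) hE
      ((Nat.pow_le_pow_right hp.out.pos (by norm_num)).trans hE3)
      (hEcent.trans (Subgroup.centralizer_le hE₁R))) hEu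
  have hBcard : ∀ B ∈ Cfsg.Lib.Coprime.cocyclic E, p ^ 2 ≤ Nat.card B := fun B hB => by
    have := hE3.trans (Cfsg.Lib.Sig.card_le_mul_of_cocyclic hE hB)
    rw [pow_succ'] at this
    exact Nat.le_of_mul_le_mul_left this hp.out.pos
  have hcyc : ∀ B ∈ Cfsg.Lib.Coprime.cocyclic E, IsCyclic (R ⊓ centralizer (B : Set G) : Subgroup G) := by
    intro B hB
    by_contra hnc
    obtain ⟨W, hWle, hW, hWc⟩ := exists_sq (h.ne_two hG) (hRp.to_le inf_le_left) hnc
    exact hEu (unique_of_le (unique_of_centralizes hG (h.unique_two hG (hWle.trans inf_le_left) hW hWc.ge)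
      (Cfsg.Lib.PGroup.isElementaryAbelian_of_le hE hB.1) (hBcard B hB)
      (le_centralizer_iff.mp (hWle.trans inf_le_right))) hB.1 hEtop)
  have hgen := Cfsg.Lib.Coprime.le_iSup_centralizer_cocyclic (A := E) R hER (hcop le_rfl le_rfl)
  obtain ⟨B, hB, hBE⟩ : ∃ B ∈ Cfsg.Lib.Coprime.cocyclic E,
      ¬ R ⊓ centralizer (B : Set G) ≤ centralizer (E : Set G) := by
    by_contra! hall
    exact hEcent (le_centralizer_iff.mp (hgen.trans (iSup₂_le hall)))
  obtain ⟨B2, hB2, hB2B⟩ : ∃ B2 ∈ Cfsg.Lib.Coprime.cocyclic E,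
      ¬ R ⊓ centralizer (B2 : Set G) ≤ centralizer (B : Set G) := by
    by_contra! hall
    have hRB : R ≤ centralizer (B : Set G) := hgen.trans (iSup₂_le hall)
    obtain ⟨E₁, -, hE₁R, hE₁, hE₁3⟩ := h.extend_elementary ⊥ bot_le elementary_bot
    haveI := hcyc B hB
    exact not_isCyclic_of_elementary hE₁ ((Nat.pow_le_pow_right (Fact.out : q.Prime).pos (by norm_num)).trans hE₁3)
      (isCyclic_of_injective (inclusion (le_inf hE₁R (hE₁R.trans hRB))) (inclusion_injective _))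
  have key : ∀ B ∈ Cfsg.Lib.Coprime.cocyclic E, ∀ B' : Subgroup G, B' ≤ E →
      ¬ R ⊓ centralizer (B : Set G) ≤ centralizer (B' : Set G) →
      ∃ v, v ∈ R ∧ v ^ q = 1 ∧ v ≠ 1 ∧ A ≤ normalizer (zpowers v : Set G) ∧
        v ∈ centralizer (B : Set G) ∧ ∃ x ∈ B', x * v ≠ v * x := by
    intro B hB B' hB' hnot
    set Y := R ⊓ centralizer (B : Set G)
    haveI := hcyc B hB
    have hYne : Y ≠ ⊥ := fun e => hnot (by rw [e]; exact bot_le)
    obtain ⟨v, hvY, hvq, hv1⟩ := exists_orderOf (hRp.to_le inf_le_left : IsPGroup q Y) hYne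
    have hAY : A ≤ normalizer (Y : Set G) :=
      Cfsg.Lib.Coprime.le_normalizer_inf_centralizer hAR (hAB (hB.1.trans hEA))
    refine ⟨v, hvY.1, hvq, hv1, ?_, hvY.2, ?_⟩
    · refine Cfsg.Lib.Sig.le_normalizer_of_invariant fun a ha y hy => ?_
      refine mem_zpowers_of_isCyclic hvY
        ((mem_normalizer_iff.mp (hAY ha) y).mp (zpowers_le.mpr hvY hy)) hvq hv1 ?_
      rw [conj_pow, pow_eq_one_of_mem_zpowers hvq hy, mul_one, mul_inv_cancel]
    · by_contra! hall
      exact hnot (le_centralizer_of_cyclic (hRp.to_le inf_le_left) ((hB'.trans hEA).trans hAY)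
        (hcop hB' inf_le_left) hvY hvq hv1 (mem_centralizer_iff.mpr hall))
  obtain ⟨v2, hv2R, hv2q, hv21, hAv2, hv2B, e, heE, he⟩ := key B hB E le_rfl hBE
  obtain ⟨v, hvR, hvq, hv1, hAv, hvB2, x, hxB, hx⟩ := key B2 hB2 B hB.1 hB2B
  have hxv2 : x * v2 = v2 * x := mem_centralizer_iff.mp hv2B x hxB
  refine ⟨?_, v, v2, x, e, ⟨hvR, hvq, hv1, hAv⟩, ⟨hv2R, hv2q, hv21, hAv2⟩, ⟨hB.1 hxB, hxv2, hx⟩,
    ⟨heE, he⟩, (hBcard B2 hB2).trans (card_le_of_le (le_inf hB2.1 fun b hb =>
      mem_centralizer_singleton_iff.mpr (mem_centralizer_iff.mp hvB2 b hb)))⟩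
  obtain ⟨b, hb, hb1⟩ : ∃ b ∈ B ⊓ B2, b ≠ 1 := by
    refine (B ⊓ B2).bot_or_exists_ne_one.resolve_left fun e0 => ?_
    have hinj : Function.Injective (fun ab : B × B2 =>
        (⟨(ab.1 : G) * ab.2, mul_mem (hB.1 ab.1.2) (hB2.1 ab.2.2)⟩ : E)) := by
      rintro ⟨a, b⟩ ⟨a', b'⟩ hab
      have h1 : (a : G) * b = a' * b' := congrArg Subtype.val hab
      have h2 : (a' : G)⁻¹ * a = b' * (b : G)⁻¹ := eq_mul_inv_of_mul_eq (by rw [mul_assoc, h1, inv_mul_cancel_left])
      have h3 : (a' : G)⁻¹ * a ∈ B ⊓ B2 :=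
        mem_inf.mpr ⟨mul_mem (inv_mem a'.2) a.2, h2 ▸ mul_mem b'.2 (inv_mem b.2)⟩
      rw [e0, mem_bot] at h3
      have h4 : (a : G) = a' := (inv_mul_eq_one.mp h3).symm
      refine Prod.ext (Subtype.ext h4) (Subtype.ext ?_)
      rw [h4] at h1
      exact mul_left_cancel h1
    have h1 := Nat.card_le_card_of_injective _ hinj
    rw [Nat.card_prod] at h1
    have hle : Nat.card E ≤ p * Nat.card B := Cfsg.Lib.Sig.card_le_mul_of_cocyclic hE hB
    have h2 : Nat.card B * p ^ 2 ≤ Nat.card B * p :=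
      ((Nat.mul_le_mul_left _ (hBcard B2 hB2)).trans h1).trans (hle.trans (mul_comm _ _).le)
    have h3 : p ^ 2 ≤ p := Nat.le_of_mul_le_mul_left h2 Nat.card_pos
    nlinarith [hp.out.two_le]
  set Y := R ⊓ centralizer ({b} : Set G)
  have hvY : v ∈ Y := ⟨hvR, mem_centralizer_singleton_iff.mpr (mem_centralizer_iff.mp hvB2 b hb.2).symm⟩
  have hv2Y : v2 ∈ Y := ⟨hv2R, mem_centralizer_singleton_iff.mpr (mem_centralizer_iff.mp hv2B b hb.1).symm⟩
  have hnc : ¬ IsCyclic Y := fun hc => by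
    haveI := hc
    obtain ⟨i, rfl⟩ := mem_zpowers_iff.mp (mem_zpowers_of_isCyclic hv2Y hvY hv2q hv21 hvq)
    exact hx ((show Commute x v2 from hxv2).zpow_right i).eq
  obtain ⟨W, hWY, hW, hWc⟩ := exists_sq (h.ne_two hG) (hRp.to_le inf_le_left) hnc
  have hCb : centralizer ({b} : Set G) ≤ M :=
    le_of_unique (h.unique_two hG (hWY.trans inf_le_left) hW hWc.ge) h.coatom
      ((hWY.trans inf_le_left).trans (core_le q M)) (hWY.trans inf_le_right)
      (OddTransitivity.centralizer_ne_top hG hb1)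
  exact (Subgroup.centralizer_le (Set.singleton_subset_iff.mpr (hEA (hB.1 hb.1)))).trans hCb

/-- An invariant `r`-subgroup lies in `M`, if an invariant subgroup of `M` contains a Sylow subgroup. -/
theorem le_of_cover {r : ℕ} [Fact r.Prime] {A X Y U M : Subgroup G} (hAX : A ≤ normalizer (X : Set G))
    (hcop : (Nat.card A).Coprime (Nat.card X)) (hsol : Group.IsSolvable A ∨ Group.IsSolvable X)
    (hYX : Y ≤ X) (hAY : A ≤ normalizer (Y : Set G)) {k : ℕ} (hk : k.Coprime r)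
    (hdiv : Nat.card X ∣ k * Nat.card Y) (hYM : Y ≤ M) (hCM : centralizer (A : Set G) ≤ M)
    (hUX : U ≤ X) (hU : IsPGroup r U) (hAU : A ≤ normalizer (U : Set G)) : U ≤ M := by
  obtain ⟨S₁, hUS, hS₁⟩ := Cfsg.Lib.Coprime.exists_invariant_sylow_ge hAX hcop hsol hUX hU hAU
  have hcopY : (Nat.card A).Coprime (Nat.card Y) := hcop.coprime_dvd_right (card_dvd_of_le hYX)
  have hsolY : Group.IsSolvable A ∨ Group.IsSolvable Y := hsol.imp id (Core.isSolvable_of_le hYX)
  obtain ⟨T, hT⟩ := Cfsg.Lib.Coprime.exists_invariant_sylow hAY hcopY hsolY r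
  obtain ⟨S₂, hTS, hS₂⟩ := Cfsg.Lib.Coprime.exists_invariant_sylow_ge hAX hcop hsol
    ((map_subtype_le (T : Subgroup Y)).trans hYX) (T.isPGroup'.map _) hT
  have heq : (T : Subgroup Y).map Y.subtype = (S₂ : Subgroup X).map X.subtype := by
    refine eq_of_le_of_card_ge hTS (Nat.le_of_dvd Nat.card_pos ?_)
    rw [card_map_of_injective X.subtype_injective, card_map_of_injective Y.subtype_injective,
      S₂.card_eq_multiplicity, T.card_eq_multiplicity]
    refine pow_dvd_pow r (((Fact.out : r.Prime).pow_dvd_iff_le_factorization Nat.card_pos.ne').mp ?_)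
    exact ((hk.symm.pow_left _).dvd_of_dvd_mul_left ((Nat.ordProj_dvd _ _).trans hdiv))
  obtain ⟨c, hc, hconj⟩ := Cfsg.Lib.Coprime.exists_centralizer_conj_sylow hAX hcop hsol S₂ S₁ hS₂ hS₁
  refine hUS.trans ?_
  rw [hconj, ← heq]
  rintro _ ⟨y, hy, rfl⟩
  have hcM : c ∈ M := hCM hc.2
  exact mul_mem (mul_mem hcM (hYM (map_subtype_le _ hy))) (inv_mem hcM)

/-- Invariant subgroups of `O_{p'} (C₀)` lie in `M` when a big core of a quotient of `C₀` meets it. -/
theorem le_of_core_case (hG : Cfsg.IsMinSimpleOddOrder G) {r r' : ℕ} [Fact r.Prime] [Fact r'.Prime]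
    {M : Subgroup G} (h : Good r M) {A C₀ : Subgroup G} [IsMulCommutative A] (hAp : IsPGroup p A)
    (hCA : centralizer (A : Set G) ≤ M) (hAC : A ≤ C₀) {N : Subgroup C₀} [N.Normal]
    (hNp : (Nat.card N).Coprime p) (hNr : (Nat.card N).Coprime r) (hNr' : (Nat.card N).Coprime r')
    (hrp : r ≠ p) {z : G} (hz : z ∈ core r M) (hzq : z ^ r = 1) (hz1 : z ≠ 1)
    {Z : Subgroup G} (hzZ : z ∈ Z) (hZ : IsPGroup r Z) (hZX : Z ≤ opp p C₀)
    (hAZ : A ≤ normalizer (Z : Set G))
    (hcase : (∃ hz₀ : z ∈ C₀, QuotientGroup.mk' N ⟨z, hz₀⟩ ∈ Cfsg.pCore r (C₀ ⧸ N)) ∨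
      ¬ IsCyclic (Cfsg.pCore r (C₀ ⧸ N)))
    {U : Subgroup G} (hU : IsPGroup r' U) (hUX : U ≤ opp p C₀) (hAU : A ≤ normalizer (U : Set G)) :
    U ≤ M := by
  set X := opp p C₀
  have hXC : X ≤ C₀ := opp_le C₀
  have hAX : A ≤ normalizer (X : Set G) := hAC.trans (le_normalizer_opp C₀)
  have hsol : ∀ Y : Subgroup G, Group.IsSolvable A ∨ Group.IsSolvable Y := fun _ =>
    Or.inl (Group.isSolvable_of_comm fun a b => mul_comm' a b)
  have hcop : (Nat.card A).Coprime (Nat.card X) := by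
    obtain ⟨i, hi⟩ := IsPGroup.iff_card.mp hAp
    rw [hi]
    exact (opp_coprime C₀).symm.pow_left i
  set f := QuotientGroup.mk' N
  set O := Cfsg.pCore r (C₀ ⧸ N) with hO
  set K₀ := O.comap f
  set K := K₀.map C₀.subtype
  obtain ⟨j, hj⟩ := IsPGroup.iff_card.mp (Core.pCore_isPGroup r (C₀ ⧸ N))
  have hKcard : Nat.card K = Nat.card N * r ^ j := by
    rw [card_map_of_injective C₀.subtype_injective, Core.card_comap_eq f (QuotientGroup.mk'_surjective N),
      QuotientGroup.ker_mk', hj]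
  have hKn : C₀ ≤ normalizer (K : Set G) := by
    haveI : K₀.Normal := (inferInstance : O.Normal).comap f
    exact le_normalizer_map_normal K₀
  have hKX : K ≤ X := le_opp (map_subtype_le _) hKn (by
    rw [hKcard]; exact hNp.mul_left (((Nat.coprime_primes Fact.out hp.out).mpr hrp).pow_left j))
  obtain ⟨S, hZS, hAS⟩ := Cfsg.Lib.Coprime.exists_invariant_sylow_ge hAX hcop (hsol X) hZX hZ hAZ
  set SG := (S : Subgroup X).map X.subtype
  set L := SG ⊓ K
  haveI hKsn : (K.subgroupOf X).Normal := (normal_subgroupOf_iff_le_normalizer hKX).mpr (hXC.trans hKn)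
  obtain ⟨U₁, hU₁⟩ := exists_sylow_inf S (K.subgroupOf X)
  have hU₁L : ((U₁ : Subgroup (K.subgroupOf X)).map (K.subgroupOf X).subtype).map X.subtype = L := by
    rw [hU₁, subgroupOf_map_subtype, map_inf _ _ _ X.subtype_injective, map_subgroupOf_eq_of_le hKX]
  have hLcard : r ^ j ∣ Nat.card L := by
    rw [← hU₁L, card_map_of_injective X.subtype_injective,
      card_map_of_injective (K.subgroupOf X).subtype_injective, U₁.card_eq_multiplicity,
      Nat.card_congr (subgroupOfEquivOfLe hKX).toEquiv]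
    refine pow_dvd_pow r (((Fact.out : r.Prime).pow_dvd_iff_le_factorization Nat.card_pos.ne').mp ?_)
    rw [hKcard]
    exact dvd_mul_left _ _
  have hLC : L ≤ C₀ := inf_le_right.trans (map_subtype_le _)
  set Ls := L.subgroupOf C₀
  have hLsp : IsPGroup r Ls :=
    (((S.isPGroup'.map X.subtype).to_le inf_le_left) : IsPGroup r L).of_equiv (subgroupOfEquivOfLe hLC).symm
  have hLsO : Ls.map f = O := by
    refine eq_of_le_of_card_ge ?_ ?_
    · rintro _ ⟨l, hl, rfl⟩
      obtain ⟨k, hk, hkl⟩ := (show (l : G) ∈ K from hl.2)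
      rw [← show k = l from Subtype.ext hkl]
      exact hk
    · rw [hj]
      refine (Nat.le_of_dvd Nat.card_pos hLcard).trans ?_
      rw [← Nat.card_congr (subgroupOfEquivOfLe hLC).toEquiv]
      refine Nat.card_le_card_of_injective (fun l : Ls => (⟨f l, mem_map_of_mem f l.2⟩ : Ls.map f)) ?_
      intro a b hab
      have h1 : f (a : C₀) = f b := congrArg Subtype.val hab
      have h2 : (a : C₀)⁻¹ * b ∈ Ls ⊓ N := by
        refine mem_inf.mpr ⟨mul_mem (inv_mem a.2) b.2, ?_⟩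
        rw [← QuotientGroup.eq_one_iff]
        show f ((a : C₀)⁻¹ * b) = 1
        rw [map_mul, map_inv, h1, inv_mul_cancel]
      rw [Cfsg.Lib.Sig.disjoint_of_isPGroup_coprime hLsp hNr, mem_bot, inv_mul_eq_one] at h2
      exact Subtype.ext h2
  have hNLM : normalizer (L : Set G) ≤ M := by
    refine h.normalizer_le hG hz hzq hz1 (S.isPGroup'.map _) (hZS hzZ) inf_le_left
      ((le_inf le_normalizer ((map_subtype_le _).trans (hXC.trans hKn))).trans
        inf_normalizer_le_normalizer_inf) ?_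
    rcases hcase with ⟨hz₀, hzO⟩ | hnc
    · exact Or.inl ⟨hZS hzZ, ⟨z, hz₀⟩, hzO, rfl⟩
    · refine Or.inr fun hc => hnc ?_
      haveI := hc
      haveI : IsCyclic Ls := isCyclic_of_injective (subgroupOfEquivOfLe hLC).toMonoidHom
        (subgroupOfEquivOfLe hLC).injective
      haveI : IsCyclic (Ls.map f) := isCyclic_of_surjective (f.subgroupMap Ls) (f.subgroupMap_surjective Ls)
      rwa [hLsO] at this
  have hAL : A ≤ normalizer (L : Set G) :=
    (le_inf hAS (hAC.trans hKn)).trans inf_normalizer_le_normalizer_inf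
  set Y := X ⊓ normalizer (L : Set G)
  refine le_of_cover hAX hcop (hsol X) (inf_le_left : Y ≤ X)
    ((le_inf hAX (hAL.trans le_normalizer)).trans inf_normalizer_le_normalizer_inf) hNr' ?_
    (inf_le_right.trans hNLM) hCA hUX hU hAU
  have hfr := Sylow.normalizer_sup_eq_top U₁
  rw [hU₁, subgroupOf_map_subtype] at hfr
  have hmap : (X.subgroupOf C₀).map f ≤ (Y.subgroupOf C₀).map f := by
    rintro _ ⟨x, hx, rfl⟩
    obtain ⟨n, hn, k, hk, hnk⟩ := mem_sup_of_normal_right.mp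
      (hfr.ge (mem_top (⟨x, hx⟩ : X)))
    have hnL : (n : G) ∈ normalizer (L : Set G) := by
      have h1 := le_normalizer_map X.subtype (mem_map_of_mem X.subtype hn)
      rw [map_inf _ _ _ X.subtype_injective, map_subgroupOf_eq_of_le hKX] at h1
      exact h1
    obtain ⟨k₀, hk₀, hkk⟩ := (show (k : G) ∈ K from hk)
    obtain ⟨l, hl, hfl⟩ := hLsO.ge hk₀
    refine ⟨⟨n, hXC n.2⟩ * l, mem_subgroupOf.mpr (mul_mem ⟨n.2, hnL⟩ ⟨?_, le_normalizer hl⟩), ?_⟩
    · exact map_subtype_le _ (hl : (l : G) ∈ L).1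
    · rw [map_mul, hfl, ← map_mul]
      congr 1
      apply Subtype.ext
      show (n : G) * (k₀ : G) = (x : G)
      rw [show (k₀ : G) = k from hkk]
      exact congrArg Subtype.val hnk
  have h1 : Nat.card X ∣ Nat.card N * Nat.card ((X.subgroupOf C₀).map f) := by
    rw [← Nat.card_congr (subgroupOfEquivOfLe hXC).toEquiv]
    have h2 := card_dvd_of_le (le_comap_map f (X.subgroupOf C₀))
    rwa [Core.card_comap_eq f (QuotientGroup.mk'_surjective N), QuotientGroup.ker_mk'] at h2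
  refine h1.trans (Nat.mul_dvd_mul_left _ ((card_dvd_of_le hmap).trans ((Core.card_map_dvd f _).trans ?_)))
  exact (Nat.card_congr (subgroupOfEquivOfLe (inf_le_left.trans hXC : Y ≤ C₀)).toEquiv).dvd

/-- The uniqueness theorem for elementary subgroups. -/
theorem unique_three (hG : Cfsg.IsMinSimpleOddOrder G) {E₀ : Subgroup G}
    (hE₀ : Cfsg.IsElementaryAbelian p E₀) (hE₀3 : p ^ 3 ≤ Nat.card E₀) : Cfsg.InUniqueMaximal E₀ := by
  by_contra hnot
  have hF : ∀ M : Subgroup G, IsCoatom M → Cfsg.PRankLE p 2 (Cfsg.fittingOf M) := fun M hM =>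
    by_contra fun h => hnot (unique_of_fitting_rank hG hM h hE₀ hE₀3)
  have hE₀p := Cfsg.Lib.PGroup.isPGroup_of_isElementaryAbelian hE₀
  obtain ⟨P, hE₀P⟩ := hE₀p.exists_le_sylow
  have hr := not_rankLE_of_elementary hE₀P hE₀ hE₀3
  obtain ⟨M, q, hq, hqp, hgood, hPM⟩ := exists_good hG hF P hr
  haveI : Fact q.Prime := ⟨hq⟩
  have hpG : p ∣ Nat.card G := by
    obtain ⟨i, hi⟩ := IsPGroup.iff_card.mp hE₀p
    refine (dvd_pow_self p ?_).trans (hi ▸ card_subgroup_dvd_card E₀)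
    intro h0
    rw [hi, h0, Nat.pow_le_pow_iff_right hp.out.one_lt] at hE₀3
    omega
  obtain ⟨A, hA, hAc, hA3⟩ := exists_scn (Uniq.ne_two hG hpG) P.isPGroup' hr
  haveI := hAc
  have hAp : IsPGroup p A := P.isPGroup'.to_le hA.1
  obtain ⟨E, hEA, hE, hE3⟩ := exists_elementary hA3
  have hEu : ¬ Cfsg.InUniqueMaximal E := fun hU => hnot (connect_all hG hE hE3 hU hE₀ hE₀3)
  obtain ⟨n, hn⟩ := IsPGroup.iff_card.mp hAp
  have hn0 : n ≠ 0 := fun h0 => by
    have := hE3.trans (card_le_of_le hEA)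
    rw [hn, h0, Nat.pow_le_pow_iff_right hp.out.one_lt] at this
    omega
  have hπ := primes_eq hn hn0 hp.out
  have hAT : Cfsg.TransitivityHypothesis A := Cfsg.Agent.S1396.result hG p hpG A hAp hAc
    (Or.inr ⟨P, hA, fun h1 => hA3 fun B he1 he2 =>
      (h1 B he1 he2).trans (Nat.pow_le_pow_right hp.out.pos one_le_two)⟩)
  have hAA : A ≤ centralizer (A : Set G) := le_centralizer_iff_isMulCommutative.mpr inferInstance
  have hAM : A ≤ M := hA.1.trans hPM
  obtain ⟨hCAM, v, v2, x, e, ⟨hvR, hvq, hv1, hAv⟩, ⟨hv2R, hv2q, hv21, hAv2⟩, ⟨hxE, hxv2, hxv⟩,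
    ⟨heE, hev2⟩, hBc⟩ := split hG hgood hqp hAM hEA hE hE3 hEu
  haveI := hE.1
  set B := E ⊓ centralizer ({v} : Set G) with hBdef
  have hBe := Cfsg.Lib.PGroup.isElementaryAbelian_of_le hE (inf_le_left : B ≤ E)
  refine hEu (unique_of_le (unique_of_centralizers hG hgood.coatom (inf_le_left.trans (hEA.trans hAM))
    hBe (not_isCyclic_of_elementary hBe hBc) fun b hb hb1 => ?_) inf_le_left
    (ne_top_of_isPGroup hG (Cfsg.Lib.PGroup.isPGroup_of_isElementaryAbelian hE)))
  by_contra hbM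
  obtain ⟨H, hH, hbH⟩ := exists_coatom (OddTransitivity.centralizer_ne_top hG hb1)
  have hHM : H ≠ M := fun e => hbM (e ▸ hbH)
  have hAH : A ≤ H :=
    (hAA.trans (Subgroup.centralizer_le (Set.singleton_subset_iff.mpr (hEA hb.1)))).trans hbH
  have hvH : v ∈ H := hbH (mem_centralizer_singleton_iff.mpr (mem_centralizer_singleton_iff.mp hb.2).symm)
  have hxN : x ∈ normalizer (zpowers v : Set G) := hAv (hEA hxE)
  -- some other core of `H` is moved by `v`
  obtain ⟨s, hs, hsq, hsv⟩ : ∃ s : ℕ, ∃ _ : Fact s.Prime, s ≠ q ∧ v ∉ centralizer (core s H : Set G) := by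
    by_contra! hall
    set D := core q H
    have hvF : v ∈ centralizer (D : Set G) → v ∈ D := by
      intro hc
      refine mem_core_of_fitting (centralizer_fitting_le hG hH.1 ⟨hvH, mem_centralizer_fitting
        fun r hr _ => ?_⟩) 1 (by rw [orderOf_eq hvq hv1, pow_one])
      by_cases hrq : r = q
      · subst hrq; exact hc
      · exact hall r hr hrq
    have hDne : D ≠ ⊥ := fun e => hv1 (by
      have h1 := hvF (by
        refine mem_centralizer_iff.mpr fun y hy => ?_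
        rw [e] at hy
        simp only [mem_bot.mp hy, one_mul, mul_one])
      rwa [e, mem_bot] at h1)
    have hvN : zpowers v ≤ normalizer (D : Set G) := (zpowers_le.mpr hvH).trans (le_normalizer_core q H)
    set S := D ⊔ zpowers v
    have hSp : IsPGroup q S := (core_isPGroup q H).to_sup_of_normal_left'
      (Cfsg.Lib.PGroup.isPGroup_of_isElementaryAbelian (elementary_zpowers hvq)) hvN
    have h1 := hgood.normalizer_le hG hvR hvq hv1 hSp (mem_sup_right (mem_zpowers v)) le_sup_left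
      (sup_le le_normalizer hvN) (by
        by_cases hc : IsCyclic D
        · left
          haveI := hc
          refine hvF ?_
          exact zpowers_le.mpr (commutator_mem_centralizer (le_normalizer_core q H (hAH (hEA hxE)))
            (le_normalizer_core q H hvH)) (mem_zpowers_commutator hvq hxN hxv)
        · exact Or.inr hc)
    rw [normalizer_normal_eq hG hH (core_le q H) hDne (le_normalizer_core q H)] at h1
    exact hHM ((hH.le_iff.mp h1).resolve_left hgood.coatom.1).symm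
  haveI := hs
  set T := core s H
  have hTgood : Good s H := good_of_not_commutator hG hH fun hc => hsv (by
    set φ := (MulAut.conjNormal (H := Cfsg.pCore s H) : H →* MulAut (Cfsg.pCore s H))
    set x' : H := ⟨x, hAH (hEA hxE)⟩
    set v' : H := ⟨v, hvH⟩
    obtain ⟨i, hi⟩ := hc ⟨φ.rangeRestrict ⁅x', v'⁆, by
      rw [map_commutatorElement]; exact commutator_mem_commutator (mem_top _) (mem_top _)⟩
    have h1 : φ ⁅x', v'⁆ ^ s ^ i = 1 := congrArg (fun a => ((a : φ.range) : MulAut (Cfsg.pCore s H)))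
      (congrArg Subtype.val hi)
    have hcmem : ⁅x, v⁆ ∈ zpowers v := by
      rw [show ⁅x, v⁆ = (x * v * x⁻¹) * v⁻¹ by simp [commutatorElement_def]]
      exact mul_mem ((mem_normalizer_iff.mp hxN v).mp (mem_zpowers v)) (inv_mem (mem_zpowers v))
    have h2 : φ ⁅x', v'⁆ ^ q = 1 := by
      rw [← map_pow, show ⁅x', v'⁆ ^ q = 1 from Subtype.ext (pow_eq_one_of_mem_zpowers hvq hcmem), map_one]
    have h3 : φ ⁅x', v'⁆ = 1 := orderOf_eq_one_iff.mp (Nat.eq_one_of_dvd_coprimes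
      (((Nat.coprime_primes Fact.out hq).mpr hsq).pow_left i) (orderOf_dvd_of_pow_eq_one h1)
      (orderOf_dvd_of_pow_eq_one h2))
    obtain ⟨k, hk⟩ := mem_zpowers_iff.mp (mem_zpowers_commutator hvq hxN hxv)
    have hv' : φ v' = 1 := by
      rw [← show ⁅x', v'⁆ ^ k = v' from Subtype.ext hk, map_zpow, h3, one_zpow]
    refine mem_centralizer_iff.mpr ?_
    rintro _ ⟨y, hy, rfl⟩
    have h4 : v' * y * v'⁻¹ = y := by
      rw [← MulAut.conjNormal_apply v' (⟨y, hy⟩ : Cfsg.pCore s H)]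
      exact congrArg Subtype.val (DFunLike.congr_fun hv' ⟨y, hy⟩)
    rw [mul_inv_eq_iff_eq_mul] at h4
    exact (congrArg Subtype.val h4).symm)
  have hsp : s ≠ p := fun e => by subst e; exact hTgood.fitting_rank (hF H hH)
  obtain ⟨hCAH, -⟩ := split hG hTgood hsp hAH hEA hE hE3 hEu
  -- the centralizer of `x`
  have hx1 : x ≠ 1 := fun e => hxv (by simp [e])
  set C₀ := centralizer ({x} : Set G)
  have hC₀top : C₀ ≠ ⊤ := OddTransitivity.centralizer_ne_top hG hx1
  haveI : Group.IsSolvable C₀ := hG.2.2.2 C₀ hC₀top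
  have hAC₀ : A ≤ C₀ := hAA.trans (Subgroup.centralizer_le (Set.singleton_subset_iff.mpr (hEA hxE)))
  have hinvX : ∀ {r : ℕ} [Fact r.Prime] {Y : Subgroup G}, r ≠ p → IsPGroup r Y → Y ≤ C₀ →
      A ≤ normalizer (Y : Set G) → Y ≤ opp p C₀ := by
    intro r _ Y hrp hY hYC hAY
    obtain ⟨i, hi⟩ := IsPGroup.iff_card.mp hY
    have h1 := OddTransitivity.le_core_of_inv hAT hC₀top hAC₀ (Y := Y) ⟨hYC, by
      rw [hπ]
      exact isPiSub_of_coprime hp.out (hi ▸ ((Nat.coprime_primes Fact.out hp.out).mpr hrp).pow_left i), hAY⟩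
    rwa [hπ] at h1
  set T₀ := T ⊓ C₀
  have hT₀p : IsPGroup s T₀ := (core_isPGroup s H).to_le inf_le_left
  have hAT₀ : A ≤ normalizer (T₀ : Set G) :=
    (le_inf (hAH.trans (le_normalizer_core s H)) (hAC₀.trans le_normalizer)).trans
      inf_normalizer_le_normalizer_inf
  have hT₀X : T₀ ≤ opp p C₀ := hinvX hsp hT₀p inf_le_right hAT₀
  have hv2C : v2 ∈ C₀ := mem_centralizer_singleton_iff.mpr hxv2.symm
  have hv2p := Cfsg.Lib.PGroup.isPGroup_of_isElementaryAbelian (elementary_zpowers hv2q)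
  have hv2X : zpowers v2 ≤ opp p C₀ := hinvX hqp hv2p (zpowers_le.mpr hv2C) hAv2
  have hv2H : v2 ∉ H := by
    intro hv2H
    set Y := core q M ⊓ H
    have hnc : ¬ IsCyclic Y := fun hc => by
      haveI := hc
      obtain ⟨i, rfl⟩ := mem_zpowers_iff.mp
        (mem_zpowers_of_isCyclic (Y := Y) ⟨hv2R, hv2H⟩ ⟨hvR, hvH⟩ hv2q hv21 hvq)
      exact hxv ((show Commute x v2 from hxv2).zpow_right i).eq
    obtain ⟨W, hWY, hW, hWc⟩ := exists_sq (hgood.ne_two hG) ((core_isPGroup q M).to_le inf_le_left) hnc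
    exact hHM (eq_of_unique (hgood.unique_two hG (hWY.trans inf_le_left) hW hWc.ge) hgood.coatom
      ((hWY.trans inf_le_left).trans (core_le q M)) hH (hWY.trans inf_le_right))
  have hT₀M : ¬ T₀ ≤ M := by
    intro hle
    refine hsv (centralizes_of_frobenius (core_isPGroup s H) hsq hsp (le_normalizer_core s H hvH)
      (le_normalizer_core s H (hAH (hEA hxE))) hvq (hE.2 x hxE) hxN hxv fun y hy => ?_)
    have hc : y * v * y⁻¹ * v⁻¹ ∈ core q M ⊓ T := by
      refine mem_inf.mpr ⟨mul_mem ((mem_normalizer_iff.mp (le_normalizer_core q M (hle hy)) v).mp hvR)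
        (inv_mem hvR), ?_⟩
      rw [show y * v * y⁻¹ * v⁻¹ = y * (v * y⁻¹ * v⁻¹) by group]
      exact mul_mem hy.1 ((mem_normalizer_iff.mp (le_normalizer_core s H hvH) _).mp (inv_mem hy.1))
    rw [Cfsg.Lib.Sig.disjoint_of_isPGroup_coprime (core_isPGroup q M) (by
      obtain ⟨i, hi⟩ := IsPGroup.iff_card.mp (core_isPGroup s H)
      rw [hi]
      exact ((Nat.coprime_primes Fact.out hq).mpr hsq).pow_left i), mem_bot, mul_inv_eq_one,
      mul_inv_eq_iff_eq_mul] at hc
    exact mem_centralizer_singleton_iff.mpr hc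
  obtain ⟨t, htT, htq, ht1⟩ := exists_orderOf hT₀p fun e => hT₀M (e ▸ bot_le)
  -- the quotient by `O_σ`, `σ` the primes other than `p`, `q`, `s`
  set σ : Set ℕ := {r | r.Prime ∧ r ≠ p ∧ r ≠ q ∧ r ≠ s} with hσ
  set N := Cfsg.piCore σ C₀
  have hN : ∀ r : ℕ, r.Prime → r ∉ σ → (Nat.card N).Coprime r := fun r hr hrσ =>
    (hr.coprime_iff_not_dvd.mpr fun hd => hrσ (Core.piCore_isPiSub σ C₀ r hr hd)).symm
  have hNp := hN p hp.out (by simp [hσ])
  have hNq := hN q hq (by simp [hσ])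
  have hNs := hN s Fact.out (by simp [hσ])
  set f := QuotientGroup.mk' N
  haveI : Group.IsSolvable (C₀ ⧸ N) := Group.isSolvable_of_surjective (QuotientGroup.mk'_surjective N)
  set w : C₀ := ⟨v2, hv2C⟩
  set e' : C₀ := ⟨e, hAC₀ (hEA heE)⟩
  have hwc : ∀ (r : ℕ), IsCyclic (Cfsg.pCore r (C₀ ⧸ N)) →
      f w ∈ centralizer (Cfsg.pCore r (C₀ ⧸ N) : Set (C₀ ⧸ N)) := by
    intro r hc
    haveI := hc
    obtain ⟨k, hk⟩ := mem_zpowers_iff.mp (mem_zpowers_commutator hv2q (hAv2 (hEA heE)) hev2)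
    have h1 : ⁅f e', f w⁆ ∈ centralizer (Cfsg.pCore r (C₀ ⧸ N) : Set (C₀ ⧸ N)) :=
      commutator_mem_centralizer (by rw [normalizer_eq_top]; trivial) (by rw [normalizer_eq_top]; trivial)
    rw [← show ⁅e', w⁆ ^ k = w from Subtype.ext hk, map_zpow, map_commutatorElement]
    exact zpow_mem h1 k
  have hZ₀ : t ∈ T := htT.1
  by_cases hOs : IsCyclic (Cfsg.pCore s (C₀ ⧸ N))
  swap
  · exact hv2H (le_of_core_case hG hTgood hAp hCAH hAC₀ hNp hNs hNq hsp hZ₀ htq ht1 htT hT₀p hT₀X hAT₀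
      (Or.inr hOs) hv2p hv2X hAv2 (mem_zpowers v2))
  refine hT₀M (le_of_core_case hG hgood hAp hCAM hAC₀ hNp hNq hNs hqp hv2R hv2q hv21 (mem_zpowers v2)
    hv2p hv2X hAv2 ?_ hT₀p hT₀X hAT₀)
  by_cases hOq : IsCyclic (Cfsg.pCore q (C₀ ⧸ N))
  swap
  · exact Or.inr hOq
  refine Or.inl ⟨hv2C, ?_⟩
  have hwF : f w ∈ Cfsg.fittingSubgroup (C₀ ⧸ N) := by
    refine Core.centralizer_fitting_le_of_isSolvable ?_
    refine mem_centralizer_iff.mpr fun y hy => mem_centralizer_singleton_iff.mp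
      (show y ∈ centralizer ({f w} : Set (C₀ ⧸ N)) from ?_)
    refine Cfsg.Lib.PGroup.mem_of_ordCompl_pow_mem fun r hr _ => ?_
    haveI : Fact r.Prime := ⟨hr⟩
    have hyr := NarrowAut.mem_pCore_of_fitting (pow_mem hy _) _
      (Cfsg.Lib.PGroup.orderOf_ordCompl_pow (g := y) hr)
    refine mem_centralizer_singleton_iff.mpr ?_
    by_cases hrp : r = p
    · subst hrp
      have hw1 : f w ∈ Cfsg.pPrimeCore r (C₀ ⧸ N) := by
        refine Core.map_pPrimeCore_le f (QuotientGroup.mk'_surjective N) (mem_map_of_mem f ?_)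
        have h1 := hv2X (mem_zpowers v2)
        rw [opp_eq_map] at h1
        obtain ⟨w', hw', hww'⟩ := h1
        rwa [← show w' = w from Subtype.ext hww']
      exact commutatorElement_eq_one_iff_mul_comm.mp (mem_bot.mp
        (Core.commutator_pCore_pPrimeCore.le (commutator_mem_commutator hyr hw1)))
    by_cases hrq : r = q
    · subst hrq; exact mem_centralizer_iff.mp (hwc r hOq) _ hyr
    by_cases hrs : r = s
    · subst hrs; exact mem_centralizer_iff.mp (hwc r hOs) _ hyr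
    have hbot : Cfsg.pCore r (C₀ ⧸ N) = ⊥ := le_bot_iff.mp ((Core.le_piCore' inferInstance fun t ht htd => by
      obtain ⟨i, hi⟩ := IsPGroup.iff_card.mp (Core.pCore_isPGroup r (C₀ ⧸ N))
      rw [hi] at htd
      rw [(Nat.prime_dvd_prime_iff_eq ht hr).mp (ht.dvd_of_dvd_pow htd)]
      exact ⟨hr, hrp, hrq, hrs⟩).trans (Core.piCore_quotient_eq_bot (π := σ) (G := C₀)).le)
    rw [hbot, mem_bot] at hyr
    rw [hyr, one_mul, mul_one]
  obtain ⟨i, -, hi⟩ := (Nat.dvd_prime_pow hq).mp (show orderOf (f w) ∣ q ^ 1 by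
    rw [pow_one]
    refine (orderOf_map_dvd f w).trans ?_
    exact orderOf_dvd_of_pow_eq_one (Subtype.ext hv2q))
  exact NarrowAut.mem_pCore_of_fitting hwF i hi

end Cfsg.Lib.Local.Uniq
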