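import Cfsg.Agent.Lib.Local.Uniq.Criterion
import Mathlib.LinearAlgebra.Matrix.GeneralLinearGroup.Card

/-!
Propagation of uniqueness through commuting subgroups and inside a prime.
-/

set_option autoImplicit false
set_option linter.style.haveILetI false

namespace Cfsg.Lib.Local.Uniq

open Subgroup

universe u

variable {G : Type u} [Group G] [Finite G] {p : ℕ} [hp : Fact p.Prime]

omit [Finite G] in
theorem not_isCyclic_of_elementary [Finite G] {E : Subgroup G} (hE : Cfsg.IsElementaryAbelian p E)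
    (hc : p ^ 2 ≤ Nat.card E) : ¬ IsCyclic E := fun h => by
  haveI := h
  haveI := Fintype.ofFinite E
  classical
  have h' := IsCyclic.card_pow_eq_one_le (α := E) hp.out.pos
  have he : ∀ a : E, a ^ p = 1 := fun a => Subtype.ext (by simpa using hE.2 a a.2)
  rw [Finset.filter_true_of_mem (fun a _ => he a), Finset.card_univ, ← Nat.card_eq_fintype_card] at h'
  have := (hc.trans h')
  nlinarith [hp.out.two_le]

omit [Finite G] in
theorem ne_bot_of_card [Finite G] {E : Subgroup G} {k : ℕ} (hk : k ≠ 0) (hc : p ^ k ≤ Nat.card E) : E ≠ ⊥ :=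
  fun e => by
    rw [e, card_bot] at hc
    exact absurd hc (not_le.mpr (Nat.one_lt_pow hk hp.out.one_lt))

theorem centralizer_ne_top_of (hG : Cfsg.IsMinSimpleOddOrder G) {X : Subgroup G} (hX : X ≠ ⊥) :
    centralizer (X : Set G) ≠ ⊤ := fun h => by
  obtain ⟨x, hx, hx1⟩ := X.bot_or_exists_ne_one.resolve_left hX
  exact OddTransitivity.centralizer_ne_top hG hx1
    (top_le_iff.mp (h.ge.trans (centralizer_le (Set.singleton_subset_iff.mpr hx))))

/-- `S1399` for elementary subgroups. -/
theorem unique_of_centralizes (hG : Cfsg.IsMinSimpleOddOrder G) {L E : Subgroup G}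
    (hL : Cfsg.InUniqueMaximal L) (hE : Cfsg.IsElementaryAbelian p E) (hc : p ^ 2 ≤ Nat.card E)
    (hEL : E ≤ centralizer (L : Set G)) : Cfsg.InUniqueMaximal E := by
  obtain ⟨M, hM, hLM⟩ := hL.exists
  have hEM : E ≤ M := hEL.trans ((centralizer_le_normalizer _).trans (normalizer_le_of_unique hG hL hM hLM))
  refine unique_of_centralizers hG hM hEM hE (not_isCyclic_of_elementary hE hc) fun b hb hb1 => ?_
  refine le_of_unique hL hM hLM ?_ (OddTransitivity.centralizer_ne_top hG hb1)
  intro x hx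
  exact mem_centralizer_singleton_iff.mpr (mem_centralizer_iff.mp (hEL hb) x hx)

/-- The maximal subgroup of a uniqueness subgroup is also that of a commuting one. -/
theorem mem_of_centralizes (hG : Cfsg.IsMinSimpleOddOrder G) {L E M : Subgroup G}
    (hL : Cfsg.InUniqueMaximal L) (hM : IsCoatom M) (hLM : L ≤ M) (hEL : E ≤ centralizer (L : Set G)) :
    E ≤ M :=
  hEL.trans ((centralizer_le_normalizer _).trans (normalizer_le_of_unique hG hL hM hLM))

omit hp in
theorem card_mulAut_sq {W : Type u} [CommGroup W] [Finite W] {q : ℕ} [Fact q.Prime]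
    (hexp : ∀ w : W, w ^ q = 1) (hW : Nat.card W ≤ q ^ 2) {H : Subgroup (MulAut W)} (hH : IsPGroup q H) :
    Nat.card H ≤ q := by
  obtain ⟨f, hf⟩ := RankTwoAut.exists_embedding hexp hW
  haveI : Finite (MulAut W) := Finite.of_injective f hf
  obtain ⟨i, hi⟩ := IsPGroup.iff_card.mp (hH.map f)
  have hd : q ^ i ∣ Nat.card (GL (Fin 2) (ZMod q)) := hi ▸ card_subgroup_dvd_card _
  have hq : q.Prime := Fact.out
  rw [Matrix.card_GL_field, Fin.prod_univ_two, ZMod.card] at hd
  simp only [Fin.val_zero, pow_zero, Fin.val_one, pow_one] at hd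
  rw [← card_map_of_injective hf, hi]
  have h1 : (q ^ 2 - 1).Coprime q := by
    refine (hq.coprime_iff_not_dvd.mpr fun h => ?_).symm
    have hpos : 0 < q ^ 2 := pow_pos hq.pos 2
    have h2 : q ∣ q ^ 2 - (q ^ 2 - 1) := Nat.dvd_sub (dvd_pow_self q two_ne_zero) h
    rw [Nat.sub_sub_self hpos] at h2
    exact hq.ne_one (Nat.dvd_one.mp h2)
  have h2 : (q - 1).Coprime q := by
    refine (hq.coprime_iff_not_dvd.mpr fun h => ?_).symm
    have := hq.two_le
    have := Nat.le_of_dvd (by omega) h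
    omega
  have e : q ^ 2 - q = q * (q - 1) := by rw [Nat.mul_sub, mul_one, sq]
  rw [e, ← mul_assoc, mul_comm (q ^ 2 - 1) q, mul_assoc] at hd
  have hcop : Nat.Coprime (q ^ i) ((q ^ 2 - 1) * (q - 1)) := (h1.symm.pow_left i).mul_right (h2.symm.pow_left i)
  exact Nat.le_of_dvd hq.pos (hcop.dvd_of_dvd_mul_right hd)

/-- In a `p`-group, the centralizer of a normal elementary subgroup of order `p ^ 2` has index at
most `p` in any subgroup. -/
theorem card_le_mul_inf_centralizer {P E₀ F : Subgroup G} (hP : IsPGroup p P) (hE₀ : Cfsg.IsElementaryAbelian p E₀)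
    (hc : Nat.card E₀ ≤ p ^ 2) (hn : P ≤ normalizer (E₀ : Set G)) (hFP : F ≤ P) :
    Nat.card F ≤ p * Nat.card (F ⊓ centralizer (E₀ : Set G) : Subgroup G) := by
  haveI := hE₀.1
  letI : CommGroup E₀ := { (inferInstance : Group E₀) with mul_comm := fun a b => mul_comm' a b }
  set φ : F →* MulAut E₀ := (normalizerMonoidHom E₀).comp (inclusion (hFP.trans hn)) with hφ
  have hker : Nat.card φ.ker = Nat.card (F ⊓ centralizer (E₀ : Set G) : Subgroup G) := by
    rw [← card_map_of_injective F.subtype_injective]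
    congr 2
    apply le_antisymm
    · rintro _ ⟨x, hx, rfl⟩
      refine ⟨x.2, mem_centralizer_iff.mpr fun e he => ?_⟩
      have h1 : (x : G) * e * (x : G)⁻¹ = e :=
        congrArg (fun g : MulAut E₀ => ((g ⟨e, he⟩ : E₀) : G)) (MonoidHom.mem_ker.mp hx)
      show e * (x : G) = x * e
      rw [mul_inv_eq_iff_eq_mul] at h1
      exact h1.symm
    · rintro x ⟨hx, hxc⟩
      refine ⟨⟨x, hx⟩, MonoidHom.mem_ker.mpr (MulEquiv.ext fun e => Subtype.ext ?_), rfl⟩
      show x * (e : G) * x⁻¹ = e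
      rw [← mem_centralizer_iff.mp hxc e e.2, mul_inv_cancel_right]
  rw [← φ.ker.card_mul_index, index_ker, hker, mul_comm]
  refine Nat.mul_le_mul_right _ (card_mulAut_sq (fun w => Subtype.ext (by simpa using hE₀.2 w w.2)) hc ?_)
  exact (hP.to_le hFP).of_surjective φ.rangeRestrict φ.rangeRestrict_surjective

/-- All elementary subgroups of order at least `p ^ 3` of a `p`-group are uniqueness subgroups for the
same maximal subgroup, as soon as one is. -/
theorem connect (hG : Cfsg.IsMinSimpleOddOrder G) (hp2 : p ≠ 2) {P : Subgroup G} (hP : IsPGroup p P)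
    {E F M : Subgroup G} (hEP : E ≤ P) (hE : Cfsg.IsElementaryAbelian p E) (hE3 : p ^ 3 ≤ Nat.card E)
    (hU : Cfsg.InUniqueMaximal E) (hM : IsCoatom M) (hEM : E ≤ M)
    (hFP : F ≤ P) (hF : Cfsg.IsElementaryAbelian p F) (hF3 : p ^ 3 ≤ Nat.card F) :
    Cfsg.InUniqueMaximal F ∧ F ≤ M := by
  have hnc : ¬ IsCyclic P := fun h => not_isCyclic_of_elementary hE
    ((Nat.pow_le_pow_right hp.out.pos (by norm_num)).trans hE3) (by
      haveI := h
      exact isCyclic_of_injective (inclusion hEP) (inclusion_injective hEP))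
  obtain ⟨E', hE'n, hE'e, hE'c⟩ := Cfsg.Agent.S0126.result hp2 hP hnc
  set E₀ := E'.map P.subtype with hE₀def
  have hE₀ : Cfsg.IsElementaryAbelian p E₀ := Cfsg.Lib.PGroup.isElementaryAbelian_map hE'e P.subtype
  have hE₀c : Nat.card E₀ = p ^ 2 := by rw [card_map_of_injective P.subtype_injective, hE'c]
  have hn : P ≤ normalizer (E₀ : Set G) :=
    (le_of_eq (by rw [normalizer_eq_top, ← MonoidHom.range_eq_map, range_subtype])).trans
      (le_normalizer_map P.subtype)
  have key : ∀ X : Subgroup G, X ≤ P → p ^ 3 ≤ Nat.card X →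
      p ^ 2 ≤ Nat.card (X ⊓ centralizer (E₀ : Set G) : Subgroup G) := fun X hX h3 => by
    have := h3.trans (card_le_mul_inf_centralizer hP hE₀ hE₀c.le hn hX)
    rw [pow_succ'] at this
    exact Nat.le_of_mul_le_mul_left this hp.out.pos
  set E' := E ⊓ centralizer (E₀ : Set G)
  have hE'e : Cfsg.IsElementaryAbelian p E' := Cfsg.Lib.PGroup.isElementaryAbelian_of_le hE inf_le_left
  haveI := hE.1
  haveI := hF.1
  have hU1 : Cfsg.InUniqueMaximal E' := unique_of_centralizes hG hU hE'e (key E hEP hE3)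
    (inf_le_left.trans (le_centralizer_iff_isMulCommutative.mpr inferInstance))
  have hE'M : E' ≤ M := inf_le_left.trans hEM
  have hE₀C : E₀ ≤ centralizer (E' : Set G) := le_centralizer_iff.mp inf_le_right
  have hU0 : Cfsg.InUniqueMaximal E₀ := unique_of_centralizes hG hU1 hE₀ hE₀c.ge hE₀C
  have hE₀M : E₀ ≤ M := mem_of_centralizes hG hU1 hM hE'M hE₀C
  set F' := F ⊓ centralizer (E₀ : Set G)
  have hF'e : Cfsg.IsElementaryAbelian p F' := Cfsg.Lib.PGroup.isElementaryAbelian_of_le hF inf_le_left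
  have hU2 : Cfsg.InUniqueMaximal F' := unique_of_centralizes hG hU0 hF'e (key F hFP hF3) inf_le_right
  have hF'M : F' ≤ M := mem_of_centralizes hG hU0 hM hE₀M inf_le_right
  have hFtop : F ≠ ⊤ := ne_top_of_isPGroup hG (hP.to_le hFP)
  exact ⟨unique_of_le hU2 inf_le_left hFtop, le_of_unique hU2 hM hF'M inf_le_left hFtop⟩

/-- All elementary subgroups of order at least `p ^ 3` are uniqueness subgroups, as soon as one is. -/
theorem connect_all (hG : Cfsg.IsMinSimpleOddOrder G) {E : Subgroup G} (hE : Cfsg.IsElementaryAbelian p E)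
    (hE3 : p ^ 3 ≤ Nat.card E) (hU : Cfsg.InUniqueMaximal E) {F : Subgroup G}
    (hF : Cfsg.IsElementaryAbelian p F) (hF3 : p ^ 3 ≤ Nat.card F) : Cfsg.InUniqueMaximal F := by
  have hEp := Cfsg.Lib.PGroup.isPGroup_of_isElementaryAbelian hE
  have hpG : p ∣ Nat.card G := by
    obtain ⟨i, hi⟩ := IsPGroup.iff_card.mp hEp
    refine dvd_trans ?_ (card_subgroup_dvd_card E)
    rw [hi] at hE3 ⊢
    exact dvd_pow_self p (by have := (Nat.pow_le_pow_iff_right hp.out.one_lt).mp hE3; omega)
  obtain ⟨P, hEP⟩ := hEp.exists_le_sylow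
  obtain ⟨Q, hFQ⟩ := (Cfsg.Lib.PGroup.isPGroup_of_isElementaryAbelian hF).exists_le_sylow
  obtain ⟨g, hg⟩ := MulAction.exists_smul_eq G Q P
  have hle : F.map (MulAut.conj g).toMonoidHom ≤ (P : Subgroup G) := by
    rw [← hg, Sylow.coe_subgroup_smul]; exact map_mono hFQ
  obtain ⟨M, hM, hEM⟩ := hU.exists
  have h := (connect hG (ne_two hG hpG) P.isPGroup' hEP hE hE3 hU hM hEM hle
    (Cfsg.Lib.PGroup.isElementaryAbelian_map hF _) (by rwa [Cfsg.Lib.Coprime.card_map_conj])).1
  have := unique_conj h g⁻¹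
  rwa [OddTransitivity.map_conj_conj, inv_mul_cancel, map_one,
    show F.map ((1 : MulAut G).toMonoidHom) = F from map_id F] at this

end Cfsg.Lib.Local.Uniq
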