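import Cfsg.Agent.Lib.Local.OddTransitivity
import Cfsg.Agent.Lib.Local.PuigZL
import Cfsg.Agent.S1466
import Cfsg.Agent.Lib.Fusion.Alperin

/-!
Generalities on maximal subgroups of a minimal simple group of odd order.
-/

set_option autoImplicit false
set_option linter.style.haveILetI false

namespace Cfsg.Lib.Local.Uniq

open Subgroup

universe u

variable {G : Type u} [Group G] [Finite G]

/-! ### Uniqueness subgroups -/

theorem exists_coatom {X : Subgroup G} (hX : X ≠ ⊤) : ∃ M : Subgroup G, IsCoatom M ∧ X ≤ M :=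
  (eq_top_or_exists_le_coatom X).resolve_left hX

omit [Finite G] in
theorem eq_of_unique {X M H : Subgroup G} (hU : Cfsg.InUniqueMaximal X) (hM : IsCoatom M) (hXM : X ≤ M)
    (hH : IsCoatom H) (hXH : X ≤ H) : H = M :=
  hU.unique ⟨hH, hXH⟩ ⟨hM, hXM⟩

theorem le_of_unique {X Y M : Subgroup G} (hU : Cfsg.InUniqueMaximal X) (hM : IsCoatom M) (hXM : X ≤ M)
    (hXY : X ≤ Y) (hY : Y ≠ ⊤) : Y ≤ M := by
  obtain ⟨H, hH, hYH⟩ := exists_coatom hY
  exact hYH.trans (eq_of_unique hU hM hXM hH (hXY.trans hYH)).le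

theorem unique_of_le {X Y : Subgroup G} (hU : Cfsg.InUniqueMaximal X) (hXY : X ≤ Y) (hY : Y ≠ ⊤) :
    Cfsg.InUniqueMaximal Y := by
  obtain ⟨H, hH, hYH⟩ := exists_coatom hY
  exact ⟨H, ⟨hH, hYH⟩, fun H' h' => eq_of_unique hU hH (hXY.trans hYH) h'.1 (hXY.trans h'.2)⟩

omit [Finite G] in
theorem unique_of_forall {X M : Subgroup G} (hM : IsCoatom M) (hXM : X ≤ M)
    (h : ∀ H : Subgroup G, IsCoatom H → X ≤ H → H = M) : Cfsg.InUniqueMaximal X :=
  ⟨M, ⟨hM, hXM⟩, fun H h' => h H h'.1 h'.2⟩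

omit [Finite G] in
theorem ne_top_of_unique {X : Subgroup G} (hU : Cfsg.InUniqueMaximal X) : X ≠ ⊤ := fun e => by
  obtain ⟨M, hM, hXM⟩ := hU.exists
  exact hM.1 (top_le_iff.mp (e ▸ hXM))

theorem ne_bot_of_unique (hG : Cfsg.IsMinSimpleOddOrder G) {X : Subgroup G}
    (hU : Cfsg.InUniqueMaximal X) : X ≠ ⊥ := fun e => by
  obtain ⟨M, hM, hXM⟩ := hU.exists
  refine hM.1 (eq_top_iff.mpr fun g _ => ?_)
  refine le_of_unique hU hM hXM (e ▸ bot_le) ?_ (mem_zpowers g)
  exact CN.ne_top_of_isSolvable hG (Group.isSolvable_of_comm fun a b => mul_comm' a b)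

omit [Finite G] in
theorem map_conj_le_iff {X Y : Subgroup G} {g : G} :
    X.map (MulAut.conj g).toMonoidHom ≤ Y ↔ X ≤ Y.map (MulAut.conj g⁻¹).toMonoidHom := by
  constructor <;> intro h x hx
  · exact ⟨g * x * g⁻¹, h ⟨x, hx, rfl⟩, by simp [mul_assoc]⟩
  · obtain ⟨y, hy, rfl⟩ := hx
    obtain ⟨z, hz, he⟩ := h hy
    simp only [MulEquiv.coe_toMonoidHom, MulAut.conj_apply] at he ⊢
    rw [← he]
    simpa [mul_assoc] using hz

theorem isCoatom_map_conj {M : Subgroup G} (hM : IsCoatom M) (g : G) :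
    IsCoatom (M.map (MulAut.conj g).toMonoidHom) := by
  refine ⟨fun e => hM.1 (eq_top_iff.mpr fun x _ => ?_), fun N hN => ?_⟩
  · obtain ⟨y, hy, he⟩ := e.ge (mem_top (g * x * g⁻¹))
    rwa [show x = y by simpa using he.symm]
  · have h : M < N.map (MulAut.conj g⁻¹).toMonoidHom := by
      refine lt_of_le_of_ne (map_conj_le_iff.mp hN.le) fun e => hN.ne ?_
      rw [e, OddTransitivity.map_conj_conj, mul_inv_cancel, map_one]
      exact map_id N
    refine eq_top_iff.mpr fun x _ => ?_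
    obtain ⟨y, hy, he⟩ := (hM.2 _ h).ge (mem_top (g⁻¹ * x * g))
    rwa [show x = y by simpa using he.symm]

theorem unique_conj {X : Subgroup G} (hU : Cfsg.InUniqueMaximal X) (g : G) :
    Cfsg.InUniqueMaximal (X.map (MulAut.conj g).toMonoidHom) := by
  obtain ⟨M, hM, hXM⟩ := hU.exists
  refine unique_of_forall (isCoatom_map_conj hM g) (map_mono hXM) fun H hH hXH => ?_
  have h := eq_of_unique hU hM hXM (isCoatom_map_conj hH g⁻¹) (map_conj_le_iff.mp hXH)
  rw [← h, OddTransitivity.map_conj_conj, mul_inv_cancel, map_one]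
  exact (map_id H).symm

theorem normalizer_le_of_unique (hG : Cfsg.IsMinSimpleOddOrder G) {X M : Subgroup G}
    (hU : Cfsg.InUniqueMaximal X) (hM : IsCoatom M) (hXM : X ≤ M) : normalizer (X : Set G) ≤ M :=
  le_of_unique hU hM hXM le_normalizer (OddTransitivity.normalizer_ne_top_of hG (ne_bot_of_unique hG hU)
    (ne_top_of_unique hU))

theorem eq_normalizer (hG : Cfsg.IsMinSimpleOddOrder G) {M N : Subgroup G} (hM : IsCoatom M)
    (hN : N ≠ ⊥) (hN' : N ≠ ⊤) (h : M ≤ normalizer (N : Set G)) : normalizer (N : Set G) = M :=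
  (hM.le_iff.mp h).resolve_left (OddTransitivity.normalizer_ne_top_of hG hN hN')

theorem ne_top_of_isPGroup (hG : Cfsg.IsMinSimpleOddOrder G) {p : ℕ} [Fact p.Prime] {R : Subgroup G}
    (hR : IsPGroup p R) : R ≠ ⊤ :=
  CN.ne_top_of_isSolvable hG (CN.isSolvable_of_nilpotent hR.isNilpotent)

theorem ne_two (hG : Cfsg.IsMinSimpleOddOrder G) {p : ℕ} (hp : p ∣ Nat.card G) : p ≠ 2 := fun h =>
  Nat.not_even_iff_odd.2 hG.1 (even_iff_two_dvd.2 (h ▸ hp))

omit [Finite G] in
theorem odd_subgroup (hG : Cfsg.IsMinSimpleOddOrder G) (X : Subgroup G) : Odd (Nat.card X) :=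
  hG.1.of_dvd_nat X.card_subgroup_dvd_card

/-! ### The core `O_{p'}` of a subgroup -/

variable {p : ℕ} [hp : Fact p.Prime]

/-- `O_{p'} (X)`. -/
abbrev opp (p : ℕ) (X : Subgroup G) : Subgroup G := Cfsg.piCoreOf (Cfsg.primesNotDvd p) X

omit [Finite G] hp in
theorem isPiSub_of_coprime (hp : p.Prime) {Y : Subgroup G} (h : (Nat.card Y).Coprime p) :
    Core.IsPiSub (Cfsg.primesNotDvd p) Y := fun r hr hd => ⟨hr, fun hrp => by
  rw [(Nat.prime_dvd_prime_iff_eq hr hp).mp hrp] at hd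
  exact hp.coprime_iff_not_dvd.mp h.symm hd⟩

omit [Finite G] in
theorem coprime_of_isPiSub {Y : Subgroup G} (h : Core.IsPiSub (Cfsg.primesNotDvd p) Y) :
    (Nat.card Y).Coprime p :=
  (hp.out.coprime_iff_not_dvd.mpr fun hd => (h p hp.out hd).2 dvd_rfl).symm

omit [Finite G] hp in
theorem opp_le (X : Subgroup G) : opp p X ≤ X := map_subtype_le _

theorem opp_coprime (X : Subgroup G) : (Nat.card (opp p X)).Coprime p :=
  coprime_of_isPiSub (OddTransitivity.piCoreOf_isPiSub X)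

omit hp in
theorem le_normalizer_opp (X : Subgroup G) : X ≤ normalizer (opp p X : Set G) :=
  OddTransitivity.le_normalizer_piCoreOf X

theorem le_opp {N X : Subgroup G} (hNX : N ≤ X) (hn : X ≤ normalizer (N : Set G))
    (hN : (Nat.card N).Coprime p) : N ≤ opp p X :=
  OddTransitivity.le_piCoreOf hNX hn (isPiSub_of_coprime hp.out hN)

theorem opp_eq_map (X : Subgroup G) : opp p X = (Cfsg.pPrimeCore p X).map X.subtype := by
  refine congrArg (Subgroup.map X.subtype) (le_antisymm ?_ ?_)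
  · exact Core.le_pPrimeCore' inferInstance (coprime_of_isPiSub (Core.piCore_isPiSub _ X))
  · exact Core.le_piCore' inferInstance (isPiSub_of_coprime hp.out (Core.pPrimeCore_coprime p X))

omit [Finite G] hp in
theorem subgroupOf_le_normalizer {X Y R : Subgroup G} (h : R ≤ normalizer (Y : Set G)) :
    R.subgroupOf X ≤ normalizer (Y.subgroupOf X : Set X) := fun a ha => mem_normalizer_iff.mpr fun y => by
  simp only [mem_subgroupOf, Subgroup.coe_mul, Subgroup.coe_inv]
  exact mem_normalizer_iff.mp (h ha) y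

omit [Finite G] hp in
theorem relIndex_eq (R X : Subgroup G) : (R.subgroupOf X).index = R.relIndex X := rfl

/-- The Sylow subgroup of `X` given by a `p`-subgroup of index prime to `p`. -/
noncomputable def sylowOf {R X : Subgroup G} (hRX : R ≤ X) (hR : IsPGroup p R)
    (h : ¬ p ∣ R.relIndex X) : Sylow p X :=
  ((hR.of_equiv (subgroupOfEquivOfLe hRX).symm : IsPGroup p (R.subgroupOf X))).toSylow h

omit [Finite G] in
theorem coe_sylowOf {R X : Subgroup G} (hRX : R ≤ X) (hR : IsPGroup p R) (h : ¬ p ∣ R.relIndex X) :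
    (sylowOf hRX hR h : Subgroup X) = R.subgroupOf X := rfl

/-- A `p'`-subgroup normalized by a Sylow subgroup of a soluble group lies in `O_{p'}`. -/
theorem le_opp_of_sylow {X R Y : Subgroup G} (hX : Group.IsSolvable X) (hRX : R ≤ X) (hR : IsPGroup p R)
    (hS : ¬ p ∣ R.relIndex X) (hYX : Y ≤ X) (hY : (Nat.card Y).Coprime p)
    (hRY : R ≤ normalizer (Y : Set G)) : Y ≤ opp p X := by
  rw [opp_eq_map, ← map_subgroupOf_eq_of_le hYX]
  refine map_mono ?_
  set N := Cfsg.pPrimeCore p X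
  set f := QuotientGroup.mk' N
  haveI := hX
  haveI : Group.IsSolvable (X ⧸ N) := Group.isSolvable_of_surjective (QuotientGroup.mk'_surjective N)
  set O := Cfsg.pCore p (X ⧸ N)
  set Z := (Y.subgroupOf X).map f
  have hZcop : (Nat.card Z).Coprime p := Nat.Coprime.coprime_dvd_left (Core.card_map_dvd f _)
    (by rw [Nat.card_congr (subgroupOfEquivOfLe hYX).toEquiv]; exact hY)
  have hOS : O ≤ (R.subgroupOf X).map f := by
    refine (Core.pCore_le_sylow ((sylowOf hRX hR hS).mapSurjective (QuotientGroup.mk'_surjective N))).trans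
      (le_of_eq rfl)
  have hON : O ≤ normalizer (Z : Set (X ⧸ N)) :=
    hOS.trans ((map_mono (subgroupOf_le_normalizer hRY)).trans (le_normalizer_map f))
  have hcent : Z ≤ centralizer (O : Set (X ⧸ N)) := by
    intro z hz
    refine mem_centralizer_iff.mpr fun o ho => ?_
    have h1 : o * z * o⁻¹ * z⁻¹ ∈ O ⊓ Z := by
      refine mem_inf.mpr ⟨?_, mul_mem ((mem_normalizer_iff.mp (hON ho) z).mp hz) (inv_mem hz)⟩
      rw [show o * z * o⁻¹ * z⁻¹ = o * (z * o⁻¹ * z⁻¹) by group]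
      exact mul_mem ho ((inferInstance : O.Normal).conj_mem _ (inv_mem ho) z)
    rw [Cfsg.Lib.Sig.disjoint_of_isPGroup_coprime (Core.pCore_isPGroup p _) hZcop, mem_bot,
      mul_inv_eq_one, mul_inv_eq_iff_eq_mul] at h1
    exact h1
  have hZ : Z = ⊥ := le_bot_iff.mp ((le_inf (hcent.trans (Core.centralizer_pCore_le_of_isPSolvable
    Core.isPSolvable_of_isSolvable (Core.pPrimeCore_quotient_eq_bot (p := p) (G := X)))) le_rfl).trans
      (Cfsg.Lib.Sig.disjoint_of_isPGroup_coprime (Core.pCore_isPGroup p _) hZcop).le)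
  rwa [Subgroup.map_eq_bot_iff, QuotientGroup.ker_mk'] at hZ

/-! ### The centre of the Puig subgroup -/

theorem rsub_map {H : Type u} [Group H] [Finite H] (f : H →* G) (hf : Function.Injective f)
    (S : Subgroup H) : (PuigZL.rsub S).map f = PuigZL.rsub (S.map f) := by
  obtain ⟨k, hk⟩ := PuigZL.exists_stable S
  obtain ⟨l, hl⟩ := PuigZL.exists_stable (S.map f)
  rw [← (hk (max k l) (le_max_left k l)).2, ← (hl (max k l) (le_max_right k l)).2,
    PuigZL.map_rseq f hf.injOn]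

theorem zl_map {H : Type u} [Group H] [Finite H] (f : H →* G) (hf : Function.Injective f)
    (S : Subgroup H) : (PuigZL.zl S).map f = PuigZL.zl (S.map f) := by
  show _ = PuigZL.rsub (S.map f) ⊓ centralizer (PuigZL.rsub (S.map f) : Set G)
  rw [← rsub_map f hf]
  refine le_antisymm ?_ ?_
  · rintro _ ⟨x, hx, rfl⟩
    refine ⟨mem_map_of_mem _ hx.1, mem_centralizer_iff.mpr ?_⟩
    rintro _ ⟨y, hy, rfl⟩
    rw [← map_mul, ← map_mul, mem_centralizer_iff.mp hx.2 y hy]
  · rintro _ ⟨⟨x, hx, rfl⟩, hc⟩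
    refine mem_map_of_mem _ ⟨hx, mem_centralizer_iff.mpr fun y hy => hf ?_⟩
    rw [map_mul, map_mul]
    exact mem_centralizer_iff.mp hc _ (mem_map_of_mem f hy)

theorem zl_le (S : Subgroup G) : PuigZL.zl S ≤ S := inf_le_left.trans (map_subtype_le _)

theorem normalizer_le_zl (S : Subgroup G) :
    normalizer (S : Set G) ≤ normalizer (PuigZL.zl S : Set G) := by
  intro g hg
  have h := zl_map (MulAut.conj g).toMonoidHom (MulAut.conj g).injective S
  rw [Core.map_conj_eq_of_mem_normalizer hg] at h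
  exact Core.mem_normalizer_iff_map_conj.mpr h

theorem zl_ne_bot {S : Subgroup G} (hS : IsPGroup p S) (hne : S ≠ ⊥) : PuigZL.zl S ≠ ⊥ := by
  haveI : Nontrivial S := (nontrivial_iff_ne_bot S).mpr hne
  obtain ⟨-, -, ⟨h1, h2⟩, -, -⟩ := Cfsg.Agent.S1466.result p hS
  haveI := hS.center_nontrivial
  obtain ⟨z, hz, hz1⟩ := (center S).bot_or_exists_ne_one.resolve_left
    ((nontrivial_iff_ne_bot _).mp inferInstance)
  intro e
  have hzs : (z : G) ∈ PuigZL.zl S := by
    refine ⟨mem_map_of_mem _ (h2 (h1 hz)), mem_centralizer_iff.mpr ?_⟩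
    rintro _ ⟨y, hy, rfl⟩
    exact congrArg Subtype.val (mem_centralizer_iff.mp (h1 hz) y hy)
  rw [e, mem_bot] at hzs
  exact hz1 (Subtype.ext hzs)

/-- Glauberman's factorization in a proper subgroup. -/
theorem factor (hG : Cfsg.IsMinSimpleOddOrder G) (hp2 : p ≠ 2) {X S : Subgroup G} (hX : X ≠ ⊤)
    (hSX : S ≤ X) (hS : IsPGroup p S) (h : ¬ p ∣ S.relIndex X) :
    X ≤ opp p X ⊔ (X ⊓ normalizer (PuigZL.zl S : Set G)) := by
  haveI : Group.IsSolvable X := hG.2.2.2 X hX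
  have hf := PuigZL.zl_factor (odd_subgroup hG X) hp2 (sylowOf hSX hS h)
  rw [coe_sylowOf] at hf
  have h1 := congrArg (Subgroup.map X.subtype) hf
  rw [← MonoidHom.range_eq_map, range_subtype, Subgroup.map_sup, ← opp_eq_map] at h1
  refine h1.ge.trans (sup_le_sup_left (le_inf (map_subtype_le _) ?_) _)
  refine (le_normalizer_map _).trans (le_of_eq ?_)
  rw [zl_map X.subtype X.subtype_injective, map_subgroupOf_eq_of_le hSX]

/-- A Sylow subgroup of `M` whose normalizer lies in `M` is a Sylow subgroup of `G`. -/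
theorem sylow_of_normalizer_le {M R : Subgroup G} (hRM : R ≤ M) (hR : IsPGroup p R)
    (hS : ¬ p ∣ R.relIndex M) (hN : normalizer (R : Set G) ≤ M) : ¬ p ∣ R.index := by
  obtain ⟨T, hRT⟩ := hR.exists_le_sylow
  rcases eq_or_lt_of_le hRT with h | h
  · rw [h]; exact T.not_dvd_index
  exfalso
  have hlt := Cfsg.Lib.Fusion.lt_inf_normalizer T.isPGroup' h
  have hle : (T : Subgroup G) ⊓ normalizer (R : Set G) ≤ M := inf_le_right.trans hN
  have h1 : R.subgroupOf M ≤ ((T : Subgroup G) ⊓ normalizer (R : Set G)).subgroupOf M :=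
    fun x hx => hlt.le hx
  have h2 := (sylowOf hRM hR hS).3
    ((T.isPGroup'.to_le inf_le_left).of_equiv (subgroupOfEquivOfLe hle).symm) h1
  rw [coe_sylowOf] at h2
  have h3 := map_subgroupOf_eq_of_le hle
  rw [h2, map_subgroupOf_eq_of_le hRM] at h3
  exact hlt.ne h3

/-- The extremal argument on intersections of maximal subgroups. -/
theorem exists_extremal (hG : Cfsg.IsMinSimpleOddOrder G) (hp2 : p ≠ 2) {M B : Subgroup G}
    (hM : IsCoatom M) (hBM : B ≤ M) (hB : IsPGroup p B) (hB1 : B ≠ ⊥)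
    {H₀ : Subgroup G} (hH₀ : IsCoatom H₀) (hne₀ : H₀ ≠ M) (hBH₀ : B ≤ H₀) :
    ∃ (H : Subgroup G) (R : Subgroup G), IsCoatom H ∧ H ≠ M ∧ B ≤ R ∧ R ≤ H ∧ R ≤ M ∧ IsPGroup p R ∧
      (¬ p ∣ R.relIndex M ∨ H ≤ opp p H ⊔ M) := by
  set 𝒮 : Set (Subgroup G × Subgroup G) := {HR | IsCoatom HR.1 ∧ HR.1 ≠ M ∧ B ≤ HR.2 ∧
    HR.2 ≤ HR.1 ∧ HR.2 ≤ M ∧ IsPGroup p HR.2}
  obtain ⟨⟨H, R⟩, ⟨hH, hne, hBR, hRH, hRM, hR⟩, hmax⟩ := Set.exists_max_image 𝒮
    (fun HR => Nat.card HR.2) (Set.toFinite _) ⟨(H₀, B), hH₀, hne₀, le_rfl, hBH₀, hBM, hB⟩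
  refine ⟨H, R, hH, hne, hBR, hRH, hRM, hR, ?_⟩
  by_cases hS : p ∣ R.relIndex M
  swap
  · exact Or.inl hS
  right
  have hRne : R ≠ ⊥ := ne_bot_of_le_ne_bot hB1 hBR
  have hRtop := ne_top_of_isPGroup hG hR
  -- `R` is properly contained in a `p`-subgroup of its normalizer in `M`
  have hgt : ∀ {X : Subgroup G}, R ≤ X → p ∣ R.relIndex X →
      ∃ R' : Subgroup G, IsPGroup p R' ∧ R' ≤ X ∧ R' ≤ normalizer (R : Set G) ∧ R < R' := by
    intro X hRX hd
    obtain ⟨T, hT⟩ := (hR.of_equiv (subgroupOfEquivOfLe hRX).symm : IsPGroup p (R.subgroupOf X)).exists_le_sylow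
    have hlt : R < (T : Subgroup X).map X.subtype := by
      refine lt_of_le_of_ne ?_ fun e => T.not_dvd_index ?_
      · rw [← map_subgroupOf_eq_of_le hRX]; exact map_mono hT
      · rw [show (T : Subgroup X) = R.subgroupOf X by
          rw [e]; exact (comap_map_eq_self_of_injective X.subtype_injective _).symm]
        exact hd
    exact ⟨_, (T.isPGroup'.map _).to_le inf_le_left, inf_le_left.trans (map_subtype_le _), inf_le_right,
      Cfsg.Lib.Fusion.lt_inf_normalizer (T.isPGroup'.map _) hlt⟩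
  obtain ⟨R', hR', hR'M, hR'N, hlt⟩ := hgt hRM hS
  have hNM : ∀ Z : Subgroup G, normalizer (R : Set G) ≤ Z → Z ≠ ⊤ → Z ≤ M := by
    intro Z hRZ hZ
    obtain ⟨L, hL, hZL⟩ := exists_coatom hZ
    by_contra hc
    have hLM : L ≠ M := fun e => hc (e ▸ hZL)
    have := hmax (L, R') ⟨hL, hLM, hBR.trans hlt.le, (hR'N.trans hRZ).trans hZL, hR'M, hR'⟩
    exact hlt.ne (eq_of_le_of_card_ge hlt.le this)
  have hN := hNM _ le_rfl (OddTransitivity.normalizer_ne_top_of hG hRne hRtop)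
  have hSH : ¬ p ∣ R.relIndex H := fun hd => by
    obtain ⟨R'', hR'', hR''H, hR''N, hlt'⟩ := hgt hRH hd
    have := hmax (H, R'') ⟨hH, hne, hBR.trans hlt'.le, hR''H, hR''N.trans hN, hR''⟩
    exact hlt'.ne (eq_of_le_of_card_ge hlt'.le this)
  refine (factor hG hp2 hH.1 hRH hR hSH).trans (sup_le_sup_left (inf_le_right.trans ?_) _)
  exact hNM _ (normalizer_le_zl R) (OddTransitivity.normalizer_ne_top_of hG (zl_ne_bot hR hRne)
    (ne_top_of_le_ne_top hRtop (zl_le R)))

theorem normalizer_le_normalizer_centralizer (A : Subgroup G) :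
    normalizer (A : Set G) ≤ normalizer (centralizer (A : Set G) : Set G) := by
  refine Cfsg.Lib.Sig.le_normalizer_of_invariant fun c hc u hu => mem_centralizer_iff.mpr fun b hb => ?_
  have hcu := mem_centralizer_iff.mp hu _ ((mem_normalizer_iff''.mp hc b).mp hb)
  calc b * (c * u * c⁻¹) = c * ((c⁻¹ * b * c) * u) * c⁻¹ := by group
    _ = c * (u * (c⁻¹ * b * c)) * c⁻¹ := by rw [hcu]
    _ = c * u * c⁻¹ * b := by group

/-- The normalizer of `X` normalizes `O_{p'} (X)`. -/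
theorem normalizer_le_normalizer_opp (X : Subgroup G) :
    normalizer (X : Set G) ≤ normalizer (opp p X : Set G) := by
  intro g hg
  have hXg : X.map (MulAut.conj g).toMonoidHom = X := Core.map_conj_eq_of_mem_normalizer hg
  rw [Core.mem_normalizer_iff_map_conj]
  refine eq_of_le_of_card_ge (le_opp ((map_mono (opp_le X)).trans hXg.le) ?_
    (by rw [Cfsg.Lib.Coprime.card_map_conj]; exact opp_coprime X)) (by rw [Cfsg.Lib.Coprime.card_map_conj])
  calc X = X.map (MulAut.conj g).toMonoidHom := hXg.symm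
    _ ≤ _ := (map_mono (le_normalizer_opp X)).trans (le_normalizer_map _)

end Cfsg.Lib.Local.Uniq
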