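import Cfsg.Agent.Lib.Local.Uniq.FittingP
import Cfsg.Agent.Lib.PGroup.OmegaTwo
import Cfsg.Agent.Lib.Local.PrimeOrderOperator
import Mathlib.GroupTheory.Abelianization.Defs

/-!
Group-theoretic lemmas for the uniqueness theorem: small elementary subgroups, cyclic subgroups, and
the fixed points of a Frobenius group of operators.
-/

set_option autoImplicit false
set_option linter.style.haveILetI false

namespace Cfsg.Lib.Local.Uniq

open Subgroup
open scoped commutatorElement

universe u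

variable {G : Type u} [Group G] {q : ℕ}

theorem pow_eq_one_of_mem_zpowers {z y : G} (hz : z ^ q = 1) (hy : y ∈ zpowers z) : y ^ q = 1 := by
  obtain ⟨i, rfl⟩ := mem_zpowers_iff.mp hy
  rw [← zpow_natCast, ← zpow_mul, mul_comm, zpow_mul, zpow_natCast, hz, one_zpow]

theorem elementary_zpowers {z : G} (hz : z ^ q = 1) : Cfsg.IsElementaryAbelian q (zpowers z) :=
  ⟨inferInstance, fun _ hy => pow_eq_one_of_mem_zpowers hz hy⟩

theorem elementary_sup {E F : Subgroup G} (hE : Cfsg.IsElementaryAbelian q E)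
    (hF : Cfsg.IsElementaryAbelian q F) (h : E ≤ centralizer (F : Set G)) :
    Cfsg.IsElementaryAbelian q (E ⊔ F) := by
  haveI := hE.1
  haveI := hF.1
  have hc : ⁅E, F⁆ = ⊥ := commutator_eq_bot_iff_le_centralizer.mpr h
  have hcomm : ∀ x ∈ E ⊔ F, ∀ y ∈ E ⊔ F, x * y = y * x := by
    intro x hx y hy
    obtain ⟨a, ha, b, hb, rfl⟩ := (Core.mem_sup_of_commute hc).1 hx
    obtain ⟨a', ha', b', hb', rfl⟩ := (Core.mem_sup_of_commute hc).1 hy
    have e1 : a * a' = a' * a := congrArg Subtype.val (mul_comm' (⟨a, ha⟩ : E) ⟨a', ha'⟩)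
    have e2 : b * b' = b' * b := congrArg Subtype.val (mul_comm' (⟨b, hb⟩ : F) ⟨b', hb'⟩)
    have e3 : b * a' = a' * b := mem_centralizer_iff.mp (h ha') b hb
    have e4 : b' * a = a * b' := mem_centralizer_iff.mp (h ha) b' hb'
    calc a * b * (a' * b') = a * (b * a') * b' := by group
      _ = (a * a') * (b * b') := by rw [e3]; group
      _ = (a' * a) * (b' * b) := by rw [e1, e2]
      _ = a' * (a * b') * b := by group
      _ = a' * b' * (a * b) := by rw [← e4]; group
  refine ⟨⟨⟨fun x y => Subtype.ext (hcomm x x.2 y y.2)⟩⟩, fun x hx => ?_⟩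
  obtain ⟨a, ha, b, hb, rfl⟩ := (Core.mem_sup_of_commute hc).1 hx
  rw [(show Commute a b from (mem_centralizer_iff.mp (h ha) b hb).symm).mul_pow, hE.2 a ha, hF.2 b hb,
    one_mul]

theorem elementary_adjoin {E : Subgroup G} (hE : Cfsg.IsElementaryAbelian q E) {y : G} (hy : y ^ q = 1)
    (hc : y ∈ centralizer (E : Set G)) : Cfsg.IsElementaryAbelian q (E ⊔ zpowers y) :=
  elementary_sup hE (elementary_zpowers hy) (le_centralizer_iff.mp (zpowers_le.mpr hc))

variable [hq : Fact q.Prime]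

theorem orderOf_eq {z : G} (hz : z ^ q = 1) (hz1 : z ≠ 1) : orderOf z = q := orderOf_eq_prime hz hz1

theorem card_zpowers_eq {z : G} (hz : z ^ q = 1) (hz1 : z ≠ 1) : Nat.card (zpowers z) = q := by
  rw [Nat.card_zpowers, orderOf_eq hz hz1]

variable [Finite G]

theorem mul_card_le_of_lt {H K : Subgroup G} (hK : IsPGroup q K) (h : H < K) :
    q * Nat.card H ≤ Nat.card K := by
  obtain ⟨i, hi⟩ := IsPGroup.iff_card.mp (hK.to_le h.le)
  obtain ⟨j, hj⟩ := IsPGroup.iff_card.mp hK
  have hlt : Nat.card H < Nat.card K :=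
    lt_of_le_of_ne (card_le_of_le h.le) fun e => h.ne (eq_of_le_of_card_ge h.le e.ge)
  rw [hi, hj] at hlt ⊢
  rw [← pow_succ']
  exact Nat.pow_le_pow_right hq.out.pos ((Nat.pow_lt_pow_iff_right hq.out.one_lt).mp hlt)

theorem zpowers_eq_of_mem {z y : G} (hz : z ^ q = 1) (hy : y ∈ zpowers z) (hy1 : y ≠ 1) :
    zpowers y = zpowers z := by
  refine eq_of_le_of_card_ge (zpowers_le.mpr hy) ?_
  rw [card_zpowers_eq (pow_eq_one_of_mem_zpowers hz hy) hy1]
  refine le_of_le_of_eq ?_ rfl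
  rw [card_zpowers_eq hz]
  rintro rfl
  rw [zpowers_one_eq_bot, mem_bot] at hy
  exact hy1 hy

theorem zpowers_lt_sup {z y : G} (h : y ∉ zpowers z) : zpowers z < zpowers z ⊔ zpowers y :=
  lt_of_le_of_ne le_sup_left fun e => h (e.ge (mem_sup_right (mem_zpowers y)))

/-- A `q`-element normalizing a subgroup of order `q` centralizes it. -/
theorem commute_of_normalizes {g z : G} (hg : ∃ k : ℕ, g ^ q ^ k = 1) (hz : z ^ q = 1)
    (hn : g ∈ normalizer (zpowers z : Set G)) : g * z = z * g := by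
  by_cases hz1 : z = 1
  · simp [hz1]
  have hgp : IsPGroup q (zpowers g) := by
    obtain ⟨k, hk⟩ := hg
    obtain ⟨j, -, hj⟩ := (Nat.dvd_prime_pow hq.out).mp (orderOf_dvd_of_pow_eq_one hk)
    rw [IsPGroup.iff_card]
    exact ⟨j, by rw [Nat.card_zpowers, hj]⟩
  have hzp : IsPGroup q (zpowers z) := IsPGroup.of_card (n := 1) (by rw [card_zpowers_eq hz hz1, pow_one])
  have hlt := Cfsg.Lib.PGroup.commutator_lt_of_isPGroup hzp hgp (zpowers_le.mpr hn)
    (fun e => hz1 (zpowers_eq_bot.mp e))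
  have h1 := mul_card_le_of_lt hzp hlt
  rw [card_zpowers_eq hz hz1] at h1
  have hb : ⁅zpowers z, zpowers g⁆ = ⊥ := eq_bot_of_card_eq _ (le_antisymm
    (Nat.le_of_mul_le_mul_left (h1.trans (mul_one q).ge) hq.out.pos) Nat.card_pos)
  exact mem_centralizer_iff.mp (commutator_eq_bot_iff_le_centralizer.mp hb (mem_zpowers z)) g
    (mem_zpowers g)

omit hq in
theorem exists_normalizing [Fact q.Prime] {Q C : Subgroup G} (hQ : IsPGroup q Q) (h : C < Q) :
    ∃ g ∈ Q, g ∉ C ∧ g ∈ normalizer (C : Set G) := by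
  obtain ⟨g, hg, hgC⟩ := SetLike.exists_of_lt (OddTransitivity.exists_gt_inf_normalizer hQ h)
  exact ⟨g, hg.1, hgC, hg.2⟩

omit hq in
theorem pow_pow_eq_one {Q : Subgroup G} (hQ : IsPGroup q Q) {g : G} (hg : g ∈ Q) :
    ∃ k : ℕ, g ^ q ^ k = 1 := by
  obtain ⟨k, hk⟩ := hQ ⟨g, hg⟩
  exact ⟨k, congrArg Subtype.val hk⟩

/-- An element of order `q` of a nontrivial normal subgroup, central in a `q`-group. -/
theorem exists_central {S L : Subgroup G} (hS : IsPGroup q S) (hLS : L ≤ S)
    (hSL : S ≤ normalizer (L : Set G)) (hL : L ≠ ⊥) :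
    ∃ u ∈ L, u ^ q = 1 ∧ u ≠ 1 ∧ u ∈ centralizer (S : Set G) := by
  haveI : (L.subgroupOf S).Normal := (normal_subgroupOf_iff_le_normalizer hLS).mpr hSL
  have hne : L.subgroupOf S ⊓ center S ≠ ⊥ := Cfsg.Lib.PGroup.inf_center_ne_bot hS fun e => hL (by
    rw [← map_subgroupOf_eq_of_le hLS, e, Subgroup.map_bot])
  have hd : q ∣ Nat.card (L.subgroupOf S ⊓ center S : Subgroup S) := by
    obtain ⟨i, hi⟩ := IsPGroup.iff_card.mp (hS.to_subgroup (L.subgroupOf S ⊓ center S))
    have hi0 : i ≠ 0 := fun h0 => hne (eq_bot_of_card_eq _ (by rw [hi, h0, pow_zero]))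
    rw [hi]
    exact dvd_pow_self q hi0
  obtain ⟨u, hu⟩ := exists_prime_orderOf_dvd_card' q hd
  rw [← orderOf_coe, ← orderOf_coe] at hu
  refine ⟨((u : S) : G), u.2.1, hu ▸ pow_orderOf_eq_one _, fun e => hq.out.ne_one ?_,
    mem_centralizer_iff.mpr fun s hs => congrArg Subtype.val (mem_center_iff.mp u.2.2 ⟨s, hs⟩)⟩
  rw [← hu, e, orderOf_one]

theorem exists_orderOf {S : Subgroup G} (hS : IsPGroup q S) (hne : S ≠ ⊥) :
    ∃ u ∈ S, u ^ q = 1 ∧ u ≠ 1 := by
  obtain ⟨u, hu, h1, h2, -⟩ := exists_central hS le_rfl le_normalizer hne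
  exact ⟨u, hu, h1, h2⟩

/-- For odd `q`, a noncyclic `q`-group has an elementary subgroup of order `q ^ 2`. -/
theorem exists_sq (h2 : q ≠ 2) {S : Subgroup G} (hS : IsPGroup q S) (hnc : ¬ IsCyclic S) :
    ∃ W ≤ S, Cfsg.IsElementaryAbelian q W ∧ Nat.card W = q ^ 2 := by
  obtain ⟨A, -, hA, hAc⟩ := Cfsg.Agent.S0126.result h2 hS hnc
  exact ⟨A.map S.subtype, map_subtype_le _, Cfsg.Lib.PGroup.isElementaryAbelian_map hA S.subtype,
    by rw [card_map_of_injective S.subtype_injective, hAc]⟩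

/-- For odd `q`, a `q`-group with one subgroup of order `q` is cyclic. -/
theorem isCyclic_of_forall (h2 : q ≠ 2) {S : Subgroup G} (hS : IsPGroup q S) {z : G} (hz : z ^ q = 1)
    (h : ∀ y ∈ S, y ^ q = 1 → y ∈ zpowers z) : IsCyclic S := by
  by_contra hnc
  obtain ⟨W, hWS, hW, hWc⟩ := exists_sq h2 hS hnc
  have h1 := card_le_of_le (show W ≤ zpowers z from fun w hw => h w (hWS hw) (hW.2 w hw))
  rw [hWc, Nat.card_zpowers, sq] at h1
  have h3 := h1.trans (Nat.le_of_dvd hq.out.pos (orderOf_dvd_of_pow_eq_one hz))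
  nlinarith [hq.out.two_le]

theorem mem_zpowers_of_isCyclic {Y : Subgroup G} [IsCyclic Y] {z y : G} (hz : z ∈ Y) (hy : y ∈ Y)
    (hzq : z ^ q = 1) (hz1 : z ≠ 1) (hyq : y ^ q = 1) : y ∈ zpowers z := by
  have h := Cfsg.Lib.PGroup.mem_zpowers_of_cyclic hq.out (z := (⟨z, hz⟩ : Y)) (y := ⟨y, hy⟩)
    (by rw [Subgroup.orderOf_mk, orderOf_eq hzq hz1]) (Subtype.ext hyq)
  obtain ⟨i, hi⟩ := mem_zpowers_iff.mp h
  exact ⟨i, congrArg Subtype.val hi⟩

/-- A coprime operator on a cyclic `q`-group fixing its subgroup of order `q` fixes it. -/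
theorem le_centralizer_of_cyclic {Y B : Subgroup G} [IsCyclic Y] (hY : IsPGroup q Y)
    (hBY : B ≤ normalizer (Y : Set G)) (hcop : (Nat.card B).Coprime (Nat.card Y)) {z : G} (hzY : z ∈ Y)
    (hz : z ^ q = 1) (hz1 : z ≠ 1) (hzB : z ∈ centralizer (B : Set G)) :
    Y ≤ centralizer (B : Set G) := by
  haveI : IsMulCommutative Y := IsCyclic.isMulCommutative
  refine commutator_eq_bot_iff_le_centralizer.mp (by_contra fun hne => ?_)
  have hle := Cfsg.Lib.Coprime.commutator_le_of_le_normalizer hBY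
  obtain ⟨y, hy, hy1, hy2⟩ := exists_orderOf (hY.to_le hle) hne
  have hzy := mem_zpowers_of_isCyclic (hle hy) hzY hy1 hy2 hz
  exact hz1 (Subgroup.disjoint_def.mp (Cfsg.Lib.Coprime.disjoint_commutator_centralizer hBY hcop)
    ((zpowers_le.mpr hy) hzy) hzB)

/-- An operator moving an element of order `q` inside its subgroup recovers it as a commutator. -/
theorem mem_zpowers_commutator {x v : G} (hv : v ^ q = 1) (hx : x ∈ normalizer (zpowers v : Set G))
    (hne : x * v ≠ v * x) : v ∈ zpowers ⁅x, v⁆ := by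
  have hmem : ⁅x, v⁆ ∈ zpowers v := by
    rw [show ⁅x, v⁆ = (x * v * x⁻¹) * v⁻¹ by simp [commutatorElement_def]]
    exact mul_mem ((mem_normalizer_iff.mp hx v).mp (mem_zpowers v)) (inv_mem (mem_zpowers v))
  rw [zpowers_eq_of_mem hv hmem fun e => hne (commutatorElement_eq_one_iff_mul_comm.mp e)]
  exact mem_zpowers v

omit hq in
/-- The commutator of two operators of a cyclic group centralizes it. -/
theorem commutator_mem_centralizer {Y : Subgroup G} [IsCyclic Y] {x v : G}
    (hx : x ∈ normalizer (Y : Set G)) (hv : v ∈ normalizer (Y : Set G)) :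
    ⁅x, v⁆ ∈ centralizer (Y : Set G) := by
  have h : autOf Y ⁅(⟨x, hx⟩ : normalizer (Y : Set G)), ⟨v, hv⟩⁆ = 1 := by
    apply (IsCyclic.mulAutMulEquiv Y).injective
    rw [map_one, map_commutatorElement, map_commutatorElement, commutatorElement_eq_one_iff_mul_comm]
    exact mul_comm _ _
  exact (autOf_eq_one_iff Y _).mp h

theorem apply_eq_of_mem_zpowers {W : Type u} [Group W] {a c : MulAut W} (hc : c ∈ zpowers a) {w : W}
    (h : a w = w) : c w = w :=
  (zpowers_le.mpr (show a ∈ MulAction.stabilizer (MulAut W) w from h)) hc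

theorem prod_range_shift {W : Type u} [CommGroup W] (f : ℕ → W) {n : ℕ} (hn : f n = f 0) :
    ∏ i ∈ Finset.range n, f (i + 1) = ∏ i ∈ Finset.range n, f i := by
  have h1 := Finset.prod_range_succ f n
  rw [Finset.prod_range_succ' f n, hn] at h1
  exact mul_right_cancel h1

theorem apply_prod_pow {W : Type u} [CommGroup W] (γ : MulAut W) {n : ℕ} (hγ : γ ^ n = 1) (u : W) :
    γ (∏ i ∈ Finset.range n, (γ ^ i) u) = ∏ i ∈ Finset.range n, (γ ^ i) u := by
  rw [map_prod]
  refine (Finset.prod_congr rfl fun i _ => ?_).trans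
    (prod_range_shift (fun i => (γ ^ i) u) (n := n) (by simp [hγ]))
  show γ ((γ ^ i) u) = (γ ^ (i + 1)) u
  rw [pow_succ', MulAut.mul_apply]

/-- A Frobenius group of operators whose complement has no fixed points outside those of the kernel
acts trivially through its kernel. -/
theorem eq_one_of_frobenius {W : Type u} [CommGroup W] [Finite W] {r : ℕ} (hr : r.Prime)
    (hcop : (Nat.card W).Coprime q) {α β : MulAut W} (hα : α ^ q = 1) (hβ : β ^ r = 1)
    (hconj : β * α * β⁻¹ ∈ zpowers α) (hne : β * α ≠ α * β) (hfix : ∀ w, β w = w → α w = w) :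
    α = 1 := by
  refine MulEquiv.ext fun w => ?_
  rw [MulAut.one_apply]
  -- the sum over the orbit of the complement
  set N : W → W := fun w => ∏ j ∈ Finset.range r, (β ^ j) w with hN
  have hN1 : ∀ w, α (N w) = N w := fun w => hfix _ (apply_prod_pow β hβ w)
  set P := ∏ i ∈ Finset.range q, (α ^ i) (N ((α ^ i)⁻¹ w)) with hP
  have hPα : α P = P := by
    rw [hP, map_prod]
    refine Finset.prod_congr rfl fun i _ => ?_
    rw [apply_eq_of_mem_zpowers (pow_mem (mem_zpowers α) i) (hN1 _), hN1]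
  have hconj' : ∀ (j : ℕ), ∀ y ∈ zpowers α, β ^ j * y * (β ^ j)⁻¹ ∈ zpowers α := by
    intro j
    induction j with
    | zero => simp
    | succ j ih =>
      intro y hy
      obtain ⟨k, hk⟩ := mem_zpowers_iff.mp (ih y hy)
      rw [show β ^ (j + 1) * y * (β ^ (j + 1))⁻¹ = β * (β ^ j * y * (β ^ j)⁻¹) * β⁻¹ by
        rw [pow_succ']; group, ← hk, ← conj_zpow]
      exact zpow_mem hconj k
  set γ : ℕ → MulAut W := fun j => α * (β ^ j * α⁻¹ * (β ^ j)⁻¹) with hγ
  have hγmem : ∀ j, γ j ∈ zpowers α := fun j =>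
    mul_mem (mem_zpowers α) (hconj' j _ (inv_mem (mem_zpowers α)))
  have hterm : ∀ i j, (α ^ i) ((β ^ j) ((α ^ i)⁻¹ w)) = (γ j ^ i) ((β ^ j) w) := by
    intro i j
    have hc : Commute α (β ^ j * α⁻¹ * (β ^ j)⁻¹) := by
      obtain ⟨k, hk⟩ := mem_zpowers_iff.mp (hconj' j _ (inv_mem (mem_zpowers α)))
      rw [← hk]
      exact (Commute.refl α).zpow_right k
    rw [← MulAut.mul_apply, ← MulAut.mul_apply, ← MulAut.mul_apply]
    congr 1
    show _ = (α * (β ^ j * α⁻¹ * (β ^ j)⁻¹)) ^ i * β ^ j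
    rw [hc.mul_pow, conj_pow, inv_pow]
    group
  have hP2 : P = ∏ j ∈ Finset.range r, ∏ i ∈ Finset.range q, (γ j ^ i) ((β ^ j) w) := by
    simp only [hP, hN, map_prod]
    rw [Finset.prod_comm]
    exact Finset.prod_congr rfl fun j _ => Finset.prod_congr rfl fun i _ => hterm i j
  obtain ⟨m, hm⟩ : ∃ m, r = m + 1 := ⟨r - 1, by have := hr.pos; omega⟩
  have hrest : ∀ j ∈ Finset.range m,
      α (∏ i ∈ Finset.range q, (γ (j + 1) ^ i) ((β ^ (j + 1)) w)) =
        ∏ i ∈ Finset.range q, (γ (j + 1) ^ i) ((β ^ (j + 1)) w) := by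
    intro j hj
    have hγq : γ (j + 1) ^ q = 1 := pow_eq_one_of_mem_zpowers hα (hγmem (j + 1))
    have hγ1 : γ (j + 1) ≠ 1 := by
      intro e
      have hc : Commute (β ^ (j + 1)) α := by
        have e1 : β ^ (j + 1) * α⁻¹ * (β ^ (j + 1))⁻¹ = α⁻¹ := eq_inv_of_mul_eq_one_right e
        rw [mul_inv_eq_iff_eq_mul] at e1
        exact Commute.inv_right_iff.mp e1
      refine hne ?_
      have hcop' : (j + 1).Coprime r := ((hr.coprime_iff_not_dvd).mpr fun hd => by
        have := Nat.le_of_dvd (by omega) hd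
        have := Finset.mem_range.mp hj
        omega).symm
      have hb : β = (β ^ (j + 1)) ^ Nat.gcdA (j + 1) r := by
        have h1 := Nat.gcd_eq_gcd_ab (j + 1) r
        rw [hcop'.gcd_eq_one] at h1
        calc β = β ^ (1 : ℤ) := (zpow_one β).symm
          _ = _ := by
            rw [show (1 : ℤ) = ((1 : ℕ) : ℤ) from rfl, h1, zpow_add, zpow_mul, zpow_mul, zpow_natCast,
              zpow_natCast, hβ, one_zpow, mul_one]
      rw [hb]
      exact (hc.zpow_left _).eq
    refine apply_eq_of_mem_zpowers ?_ (apply_prod_pow _ hγq _)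
    rw [zpowers_eq_of_mem hα (hγmem (j + 1)) hγ1]
    exact mem_zpowers α
  have hR : α (∏ j ∈ Finset.range m, ∏ i ∈ Finset.range q, (γ (j + 1) ^ i) ((β ^ (j + 1)) w)) =
      ∏ j ∈ Finset.range m, ∏ i ∈ Finset.range q, (γ (j + 1) ^ i) ((β ^ (j + 1)) w) := by
    rw [map_prod]
    exact Finset.prod_congr rfl hrest
  rw [hP2, hm, Finset.prod_range_succ', map_mul, hR] at hPα
  have h0 : γ 0 = 1 := by simp [hγ]
  simp only [h0, one_pow, pow_zero, MulAut.one_apply, Finset.prod_const, Finset.card_range,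
    mul_right_inj, map_pow] at hPα
  exact (powCoprime hcop).injective hPα

omit hq in
theorem abelianizationCongr_mul {T : Type u} [Group T] (a b : MulAut T) :
    (a * b).abelianizationCongr = (a.abelianizationCongr * b.abelianizationCongr : MulAut (Abelianization T)) :=
  MulEquiv.ext fun x => by
    obtain ⟨y, rfl⟩ := QuotientGroup.mk_surjective x
    rfl

/-- The action of the normalizer on the abelianization. -/
noncomputable def abAut (T : Subgroup G) : normalizer (T : Set G) →* MulAut (Abelianization T) :=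
  MonoidHom.mk' (fun g => (autOf T g).abelianizationCongr) fun a b => by
    rw [map_mul]; exact abelianizationCongr_mul _ _

/-- In an `s`-group on which a Frobenius group acts, the kernel is trivial if the complement fixes
only fixed points of the kernel. -/
theorem centralizes_of_frobenius {s r : ℕ} [Fact s.Prime] [hr : Fact r.Prime] {T : Subgroup G}
    (hT : IsPGroup s T) (hsq : s ≠ q) (hsr : s ≠ r) {v x : G} (hvT : v ∈ normalizer (T : Set G))
    (hxT : x ∈ normalizer (T : Set G)) (hv : v ^ q = 1) (hx : x ^ r = 1)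
    (hxv : x ∈ normalizer (zpowers v : Set G)) (hne : x * v ≠ v * x)
    (hfix : T ⊓ centralizer ({x} : Set G) ≤ centralizer ({v} : Set G)) :
    v ∈ centralizer (T : Set G) := by
  obtain ⟨n, hn⟩ := IsPGroup.iff_card.mp hT
  have hcopT : ∀ {y : G} {m : ℕ}, y ^ m = 1 → m.Prime → s ≠ m →
      (Nat.card (zpowers y)).Coprime (Nat.card T) := fun {y m} hy hm hsm => by
    rw [Nat.card_zpowers, hn]
    exact (Nat.Coprime.coprime_dvd_left (orderOf_dvd_of_pow_eq_one hy)
      ((Nat.coprime_primes hm Fact.out).mpr hsm.symm)).pow_right n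
  haveI : Group.IsNilpotent T := hT.isNilpotent
  have hsol : ∀ A : Subgroup G, Group.IsSolvable A ∨ Group.IsSolvable T := fun _ => Or.inr inferInstance
  set N := normalizer (T : Set G)
  set v' : N := ⟨v, hvT⟩ with hv'
  set x' : N := ⟨x, hxT⟩ with hx'
  set φ := abAut T
  have hφv : φ v' = 1 := by
    by_cases hcomm : φ x' * φ v' = φ v' * φ x'
    · have h1 : φ ⁅x', v'⁆ = 1 := by
        rw [map_commutatorElement, commutatorElement_eq_one_iff_mul_comm]; exact hcomm
      obtain ⟨i, hi⟩ := mem_zpowers_iff.mp (mem_zpowers_commutator hv hxv hne)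
      have e : ⁅x', v'⁆ ^ i = v' := Subtype.ext hi
      rw [← e, map_zpow, h1, one_zpow]
    haveI : Finite (Abelianization T) := inferInstanceAs (Finite (T ⧸ commutator T))
    refine eq_one_of_frobenius hr.out ?_ (by rw [← map_pow, show v' ^ q = 1 from Subtype.ext hv, map_one])
      (β := φ x') (by rw [← map_pow, show x' ^ r = 1 from Subtype.ext hx, map_one]) ?_ hcomm ?_
    · refine Nat.Coprime.coprime_dvd_left (card_quotient_dvd_card (commutator T)) ?_
      rw [hn]
      exact ((Nat.coprime_primes Fact.out hq.out).mpr hsq).pow_left n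
    · obtain ⟨i, hi⟩ := mem_zpowers_iff.mp ((mem_normalizer_iff.mp hxv v).mp (mem_zpowers v))
      refine mem_zpowers_iff.mpr ⟨i, ?_⟩
      rw [← map_zpow, ← map_inv, ← map_mul, ← map_mul]
      exact congrArg φ (Subtype.ext hi)
    · intro w hw
      obtain ⟨y, rfl⟩ := QuotientGroup.mk_surjective w
      have hcomm' : ∀ a ∈ zpowers x, ⁅(y : G), a⁆ ∈ (commutator T).map T.subtype := by
        rintro _ ⟨i, rfl⟩
        have h1 : φ (x' ^ i) (Abelianization.of y) = Abelianization.of y := by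
          rw [map_zpow]
          exact apply_eq_of_mem_zpowers (zpow_mem (mem_zpowers _) i) hw
        have h2 : y * (autOf T (x' ^ i) y)⁻¹ ∈ commutator T := by
          rw [← QuotientGroup.eq_one_iff]
          change Abelianization.of (y * (autOf T (x' ^ i) y)⁻¹) = 1
          rw [map_mul, map_inv]
          change Abelianization.of y * (φ (x' ^ i) (Abelianization.of y))⁻¹ = 1
          rw [h1, mul_inv_cancel]
        refine ⟨_, h2, ?_⟩
        simp [autOf, hx', commutatorElement_def, mul_assoc]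
      obtain ⟨m, hm, c, hc, hy⟩ := Cfsg.Lib.Coprime.exists_mul_centralizer_of_commutator_mem
        (zpowers_le.mpr hxT) (hcopT hx hr.out hsr) (hsol _) (map_subtype_le _)
        ((zpowers_le.mpr hxT).trans (Core.normalizer_le_normalizer_map_char (commutator T)))
        y.2 hcomm'
      obtain ⟨m, hm', rfl⟩ := hm
      have hyc : y = m * ⟨c, hc.1⟩ := Subtype.ext hy
      have hfx : c ∈ centralizer ({v} : Set G) :=
        hfix ⟨hc.1, mem_centralizer_singleton_iff.mpr (mem_centralizer_iff.mp hc.2 x (mem_zpowers x)).symm⟩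
      have e : Abelianization.of y = Abelianization.of (⟨c, hc.1⟩ : T) := by
        rw [hyc, map_mul, show Abelianization.of m = 1 from (QuotientGroup.eq_one_iff m).mpr hm', one_mul]
      show φ v' (Abelianization.of y) = Abelianization.of y
      rw [e]
      change Abelianization.of (autOf T v' ⟨c, hc.1⟩) = Abelianization.of (⟨c, hc.1⟩ : T)
      congr 1
      apply Subtype.ext
      show v * c * v⁻¹ = c
      rw [← mem_centralizer_singleton_iff.mp hfx, mul_inv_cancel_right]
  refine Cfsg.Lib.Coprime.le_centralizer_of_commutator_le_frattini (zpowers_le.mpr hvT)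
    (hcopT hv hq.out hsq) (hsol _) ?_ (mem_zpowers v)
  refine le_trans ?_ (map_mono (Cfsg.Lib.PGroup.commutator_le_frattini hT))
  rw [commutator_le]
  rintro y hy _ ⟨i, rfl⟩
  have h1 : φ (v' ^ i) (Abelianization.of (⟨y, hy⟩ : T)) = Abelianization.of (⟨y, hy⟩ : T) := by
    rw [map_zpow, hφv, one_zpow]; rfl
  have h2 : (⟨y, hy⟩ : T) * (autOf T (v' ^ i) ⟨y, hy⟩)⁻¹ ∈ commutator T := by
    rw [← QuotientGroup.eq_one_iff]
    change Abelianization.of ((⟨y, hy⟩ : T) * (autOf T (v' ^ i) ⟨y, hy⟩)⁻¹) = 1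
    rw [map_mul, map_inv]
    change Abelianization.of (⟨y, hy⟩ : T) * (φ (v' ^ i) (Abelianization.of (⟨y, hy⟩ : T)))⁻¹ = 1
    rw [h1, mul_inv_cancel]
  exact ⟨_, h2, by simp [autOf, hv', commutatorElement_def, mul_assoc]⟩

/-- A `q`-element moving an element of a subgroup `W` of order at most `q ^ 2` and fixing another one `z`:
the normalizer of `W` normalizes `zpowers z`. -/
theorem fixed_line (hG : Odd (Nat.card G)) (hq2 : q ≠ 2) {W : Subgroup G}
    (hW : Cfsg.IsElementaryAbelian q W) (hWc : Nat.card W ≤ q ^ 2) {g z : G}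
    (hgW : g ∈ normalizer (W : Set G)) (hgq : ∃ k : ℕ, g ^ q ^ k = 1) (hgC : g ∉ centralizer (W : Set G))
    (hzW : z ∈ W) (hz : z ^ q = 1) (hz1 : z ≠ 1) (hgz : g * z = z * g) :
    normalizer (W : Set G) ≤ normalizer (zpowers z : Set G) := by
  haveI := hW.1
  letI : CommGroup W := { (inferInstance : Group W) with mul_comm := fun a b => mul_comm' a b }
  have hWp := Cfsg.Lib.PGroup.isPGroup_of_isElementaryAbelian hW
  set N := normalizer (W : Set G)
  set φ : N →* MulAut W := autOf W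
  set J := φ.range
  haveI : Finite J := Finite.of_surjective φ.rangeRestrict φ.rangeRestrict_surjective
  have hJodd : Odd (Nat.card J) := (hG.of_dvd_nat N.card_subgroup_dvd_card).of_dvd_nat (card_range_dvd φ)
  have hr : Cfsg.PRankLE q 2 W := fun A _ _ => A.card_le_card_group.trans hWc
  have hc : IsPGroup q (commutator J) := RankTwoAut.commutator_isPGroup hq2 hWp hr hJodd J.subtype (by
    rw [(MonoidHom.ker_eq_bot_iff _).mpr J.subtype_injective]; exact IsPGroup.of_bot)
  obtain ⟨-, hidx⟩ := NarrowAut.commutator_le_pCore_of_isPGroup hc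
  set O := Cfsg.pCore q J
  set γ : J := φ.rangeRestrict ⟨g, hgW⟩
  obtain ⟨k, hk⟩ := hgq
  have hγk : γ ^ q ^ k = 1 := by
    rw [← map_pow, show (⟨g, hgW⟩ : N) ^ q ^ k = 1 from Subtype.ext hk, map_one]
  have hγO : γ ∈ O := by
    rw [← QuotientGroup.eq_one_iff]
    refine RankTwoAut.pow_eq_one_of_coprime ⟨k, ?_⟩
      (hidx.coprime_dvd_left (by rw [index_eq_card]; exact orderOf_dvd_natCard _))
    rw [← QuotientGroup.mk_pow, hγk]
    rfl
  have hγ1 : γ ≠ 1 := fun e => hgC ((autOf_eq_one_iff W ⟨g, hgW⟩).mp (congrArg Subtype.val e))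
  have hOc : Nat.card O ≤ q := by
    rw [← card_map_of_injective J.subtype_injective]
    exact card_mulAut_sq (fun w => Subtype.ext (by simpa using hW.2 w w.2)) hWc
      ((Core.pCore_isPGroup q J).map _)
  have hO : zpowers γ = O := by
    refine eq_of_le_of_card_ge (zpowers_le.mpr hγO) (hOc.trans ?_)
    obtain ⟨j, -, hj⟩ := (Nat.dvd_prime_pow hq.out).mp (orderOf_dvd_of_pow_eq_one hγk)
    rw [Nat.card_zpowers, hj]
    refine Nat.le_self_pow ?_ q
    rintro rfl
    exact hγ1 (orderOf_eq_one_iff.mp (by rw [hj, pow_zero]))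
  -- the fixed points of `g`
  set F := W ⊓ centralizer ({g} : Set G)
  have hzF : z ∈ F := ⟨hzW, mem_centralizer_singleton_iff.mpr hgz.symm⟩
  have hFlt : F < W := lt_of_le_of_ne inf_le_left fun e => hgC (mem_centralizer_iff.mpr fun w hw =>
    mem_centralizer_singleton_iff.mp (e.ge hw).2)
  have hFz : zpowers z = F := by
    refine eq_of_le_of_card_ge (zpowers_le.mpr hzF) ?_
    have h1 := (mul_card_le_of_lt hWp hFlt).trans hWc
    rw [sq] at h1
    rw [card_zpowers_eq hz hz1]
    exact Nat.le_of_mul_le_mul_left h1 hq.out.pos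
  have hfix : φ ⟨g, hgW⟩ ⟨z, hzW⟩ = ⟨z, hzW⟩ := Subtype.ext (show g * z * g⁻¹ = z by
    rw [hgz, mul_inv_cancel_right])
  have key : ∀ h ∈ N, h⁻¹ * z * h ∈ zpowers z := by
    intro h hh
    have h1 : φ.rangeRestrict ⟨h, hh⟩ * γ * (φ.rangeRestrict ⟨h, hh⟩)⁻¹ ∈ zpowers γ := by
      rw [hO]; exact (inferInstance : O.Normal).conj_mem γ hγO _
    obtain ⟨i, hi⟩ := mem_zpowers_iff.mp h1
    have e : φ (⟨h, hh⟩ * ⟨g, hgW⟩ * ⟨h, hh⟩⁻¹) = φ ⟨g, hgW⟩ ^ i := by
      rw [map_mul, map_mul, map_inv]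
      exact (congrArg Subtype.val hi).symm
    have e2 := DFunLike.congr_fun e ⟨z, hzW⟩
    rw [apply_eq_of_mem_zpowers (zpow_mem (mem_zpowers _) i) hfix] at e2
    have e3 : h * g * h⁻¹ * z * (h * g * h⁻¹)⁻¹ = z := congrArg Subtype.val e2
    rw [hFz]
    refine ⟨(mem_normalizer_iff''.mp hh z).mp hzW, mem_centralizer_singleton_iff.mpr ?_⟩
    calc h⁻¹ * z * h * g = h⁻¹ * (z * (h * g * h⁻¹)) * h := by group
      _ = h⁻¹ * ((h * g * h⁻¹) * z) * h := by rw [← mul_inv_eq_iff_eq_mul.mp e3]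
      _ = g * (h⁻¹ * z * h) := by group
  refine Cfsg.Lib.Sig.le_normalizer_of_invariant fun h hh y hy => ?_
  obtain ⟨i, rfl⟩ := mem_zpowers_iff.mp hy
  have h2 := key h⁻¹ (inv_mem hh)
  rw [inv_inv] at h2
  rw [← conj_zpow]
  exact zpow_mem h2 i

end Cfsg.Lib.Local.Uniq
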