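import Cfsg.Agent.Lib.Local.Uniq.Connect
import Cfsg.Agent.Lib.Local.NarrowSolvable
import Cfsg.Agent.Lib.Solv.Nilpotent

/-!
The cores `O_q (M)` of a maximal subgroup and Bender's comparison of two maximal subgroups.
-/

set_option autoImplicit false
set_option linter.style.haveILetI false

namespace Cfsg.Lib.Local.Uniq

open Subgroup

universe u

variable {G : Type u} [Group G] [Finite G]

/-- `O_q (M)` as a subgroup of `G`. -/
abbrev core (q : ℕ) (M : Subgroup G) : Subgroup G := (Cfsg.pCore q M).map M.subtype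

omit [Finite G] in
theorem core_le (q : ℕ) (M : Subgroup G) : core q M ≤ M := map_subtype_le _

theorem core_isPGroup (q : ℕ) (M : Subgroup G) : IsPGroup q (core q M) :=
  (Core.pCore_isPGroup q M).map _

omit [Finite G] in
theorem le_normalizer_map_normal {M : Subgroup G} (N : Subgroup M) [hN : N.Normal] :
    M ≤ normalizer (N.map M.subtype : Set G) := by
  refine le_trans (le_of_eq ?_) (le_normalizer_map M.subtype)
  rw [normalizer_eq_top, ← MonoidHom.range_eq_map, range_subtype]

omit [Finite G] in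
theorem le_normalizer_core (q : ℕ) (M : Subgroup G) : M ≤ normalizer (core q M : Set G) :=
  le_normalizer_map_normal _

theorem core_le_fitting (q : ℕ) [Fact q.Prime] (M : Subgroup G) : core q M ≤ Cfsg.fittingOf M :=
  map_mono (Core.pCore_le_fittingSubgroup q M)

omit [Finite G] in
theorem fitting_le (M : Subgroup G) : Cfsg.fittingOf M ≤ M := map_subtype_le _

theorem fitting_isNilpotent (M : Subgroup G) : Group.IsNilpotent (Cfsg.fittingOf M) :=
  Core.isNilpotent_map (Core.fittingSubgroup_isNilpotent M) _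

theorem mem_core_of_fitting {q : ℕ} [Fact q.Prime] {M : Subgroup G} {z : G} (hz : z ∈ Cfsg.fittingOf M)
    (k : ℕ) (ho : orderOf z = q ^ k) : z ∈ core q M := by
  obtain ⟨w, hw, rfl⟩ := hz
  exact mem_map_of_mem _ (NarrowAut.mem_pCore_of_fitting hw k (by rw [← orderOf_coe]; exact ho))

theorem core_ne_bot {q : ℕ} [Fact q.Prime] {M : Subgroup G} (h : q ∣ Nat.card (Cfsg.fittingOf M)) :
    core q M ≠ ⊥ := by
  obtain ⟨x, hx⟩ := exists_prime_orderOf_dvd_card' q h
  intro e
  have h1 := mem_core_of_fitting x.2 1 (by rw [orderOf_coe, hx, pow_one])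
  rw [e, mem_bot, ← orderOf_eq_one_iff, orderOf_coe, hx] at h1
  exact (Fact.out : q.Prime).ne_one h1

theorem dvd_of_core_ne_bot {q : ℕ} [Fact q.Prime] {M : Subgroup G} (h : core q M ≠ ⊥) :
    q ∣ Nat.card (Cfsg.fittingOf M) := by
  obtain ⟨i, hi⟩ := IsPGroup.iff_card.mp (core_isPGroup q M)
  have hi0 : i ≠ 0 := fun h0 => h (eq_bot_of_card_eq _ (by rw [hi, h0, pow_zero]))
  exact (dvd_pow_self q hi0).trans (hi ▸ card_dvd_of_le (core_le_fitting q M))

theorem coprime_core {q : ℕ} [Fact q.Prime] {M Y : Subgroup G} (h : ¬ q ∣ Nat.card Y) :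
    (Nat.card (core q M)).Coprime (Nat.card Y) := by
  obtain ⟨i, hi⟩ := IsPGroup.iff_card.mp (core_isPGroup q M)
  rw [hi]
  exact ((Fact.out : q.Prime).coprime_iff_not_dvd.mpr h).pow_left i

omit [Finite G] in
/-- Subgroups normalizing each other with trivial intersection centralize each other. -/
theorem le_centralizer_of_normalizes {U V : Subgroup G} (hUV : U ≤ normalizer (V : Set G))
    (hVU : V ≤ normalizer (U : Set G)) (h : U ⊓ V = ⊥) : U ≤ centralizer (V : Set G) := by
  intro u hu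
  refine mem_centralizer_iff.mpr fun v hv => ?_
  have h1 : u * v * u⁻¹ * v⁻¹ ∈ U ⊓ V := by
    refine mem_inf.mpr ⟨?_, mul_mem ((mem_normalizer_iff.mp (hUV hu) v).mp hv) (inv_mem hv)⟩
    rw [show u * v * u⁻¹ * v⁻¹ = u * (v * u⁻¹ * v⁻¹) by group]
    exact mul_mem hu ((mem_normalizer_iff.mp (hVU hv) u⁻¹).mp (inv_mem hu))
  rw [h, mem_bot, mul_inv_eq_one, mul_inv_eq_iff_eq_mul] at h1
  exact h1.symm

theorem core_commute {q r : ℕ} [Fact q.Prime] [Fact r.Prime] (M : Subgroup G) (hqr : q ≠ r) :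
    core q M ≤ centralizer (core r M : Set G) := by
  refine le_centralizer_of_normalizes ((core_le q M).trans (le_normalizer_core r M))
    ((core_le r M).trans (le_normalizer_core q M)) (eq_bot_of_card_eq _ (Nat.eq_one_of_dvd_coprimes
      ?_ (card_dvd_of_le inf_le_left) (card_dvd_of_le inf_le_right)))
  obtain ⟨i, hi⟩ := IsPGroup.iff_card.mp (core_isPGroup q M)
  obtain ⟨j, hj⟩ := IsPGroup.iff_card.mp (core_isPGroup r M)
  rw [hi, hj]
  exact ((Nat.coprime_primes Fact.out Fact.out).mpr hqr).pow i j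

/-- An element centralizing every `O_q (M)` centralizes the Fitting subgroup. -/
theorem mem_centralizer_fitting {M : Subgroup G} {y : G}
    (h : ∀ (q : ℕ) [Fact q.Prime], q ∣ Nat.card (Cfsg.fittingOf M) → y ∈ centralizer (core q M : Set G)) :
    y ∈ centralizer (Cfsg.fittingOf M : Set G) := by
  refine mem_centralizer_iff.mpr fun z hz => mem_centralizer_singleton_iff.mp
    (show z ∈ centralizer ({y} : Set G) from ?_)
  refine Cfsg.Lib.PGroup.mem_of_ordCompl_pow_mem fun q hq hd => ?_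
  haveI : Fact q.Prime := ⟨hq⟩
  refine mem_centralizer_singleton_iff.mpr (mem_centralizer_iff.mp (h q (hd.trans ?_)) _
    (mem_core_of_fitting (pow_mem hz _) _ (Cfsg.Lib.PGroup.orderOf_ordCompl_pow hq)))
  rw [← Subgroup.orderOf_mk z hz]
  exact orderOf_dvd_natCard _

theorem centralizer_fitting_le (hG : Cfsg.IsMinSimpleOddOrder G) {M : Subgroup G} (hM : M ≠ ⊤) :
    M ⊓ centralizer (Cfsg.fittingOf M : Set G) ≤ Cfsg.fittingOf M := by
  haveI : Group.IsSolvable M := hG.2.2.2 M hM
  rintro x ⟨hx, hc⟩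
  exact ⟨⟨x, hx⟩, Core.centralizer_fitting_le_of_isSolvable (mem_centralizer_iff.mpr fun y hy =>
    Subtype.ext (mem_centralizer_iff.mp hc _ (mem_map_of_mem _ hy))), rfl⟩

/-- A nontrivial normal subgroup of a maximal subgroup has that normalizer. -/
theorem normalizer_normal_eq (hG : Cfsg.IsMinSimpleOddOrder G) {M N : Subgroup G} (hM : IsCoatom M)
    (hNM : N ≤ M) (hN : N ≠ ⊥) (h : M ≤ normalizer (N : Set G)) : normalizer (N : Set G) = M :=
  eq_normalizer hG hM hN (ne_top_of_le_ne_top hM.1 hNM) h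

omit [Finite G] in
/-- `Z (O_q (M))`. -/
abbrev zcore (q : ℕ) (M : Subgroup G) : Subgroup G := core q M ⊓ centralizer (core q M : Set G)

theorem zcore_ne_bot {q : ℕ} [Fact q.Prime] {M : Subgroup G} (h : core q M ≠ ⊥) : zcore q M ≠ ⊥ := by
  haveI : Nontrivial (core q M) := (nontrivial_iff_ne_bot _).mpr h
  haveI := (core_isPGroup q M).center_nontrivial
  obtain ⟨z, hz, hz1⟩ := (center (core q M)).bot_or_exists_ne_one.resolve_left
    ((nontrivial_iff_ne_bot _).mp inferInstance)
  intro e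
  have : (z : G) ∈ zcore q M := ⟨z.2, mem_centralizer_iff.mpr fun y hy =>
    congrArg Subtype.val (mem_center_iff.mp hz ⟨y, hy⟩)⟩
  rw [e, mem_bot] at this
  exact hz1 (Subtype.ext this)

omit [Finite G] in
theorem le_normalizer_zcore (q : ℕ) (M : Subgroup G) : M ≤ normalizer (zcore q M : Set G) :=
  (le_inf (le_normalizer_core q M) ((le_normalizer_core q M).trans
    (normalizer_le_normalizer_centralizer' _))).trans inf_normalizer_le_normalizer_inf
where
  normalizer_le_normalizer_centralizer' (A : Subgroup G) :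
      normalizer (A : Set G) ≤ normalizer (centralizer (A : Set G) : Set G) := by
    refine Cfsg.Lib.Sig.le_normalizer_of_invariant fun c hc u hu => mem_centralizer_iff.mpr fun b hb => ?_
    have hcu := mem_centralizer_iff.mp hu _ ((mem_normalizer_iff''.mp hc b).mp hb)
    calc b * (c * u * c⁻¹) = c * ((c⁻¹ * b * c) * u) * c⁻¹ := by group
      _ = c * (u * (c⁻¹ * b * c)) * c⁻¹ := by rw [hcu]
      _ = c * u * c⁻¹ * b := by group

theorem centralizer_zcore_le (hG : Cfsg.IsMinSimpleOddOrder G) {q : ℕ} [Fact q.Prime] {M : Subgroup G}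
    (hM : IsCoatom M) (h : core q M ≠ ⊥) : centralizer (zcore q M : Set G) ≤ M :=
  (centralizer_le_normalizer _).trans (normalizer_normal_eq hG hM (inf_le_left.trans (core_le q M))
    (zcore_ne_bot h) (le_normalizer_zcore q M)).le

theorem centralizer_core_le (hG : Cfsg.IsMinSimpleOddOrder G) {q : ℕ} [Fact q.Prime] {M : Subgroup G}
    (hM : IsCoatom M) (h : core q M ≠ ⊥) : centralizer (core q M : Set G) ≤ M :=
  (centralizer_le inf_le_left).trans (centralizer_zcore_le hG hM h)

/-- One half of Bender's comparison. -/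
theorem core_le_core (hG : Cfsg.IsMinSimpleOddOrder G) {M H : Subgroup G} (hM : IsCoatom M)
    (hH : IsCoatom H) (hπ : ∀ (r : ℕ) [Fact r.Prime], core r M ≠ ⊥ ↔ core r H ≠ ⊥)
    (hMH : ∀ (r : ℕ) [Fact r.Prime], core r M ≤ H)
    (q : ℕ) [hq : Fact q.Prime] {r₀ : ℕ} [hr₀ : Fact r₀.Prime] (hr₀q : r₀ ≠ q) (hr₀M : core r₀ M ≠ ⊥)
    (hqM : core q M ≠ ⊥) : core q M ≤ core q H := by
  haveI : Group.IsSolvable H := hG.2.2.2 H hH.1
  -- cores of the other primes
  have hkey : ∀ (r s : ℕ) [Fact r.Prime] [Fact s.Prime], r ≠ s → core r M ≠ ⊥ →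
      core s M ≤ opp r H := by
    intro r s _ _ hrs hr
    rw [opp_eq_map, ← map_subgroupOf_eq_of_le (hMH s)]
    refine map_mono (Cfsg.Lib.Sig.le_pPrimeCore_of_centralizes
      (Cfsg.Lib.Sig.isPConstrained_of_isPSolvable Core.isPSolvable_of_isSolvable)
      (P := (core r M).subgroupOf H) ((core_isPGroup r M).of_equiv (subgroupOfEquivOfLe (hMH r)).symm) ?_ ?_ ?_)
    · rw [Nat.card_congr (subgroupOfEquivOfLe (hMH s)).toEquiv]
      obtain ⟨i, hi⟩ := IsPGroup.iff_card.mp (core_isPGroup s M)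
      rw [hi]
      exact ((Nat.coprime_primes Fact.out Fact.out).mpr hrs.symm).pow_left i
    · intro x hx
      exact mem_centralizer_iff.mpr fun y hy => Subtype.ext (mem_centralizer_iff.mp (core_commute M hrs.symm hx) _ hy)
    · intro c hc
      refine subgroupOf_le_normalizer (R := M) (le_normalizer_core s M) ?_
      refine centralizer_core_le hG hM hr (mem_centralizer_iff.mpr fun y hy => ?_)
      exact congrArg Subtype.val (mem_centralizer_iff.mp hc ⟨y, hMH r hy⟩ hy)
  set N : Subgroup G := H ⊓ ⨅ (r : ℕ), ⨅ (_ : r.Prime), ⨅ (_ : r ≠ q), ⨅ (_ : core r M ≠ ⊥), opp r H with hN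
  have hNle : ∀ (r : ℕ) [Fact r.Prime], r ≠ q → core r M ≠ ⊥ → N ≤ opp r H := fun r _ h1 h2 =>
    inf_le_right.trans (iInf_le_of_le r (iInf_le_of_le Fact.out (iInf_le_of_le h1 (iInf_le _ h2))))
  have hHN : H ≤ normalizer (N : Set G) := by
    refine Cfsg.Lib.Sig.le_normalizer_of_invariant fun h hh n hn => ?_
    simp only [hN, mem_inf, mem_iInf] at hn ⊢
    exact ⟨mul_mem (mul_mem hh hn.1) (inv_mem hh), fun r h1 h2 h3 =>
      (mem_normalizer_iff.mp (le_normalizer_opp H hh) n).mp (hn.2 r h1 h2 h3)⟩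
  -- `N` centralizes the other cores
  have hNc : N ≤ M := by
    refine le_trans ?_ (centralizer_core_le hG hM hr₀M)
    intro n hn
    refine mem_centralizer_iff.mpr fun y hy => ?_
    set c := n * y * n⁻¹ * y⁻¹
    have hcN : c ∈ N := by
      rw [show c = n * (y * n⁻¹ * y⁻¹) by simp [c, mul_assoc]]
      exact mul_mem hn ((mem_normalizer_iff.mp (hHN (hMH r₀ hy)) _).mp (inv_mem hn))
    have hcq : c ∈ opp q H := by
      have hy' := hkey q r₀ (Ne.symm hr₀q) hqM hy
      rw [show c = (n * y * n⁻¹) * y⁻¹ by simp [c]]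
      exact mul_mem ((mem_normalizer_iff.mp (le_normalizer_opp H hn.1) y).mp hy') (inv_mem hy')
    have hcF : c ∈ Cfsg.fittingOf H := by
      refine centralizer_fitting_le hG hH.1 ⟨hcN.1, mem_centralizer_fitting fun s _ hs => ?_⟩
      have hsM : core s M ≠ ⊥ := (hπ s).mpr (core_ne_bot hs)
      have hcs : c ∈ opp s H := if h : s = q then h ▸ hcq else hNle s h hsM hcN
      refine le_centralizer_of_normalizes ((opp_le H).trans (le_normalizer_core s H))
        ((core_le s H).trans (le_normalizer_opp H)) ?_ hcs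
      rw [inf_comm]
      exact Cfsg.Lib.Sig.disjoint_of_isPGroup_coprime (core_isPGroup s H) (opp_coprime H)
    by_contra hne
    have hc1 : c ≠ 1 := fun e => hne (by
      have := mul_inv_eq_iff_eq_mul.mp (mul_inv_eq_one.mp e)
      exact this.symm)
    obtain ⟨s, hs, hsd⟩ := Nat.exists_prime_and_dvd (fun e => hc1 (orderOf_eq_one_iff.mp e))
    haveI : Fact s.Prime := ⟨hs⟩
    have hsF : s ∣ Nat.card (Cfsg.fittingOf H) := hsd.trans (by
      rw [← Subgroup.orderOf_mk c hcF]; exact orderOf_dvd_natCard _)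
    have hsM : core s M ≠ ⊥ := (hπ s).mpr (core_ne_bot hsF)
    have hcs : c ∈ opp s H := if h : s = q then h ▸ hcq else hNle s h hsM hcN
    refine hs.coprime_iff_not_dvd.mp (opp_coprime (p := s) H).symm (hsd.trans ?_)
    rw [← Subgroup.orderOf_mk c hcs]
    exact orderOf_dvd_natCard _
  have hTN : core q M ≤ N := le_inf (hMH q) (le_iInf fun r => le_iInf fun h1 => le_iInf fun h2 =>
    le_iInf fun h3 => @hkey r q ⟨h1⟩ _ h2 h3)
  have hsn : ((core q M).subgroupOf H).IsSubnormal := by
    refine IsSubnormal.step _ (N.subgroupOf H) (fun x hx => hTN hx)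
      ((normal_subgroupOf_iff_le_normalizer inf_le_left).mpr hHN).isSubnormal ?_
    refine (normal_subgroupOf_iff_le_normalizer (H := (core q M).subgroupOf H) (K := N.subgroupOf H)
      (fun x hx => hTN hx)).mpr ?_
    exact subgroupOf_le_normalizer (hNc.trans (le_normalizer_core q M))
  rw [← map_subgroupOf_eq_of_le (hMH q)]
  exact map_mono (Core.le_pCore_of_isSubnormal hsn
    ((core_isPGroup q M).of_equiv (subgroupOfEquivOfLe (hMH q)).symm))

/-- Bender's comparison. -/
theorem bender (hG : Cfsg.IsMinSimpleOddOrder G) {M H : Subgroup G} (hM : IsCoatom M)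
    (hH : IsCoatom H) (hπ : ∀ (r : ℕ) [Fact r.Prime], core r M ≠ ⊥ ↔ core r H ≠ ⊥)
    (hMH : ∀ (r : ℕ) [Fact r.Prime], core r M ≤ H) (hHM : ∀ (r : ℕ) [Fact r.Prime], core r H ≤ M)
    {q r : ℕ} [Fact q.Prime] [Fact r.Prime] (hqr : r ≠ q) (hq : core q M ≠ ⊥) (hr : core r M ≠ ⊥) :
    H = M := by
  have e : core q M = core q H := le_antisymm (core_le_core hG hM hH hπ hMH q hqr hr hq)
    (core_le_core hG hH hM (fun s _ => (hπ s).symm) hHM q hqr ((hπ r).mp hr) ((hπ q).mp hq))
  rw [← normalizer_normal_eq hG hM (core_le q M) hq (le_normalizer_core q M), e,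
    normalizer_normal_eq hG hH (core_le q H) ((hπ q).mp hq) (le_normalizer_core q H)]

end Cfsg.Lib.Local.Uniq
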