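import Cfsg.Agent.Lib.Local.Uniq.Core
import Cfsg.Agent.Lib.Coprime.PGroupAction
import Cfsg.Agent.S1312

/-!
Bender's argument: two maximal subgroups sharing the centre of a Fitting subgroup with several primes.
-/

set_option autoImplicit false
set_option linter.style.haveILetI false

namespace Cfsg.Lib.Local.Uniq

open Subgroup

universe u

variable {G : Type u} [Group G] [Finite G]

/-- `Z (O_q (M))` lies in the centre of `F (M)`. -/
theorem zcore_le_center {q : ℕ} [Fact q.Prime] (M : Subgroup G) :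
    zcore q M ≤ Cfsg.fittingOf M ⊓ centralizer (Cfsg.fittingOf M : Set G) := by
  refine le_inf (inf_le_left.trans (core_le_fitting q M)) fun y hy => mem_centralizer_fitting fun r _ _ => ?_
  by_cases hrq : r = q
  · subst hrq; exact hy.2
  · exact core_commute M (Ne.symm hrq) hy.1

/-- If the centres of `O_q (M)` and `O_r (M)` lie in `L`, then `O_q (L)` lies in `M`. -/
theorem core_le_of_zcore (hG : Cfsg.IsMinSimpleOddOrder G) {M L : Subgroup G} (hM : IsCoatom M) {q r : ℕ}
    [hq : Fact q.Prime] [hr : Fact r.Prime] (hrq : r ≠ q) (hqM : core q M ≠ ⊥) (hrM : core r M ≠ ⊥)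
    (hzq : zcore q M ≤ L) (hzr : zcore r M ≤ L) : core q L ≤ M := by
  set Q := core q L
  have hrp : IsPGroup r (zcore r M) := (core_isPGroup r M).to_le inf_le_left
  have hfix : Q ⊓ centralizer (zcore q M : Set G) ≤ centralizer (zcore r M : Set G) := by
    intro w hw
    have hwM : w ∈ M := centralizer_zcore_le hG hM hqM hw.2
    refine mem_centralizer_iff.mpr fun z hz => ?_
    have h1 : z * w * z⁻¹ * w⁻¹ ∈ core r M ⊓ Q := by
      refine Subgroup.mem_inf.mpr ⟨?_, ?_⟩
      · rw [show z * w * z⁻¹ * w⁻¹ = z * (w * z⁻¹ * w⁻¹) by group]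
        exact mul_mem hz.1 ((mem_normalizer_iff.mp (le_normalizer_core r M hwM) _).mp (inv_mem hz.1))
      · exact mul_mem ((mem_normalizer_iff.mp (le_normalizer_core q L (hzr hz)) w).mp hw.1) (inv_mem hw.1)
    have h2 : core r M ⊓ Q = ⊥ := by
      refine eq_bot_of_card_eq _ (Nat.eq_one_of_dvd_coprimes ?_ (card_dvd_of_le inf_le_left)
        (card_dvd_of_le inf_le_right))
      obtain ⟨i, hi⟩ := IsPGroup.iff_card.mp (core_isPGroup r M)
      obtain ⟨j, hj⟩ := IsPGroup.iff_card.mp (core_isPGroup q L)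
      rw [hi, hj]
      exact ((Nat.coprime_primes Fact.out Fact.out).mpr hrq).pow i j
    rw [h2, mem_bot, mul_inv_eq_one, mul_inv_eq_iff_eq_mul] at h1
    exact h1
  have hcomm : zcore r M ≤ centralizer (zcore q M : Set G) :=
    inf_le_left.trans ((core_commute M hrq).trans (centralizer_le inf_le_left))
  have h := Cfsg.Lib.Coprime.commutator_eq_bot_of_AxB Q (zcore q M) (zcore r M) (core_isPGroup q L)
    ((core_isPGroup q M).to_le inf_le_left) (by
      obtain ⟨i, hi⟩ := IsPGroup.iff_card.mp hrp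
      rw [hi]
      exact ((Nat.coprime_primes Fact.out Fact.out).mpr hrq).pow_left i)
    (hzq.trans (le_normalizer_core q L)) (hzr.trans (le_normalizer_core q L)) hcomm hfix
  exact (commutator_eq_bot_iff_le_centralizer.mp h).trans (centralizer_zcore_le hG hM hrM)

/-- `F (M) ≤ L` if the Fitting primes of `M` are at least two and include those of `L`. -/
theorem fitting_le_of_zcore (hG : Cfsg.IsMinSimpleOddOrder G) {M L : Subgroup G} (hM : IsCoatom M)
    (hz : ∀ (q : ℕ) [Fact q.Prime], zcore q M ≤ L)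
    (h2 : ∀ q : ℕ, ∃ r : ℕ, r.Prime ∧ r ≠ q ∧ r ∣ Nat.card (Cfsg.fittingOf M))
    (hπ : ∀ q : ℕ, q.Prime → q ∣ Nat.card (Cfsg.fittingOf L) → q ∣ Nat.card (Cfsg.fittingOf M)) :
    Cfsg.fittingOf L ≤ M := fun z hz' => by
  refine Cfsg.Lib.PGroup.mem_of_ordCompl_pow_mem fun q hq hd => ?_
  haveI : Fact q.Prime := ⟨hq⟩
  obtain ⟨r, hr, hrq, hrM⟩ := h2 q
  haveI : Fact r.Prime := ⟨hr⟩
  have hqL : q ∣ Nat.card (Cfsg.fittingOf L) := hd.trans (Subgroup.orderOf_dvd_natCard _ hz')
  refine core_le_of_zcore hG hM hrq (core_ne_bot (hπ q hq hqL)) (core_ne_bot hrM) (hz q) (hz r) ?_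
  exact mem_core_of_fitting (pow_mem hz' _) _ (Cfsg.Lib.PGroup.orderOf_ordCompl_pow hq)

/-- S1482. -/
theorem eq_of_center_le (hG : Cfsg.IsMinSimpleOddOrder G) {H L : Subgroup G} (hH : IsCoatom H)
    (hF2 : 2 ≤ (Nat.card (Cfsg.fittingOf H)).primeFactors.card) {M : Subgroup G} (hM : M ≤ Cfsg.fittingOf H)
    (hZM : Cfsg.fittingOf H ⊓ centralizer (Cfsg.fittingOf H : Set G) ≤ M)
    (hinv : ∀ Y ∈ Cfsg.invSubgroups ⊤ M (Cfsg.primesNotDvd (Nat.card (Cfsg.fittingOf H))), Y = ⊥)
    (hL : IsCoatom L) (hML : M ≤ L) : L = H := by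
  have hzH : ∀ (q : ℕ) [Fact q.Prime], zcore q H ≤ L := fun q _ => ((zcore_le_center H).trans hZM).trans hML
  have h2H : ∀ q : ℕ, ∃ r : ℕ, r.Prime ∧ r ≠ q ∧ r ∣ Nat.card (Cfsg.fittingOf H) := fun q => by
    obtain ⟨r, hr, hne⟩ := Finset.exists_mem_ne (show 1 < (Nat.card (Cfsg.fittingOf H)).primeFactors.card by omega) q
    exact ⟨r, Nat.prime_of_mem_primeFactors hr, hne, Nat.dvd_of_mem_primeFactors hr⟩
  have hπ : ∀ q : ℕ, q.Prime → q ∣ Nat.card (Cfsg.fittingOf L) → q ∣ Nat.card (Cfsg.fittingOf H) := by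
    intro q hq hd
    by_contra hqH
    haveI : Fact q.Prime := ⟨hq⟩
    refine core_ne_bot hd (hinv _ ⟨le_top, fun t ht htd => ?_, hML.trans (le_normalizer_core q L)⟩)
    obtain ⟨i, hi⟩ := IsPGroup.iff_card.mp (core_isPGroup q L)
    rw [hi] at htd
    obtain rfl := (Nat.prime_dvd_prime_iff_eq ht hq).mp (ht.dvd_of_dvd_pow htd)
    exact ⟨ht, hqH⟩
  have hFL : Cfsg.fittingOf L ≤ H := fitting_le_of_zcore hG hH hzH h2H hπ
  -- every prime of `F (H)` divides `|F (L)|`
  have hπ' : ∀ q : ℕ, q.Prime → q ∣ Nat.card (Cfsg.fittingOf H) → q ∣ Nat.card (Cfsg.fittingOf L) := by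
    intro q hq hd
    haveI : Fact q.Prime := ⟨hq⟩
    by_contra hqL
    have hz1 := zcore_ne_bot (core_ne_bot (M := H) hd)
    have hzc : zcore q H ≤ centralizer (Cfsg.fittingOf L : Set G) := fun z hz => mem_centralizer_fitting
      fun t _ htd => by
        have htL : core t L ≤ H := (core_le_fitting t L).trans hFL
        refine mem_centralizer_iff.mpr fun w hw => ?_
        have h1 : w * z * w⁻¹ * z⁻¹ ∈ core q H ⊓ core t L := by
          refine Subgroup.mem_inf.mpr ⟨mul_mem ((mem_normalizer_iff.mp (le_normalizer_core q H (htL hw)) z).mp hz.1)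
            (inv_mem hz.1), ?_⟩
          rw [show w * z * w⁻¹ * z⁻¹ = w * (z * w⁻¹ * z⁻¹) by group]
          exact mul_mem hw ((mem_normalizer_iff.mp (le_normalizer_core t L (hzH q hz)) _).mp (inv_mem hw))
        have h2 : core q H ⊓ core t L = ⊥ := by
          refine eq_bot_of_card_eq _ (Nat.eq_one_of_dvd_coprimes ?_ (card_dvd_of_le inf_le_left)
            (card_dvd_of_le inf_le_right))
          obtain ⟨i, hi⟩ := IsPGroup.iff_card.mp (core_isPGroup q H)
          obtain ⟨j, hj⟩ := IsPGroup.iff_card.mp (core_isPGroup t L)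
          rw [hi, hj]
          exact ((Nat.coprime_primes hq Fact.out).mpr fun e => hqL (e ▸ htd)).pow i j
        rw [h2, mem_bot, mul_inv_eq_one, mul_inv_eq_iff_eq_mul] at h1
        exact h1
    have hle : zcore q H ≤ Cfsg.fittingOf L :=
      (le_inf (hzH q) hzc).trans (centralizer_fitting_le hG hL.1)
    obtain ⟨i, hi⟩ := IsPGroup.iff_card.mp ((core_isPGroup q H).to_le (inf_le_left : zcore q H ≤ core q H))
    have hi0 : i ≠ 0 := fun h0 => hz1 (eq_bot_of_card_eq _ (by rw [hi, h0, pow_zero]))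
    refine hqL ((dvd_pow_self q hi0).trans ?_)
    exact hi ▸ card_dvd_of_le hle
  have hzL : ∀ (q : ℕ) [Fact q.Prime], zcore q L ≤ H := fun q _ =>
    (inf_le_left.trans (core_le_fitting q L)).trans hFL
  have hFH : Cfsg.fittingOf H ≤ L := fitting_le_of_zcore hG hL hzL
    (fun q => let ⟨r, hr, hne, hd⟩ := h2H q; ⟨r, hr, hne, hπ' r hr hd⟩) hπ'
  -- now S1312
  by_contra hne
  haveI : Nontrivial G := by
    by_contra hn
    rw [not_nontrivial_iff_subsingleton] at hn
    exact hH.1 (Subsingleton.elim H ⊤)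
  haveI : IsSimpleGroup G := hG.2.1
  have hgf : ∀ X : Subgroup G, X ≠ ⊤ →
      (Cfsg.generalizedFittingSubgroup ↥X).map X.subtype = Cfsg.fittingOf X := fun X hX => by
    haveI : Group.IsSolvable X := hG.2.2.2 X hX
    rw [Core.generalizedFitting_eq_fitting_of_layer_eq_bot Core.layer_eq_bot_of_isSolvable]
    rfl
  obtain ⟨p, hp, -, hP⟩ := Cfsg.Agent.S1312.result (fun h => hG.2.2.1 h) L H hL hH hne
    ((hgf L hL.1).trans_le hFL) ((hgf H hH.1).trans_le hFH)
  haveI : Fact p.Prime := ⟨hp⟩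
  obtain ⟨r, hr, hrp, hd⟩ := h2H p
  obtain ⟨i, hi⟩ := IsPGroup.iff_card.mp (hP.map H.subtype)
  rw [hgf H hH.1] at hi
  exact hrp ((Nat.prime_dvd_prime_iff_eq hr hp).mp (hr.dvd_of_dvd_pow (hi ▸ hd)))

end Cfsg.Lib.Local.Uniq
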