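import Cfsg.Agent.Lib.Local.Uniq.BenderFitting
import Cfsg.Agent.Lib.Local.OddTransitivity

/-!
Bender's lemma: invariant `q`-subgroups of a solvable group normalized by a subgroup of `F (H)`.
-/

set_option autoImplicit false
set_option linter.style.haveILetI false

namespace Cfsg.Lib.Local.Uniq

open Subgroup
open scoped commutatorElement

universe u

variable {G : Type u} [Group G] [Finite G]

/-- A subgroup centralized modulo a coprime normalized subgroup. -/
theorem exists_lift_centralizer {O A : Subgroup G} (hAO : A ≤ normalizer (O : Set G))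
    (hcop : (Nat.card A).Coprime (Nat.card O)) (hsol : Group.IsSolvable A) {y : G}
    (hy : ∀ a ∈ A, y * a * y⁻¹ * a⁻¹ ∈ O) : ∃ n ∈ O, n * y ∈ centralizer (A : Set G) := by
  have hB : A.map (MulAut.conj y).toMonoidHom ≤ O ⊔ A := by
    rintro _ ⟨a, ha, rfl⟩
    show y * a * y⁻¹ ∈ O ⊔ A
    rw [show y * a * y⁻¹ = y * a * y⁻¹ * a⁻¹ * a by group]
    exact mul_mem (mem_sup_left (hy a ha)) (mem_sup_right ha)
  obtain ⟨n, hn, he⟩ := Cfsg.Lib.Coprime.exists_conj_of_coprime O A (A.map (MulAut.conj y).toMonoidHom) hAO hcop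
    (Or.inl hsol) hB (Cfsg.Lib.Coprime.card_map_conj _ _)
  refine ⟨n⁻¹, inv_mem hn, mem_centralizer_iff.mpr fun a ha => ?_⟩
  have h1 : n⁻¹ * y * a * (n⁻¹ * y)⁻¹ ∈ A := by
    obtain ⟨b, hb, hbe⟩ := he.le (mem_map_of_mem (MulAut.conj y).toMonoidHom ha)
    have hbe' : n * b * n⁻¹ = y * a * y⁻¹ := hbe
    rw [show n⁻¹ * y * a * (n⁻¹ * y)⁻¹ = n⁻¹ * (y * a * y⁻¹) * n by group, ← hbe',
      show n⁻¹ * (n * b * n⁻¹) * n = b by group]
    exact hb
  have h2 : n⁻¹ * y * a * (n⁻¹ * y)⁻¹ * a⁻¹ ∈ A ⊓ O := by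
    refine Subgroup.mem_inf.mpr ⟨mul_mem h1 (inv_mem ha), ?_⟩
    rw [show n⁻¹ * y * a * (n⁻¹ * y)⁻¹ * a⁻¹ = n⁻¹ * (y * a * y⁻¹ * a⁻¹) * (a * n * a⁻¹) by group]
    exact mul_mem (mul_mem (inv_mem hn) (hy a ha)) ((mem_normalizer_iff.mp (hAO ha) n).mp hn)
  rw [eq_bot_of_card_eq (A ⊓ O) (Nat.eq_one_of_dvd_coprimes hcop (card_dvd_of_le inf_le_left)
    (card_dvd_of_le inf_le_right)), mem_bot, mul_inv_eq_one, mul_inv_eq_iff_eq_mul] at h2
  exact h2.symm

/-- The hypotheses of Bender's lemma. -/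
structure BenderData (H M R : Subgroup G) : Prop where
  loc : Cfsg.IsLocalSubgroup H
  maxloc : ∀ L : Subgroup G, Cfsg.IsLocalSubgroup L → H ≤ L → L = H
  two : 2 ≤ (Nat.card (Cfsg.fittingOf H)).primeFactors.card
  le : M ≤ Cfsg.fittingOf H
  self : Cfsg.fittingOf H ⊓ centralizer (M : Set G) ≤ M
  solvable : Group.IsSolvable R
  norm : M ≤ normalizer (R : Set G)
  normX : H ⊓ centralizer (Cfsg.fittingOf H : Set G) ≤ normalizer (R : Set G)

variable {H M R : Subgroup G}

theorem BenderData.zcore_le (h : BenderData H M R) (p : ℕ) [Fact p.Prime] : zcore p H ≤ M := fun z hz =>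
  h.self ⟨(zcore_le_center H hz).1, centralizer_le h.le (zcore_le_center H hz).2⟩

theorem BenderData.centralizer_zcore (h : BenderData H M R) {p : ℕ} [hp : Fact p.Prime]
    (hd : p ∣ Nat.card (Cfsg.fittingOf H)) : centralizer (zcore p H : Set G) ≤ H := by
  have hloc : Cfsg.IsLocalSubgroup (normalizer (zcore p H : Set G)) :=
    ⟨p, zcore p H, hp.out, (core_isPGroup p H).to_le inf_le_left, zcore_ne_bot (core_ne_bot hd), rfl⟩
  exact (centralizer_le_normalizer _).trans (h.maxloc _ hloc (le_normalizer_zcore p H)).le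

theorem BenderData.exists_prime (h : BenderData H M R) (q : ℕ) :
    ∃ r : ℕ, r.Prime ∧ r ≠ q ∧ r ∣ Nat.card (Cfsg.fittingOf H) := by
  have := h.two
  obtain ⟨r, hr, hne⟩ := Finset.exists_mem_ne (show 1 < (Nat.card (Cfsg.fittingOf H)).primeFactors.card by omega) q
  exact ⟨r, Nat.prime_of_mem_primeFactors hr, hne, Nat.dvd_of_mem_primeFactors hr⟩

theorem fittingOf_le_of_normal {W X : Subgroup G} (hWX : W ≤ X) (hn : X ≤ normalizer (W : Set G)) :
    Cfsg.fittingOf W ≤ Cfsg.fittingOf X := by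
  haveI : (Cfsg.fittingSubgroup W).Characteristic := Core.fittingSubgroup_characteristic
  have hle : Cfsg.fittingOf W ≤ X := (fitting_le W).trans hWX
  have hnX : X ≤ normalizer (Cfsg.fittingOf W : Set G) :=
    hn.trans (Core.normalizer_le_normalizer_map_char (Cfsg.fittingSubgroup W))
  rw [← map_subgroupOf_eq_of_le hle]
  haveI := fitting_isNilpotent W
  exact map_mono (Core.le_fittingSubgroup' ((normal_subgroupOf_iff_le_normalizer hle).mpr hnX)
    (Group.nilpotent_of_mulEquiv (subgroupOfEquivOfLe hle).symm))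

/-- No nontrivial element of order prime to `|F|` of `R` centralizes `M`. -/
theorem BenderData.eq_one (h : BenderData H M R) {c : G} (hcR : c ∈ R) (hc : c ∈ centralizer (M : Set G))
    (hco : (orderOf c).Coprime (Nat.card (Cfsg.fittingOf H))) : c = 1 := by
  obtain ⟨p₀, hp₀, -, hd₀⟩ := h.exists_prime 0
  haveI : Fact p₀.Prime := ⟨hp₀⟩
  have hcH : c ∈ H := h.centralizer_zcore hd₀ (centralizer_le (h.zcore_le p₀) hc)
  have hcX : c ∈ H ⊓ centralizer (Cfsg.fittingOf H : Set G) := by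
    refine Subgroup.mem_inf.mpr ⟨hcH, mem_centralizer_fitting fun p hp hd => ?_⟩
    set V := core p H
    have hfix : V ⊓ centralizer ((M ⊓ V : Subgroup G) : Set G) ≤ centralizer (zpowers c : Set G) := by
      intro y hy
      have hyM : y ∈ M := h.self ⟨core_le_fitting p H hy.1, mem_centralizer_iff.mpr fun m hm =>
        mem_centralizer_singleton_iff.mp (show m ∈ centralizer ({y} : Set G) from by
          refine Cfsg.Lib.PGroup.mem_of_ordCompl_pow_mem fun s hs _ => ?_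
          haveI : Fact s.Prime := ⟨hs⟩
          set b := m ^ (orderOf m / s ^ (orderOf m).factorization s)
          have hbM : b ∈ M := pow_mem hm _
          have hbc : b ∈ core s H :=
            mem_core_of_fitting (h.le hbM) _ (Cfsg.Lib.PGroup.orderOf_ordCompl_pow hs)
          refine mem_centralizer_singleton_iff.mpr ?_
          by_cases hsp : s = p
          · subst hsp
            exact mem_centralizer_iff.mp hy.2 b (Subgroup.mem_inf.mpr ⟨hbM, hbc⟩)
          · exact (mem_centralizer_iff.mp (core_commute H hsp hbc) y hy.1).symm)⟩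
      exact mem_centralizer_iff.mpr fun g hg => (mem_centralizer_singleton_iff.mp
        ((zpowers_le.mpr (mem_centralizer_singleton_iff.mpr (mem_centralizer_iff.mp hc y hyM).symm) :
          zpowers c ≤ centralizer ({y} : Set G)) hg))
    have hb := Cfsg.Lib.Coprime.commutator_eq_bot_of_AxB V (M ⊓ V) (zpowers c) (core_isPGroup p H)
      ((core_isPGroup p H).to_le inf_le_right) (by
        rw [Nat.card_zpowers]
        exact hco.coprime_dvd_right hd)
      (inf_le_right.trans Subgroup.le_normalizer) ((zpowers_le.mpr hcH).trans (le_normalizer_core p H))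
      ((zpowers_le.mpr hc).trans (centralizer_le inf_le_left)) hfix
    exact mem_centralizer_iff.mpr fun v hv => (mem_centralizer_iff.mp
      (commutator_eq_bot_iff_le_centralizer.mp hb hv) c (mem_zpowers c)).symm
  -- `R ⊓ X` lies in `F`
  set X := H ⊓ centralizer (Cfsg.fittingOf H : Set G)
  set W := R ⊓ X
  have hXW : X ≤ normalizer (W : Set G) :=
    (le_inf h.normX Subgroup.le_normalizer).trans inf_normalizer_le_normalizer_inf
  have hHX : H ≤ normalizer (X : Set G) :=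
    (le_inf Subgroup.le_normalizer ((le_normalizer_map_normal (hN := Core.fittingSubgroup_normal' ↥H)
      (Cfsg.fittingSubgroup ↥H)).trans (normalizer_le_normalizer_centralizer _))).trans
        inf_normalizer_le_normalizer_inf
  have hFW : Cfsg.fittingOf W ≤ Cfsg.fittingOf H :=
    (fittingOf_le_of_normal inf_le_right hXW).trans (fittingOf_le_of_normal inf_le_left hHX)
  haveI : Group.IsSolvable W := Cfsg.Lib.Coprime.isSolvable_of_le inf_le_left h.solvable
  have hcF : c ∈ Cfsg.fittingOf W := by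
    refine ⟨⟨c, ⟨hcR, hcX⟩⟩, Core.centralizer_fitting_le_of_isSolvable (mem_centralizer_iff.mpr fun y hy =>
      Subtype.ext ?_), rfl⟩
    exact mem_centralizer_iff.mp hcX.2 _ (hFW (mem_map_of_mem _ hy))
  exact orderOf_eq_one_iff.mp (Nat.eq_one_of_dvd_coprimes hco dvd_rfl (Subgroup.orderOf_dvd_natCard _ (hFW hcF)))

/-- `Z (O_p (H))` acts fixed-point-freely on the invariant `q`-subgroups. -/
theorem BenderData.fixedfree (h : BenderData H M R) {q p : ℕ} [hq : Fact q.Prime] [Fact p.Prime]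
    (hqF : ¬ q ∣ Nat.card (Cfsg.fittingOf H)) (hd : p ∣ Nat.card (Cfsg.fittingOf H)) {Q : Subgroup G}
    (hQR : Q ≤ R) (hQ : IsPGroup q Q) (hMQ : M ≤ normalizer (Q : Set G)) :
    Q ⊓ centralizer (zcore p H : Set G) = ⊥ := by
  refine le_bot_iff.mp fun w hw => mem_bot.mpr ?_
  obtain ⟨k, hk⟩ := IsPGroup.iff_orderOf.mp hQ ⟨w, hw.1⟩
  rw [Subgroup.orderOf_mk] at hk
  have hco : (orderOf w).Coprime (Nat.card (Cfsg.fittingOf H)) :=
    hk ▸ (hq.out.coprime_iff_not_dvd.mpr hqF).pow_left k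
  refine h.eq_one (hQR hw.1) (mem_centralizer_iff.mpr fun m hm => ?_) hco
  have hwH : w ∈ H := h.centralizer_zcore hd hw.2
  have h1 : m * w * m⁻¹ * w⁻¹ ∈ Q ⊓ Cfsg.fittingOf H := by
    refine Subgroup.mem_inf.mpr ⟨mul_mem ((mem_normalizer_iff.mp (hMQ hm) w).mp hw.1) (inv_mem hw.1), ?_⟩
    rw [show m * w * m⁻¹ * w⁻¹ = m * (w * m⁻¹ * w⁻¹) by group]
    haveI := Core.fittingSubgroup_normal' ↥H
    exact mul_mem (h.le hm) ((mem_normalizer_iff.mp (le_normalizer_map_normal (Cfsg.fittingSubgroup ↥H) hwH) _).mp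
      (inv_mem (h.le hm)))
  have h2 : Q ⊓ Cfsg.fittingOf H = ⊥ := by
    obtain ⟨i, hi⟩ := IsPGroup.iff_card.mp hQ
    refine eq_bot_of_card_eq _ (Nat.eq_one_of_dvd_coprimes ?_ (card_dvd_of_le inf_le_left) (card_dvd_of_le inf_le_right))
    rw [hi]
    exact (hq.out.coprime_iff_not_dvd.mpr hqF).pow_left i
  rw [h2, mem_bot, mul_inv_eq_one, mul_inv_eq_iff_eq_mul] at h1
  exact h1

set_option maxHeartbeats 800000 in
/-- The invariant `q`-subgroups of `R` lie in `O_{π'} (R)`. -/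
theorem BenderData.le_core (h : BenderData H M R) {q : ℕ} [hq : Fact q.Prime]
    (hqF : ¬ q ∣ Nat.card (Cfsg.fittingOf H)) {Q : Subgroup G}
    (hQR : Q ≤ R) (hQ : IsPGroup q Q) (hMQ : M ≤ normalizer (Q : Set G)) :
    Q ≤ Cfsg.piCoreOf (Cfsg.primesNotDvd (Nat.card (Cfsg.fittingOf H))) R := by
  set π := Cfsg.primesNotDvd (Nat.card (Cfsg.fittingOf H))
  set O := Cfsg.piCoreOf π R with hOdef
  have hOR : O ≤ R := OddTransitivity.piCoreOf_le R
  have hOπ : Core.IsPiSub π O := OddTransitivity.piCoreOf_isPiSub R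
  set Y : Subgroup G := normalizer (O : Set G)
  have hRY : R ≤ Y := OddTransitivity.le_normalizer_piCoreOf R
  have hMY : M ≤ Y := h.norm.trans (Core.normalizer_le_normalizer_map_char (Cfsg.piCore π R))
  haveI : (O.subgroupOf Y).Normal :=
    (normal_subgroupOf_iff_le_normalizer Subgroup.le_normalizer).mpr le_rfl
  set f := QuotientGroup.mk' (O.subgroupOf Y)
  have hf0 : ∀ g : Y, f g = 1 ↔ (g : G) ∈ O := fun g => (QuotientGroup.eq_one_iff g).trans mem_subgroupOf
  set Rb := (R.subgroupOf Y).map f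
  haveI : Group.IsSolvable Rb := by
    haveI := h.solvable
    haveI : Group.IsSolvable (R.subgroupOf Y) :=
      solvable_of_solvable_injective (f := (subgroupOfEquivOfLe hRY).toMonoidHom) (subgroupOfEquivOfLe hRY).injective
    exact solvable_of_surjective (f.subgroupMap_surjective (R.subgroupOf Y))
  have hmem : ∀ g : Y, f g ∈ Rb → (g : G) ∈ R := by
    rintro g ⟨a, ha, he⟩
    have h1 : ((a⁻¹ * g : Y) : G) ∈ O := (hf0 _).mp (by rw [map_mul, map_inv, he, inv_mul_cancel])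
    simpa using mul_mem (mem_subgroupOf.mp ha) (hOR h1)
  -- images normalize `R̄` and its cores
  have hnorm : ∀ g : Y, (g : G) ∈ normalizer (R : Set G) → f g ∈ normalizer (Rb : Set (Y ⧸ O.subgroupOf Y)) := by
    intro g hg
    refine mem_normalizer_iff.mpr fun z => ⟨?_, ?_⟩
    · rintro ⟨a, ha, rfl⟩
      exact ⟨g * a * g⁻¹, mem_subgroupOf.mpr ((mem_normalizer_iff.mp hg _).mp (mem_subgroupOf.mp ha)), by simp⟩
    · rintro ⟨a, ha, he⟩
      exact ⟨g⁻¹ * a * g, mem_subgroupOf.mpr ((mem_normalizer_iff''.mp hg _).mp (mem_subgroupOf.mp ha)),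
        by simp [he]; group⟩
  have hnV : ∀ (t : ℕ) (g : Y), (g : G) ∈ normalizer (R : Set G) →
      f g ∈ normalizer (core t Rb : Set (Y ⧸ O.subgroupOf Y)) := fun t g hg =>
    Core.normalizer_le_normalizer_map_char (Cfsg.pCore t ↥Rb) (hnorm g hg)
  -- the Fitting primes of `R̄` divide `|F|`
  have hprimes : ∀ t : ℕ, t.Prime → t ∣ Nat.card (Cfsg.fittingOf Rb) → t ∣ Nat.card (Cfsg.fittingOf H) := by
    intro t ht hd
    by_contra htF
    haveI : Fact t.Prime := ⟨ht⟩
    apply core_ne_bot hd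
    set W := ((core t Rb).comap f).map Y.subtype
    have hWR : W ≤ R := by
      rintro _ ⟨g, hg, rfl⟩
      exact hmem g (core_le t Rb hg)
    have hWn : R ≤ normalizer (W : Set G) := Cfsg.Lib.Sig.le_normalizer_of_invariant fun r hr w hw => by
      obtain ⟨g, hg, rfl⟩ := hw
      refine ⟨⟨r, hRY hr⟩ * g * ⟨r, hRY hr⟩⁻¹, ?_, rfl⟩
      show f _ ∈ core t Rb
      rw [map_mul, map_mul, map_inv]
      exact (mem_normalizer_iff.mp (hnV t ⟨r, hRY hr⟩ (Subgroup.le_normalizer hr)) _).mp hg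
    have hWπ : Core.IsPiSub π W := fun s hs hsd => by
      haveI : Fact s.Prime := ⟨hs⟩
      obtain ⟨⟨w, hw⟩, hwo⟩ := exists_prime_orderOf_dvd_card' s hsd
      rw [Subgroup.orderOf_mk] at hwo
      obtain ⟨g, hg, rfl⟩ := hw
      rw [Subgroup.coe_subtype, orderOf_coe] at hwo
      rcases (Nat.dvd_prime hs).mp (hwo ▸ orderOf_map_dvd f g) with h1 | h1
      · have hgO := (hf0 g).mp (orderOf_eq_one_iff.mp h1)
        exact hOπ s hs (by rw [← hwo, ← orderOf_coe]; exact Subgroup.orderOf_dvd_natCard _ hgO)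
      · obtain ⟨i, hi⟩ := IsPGroup.iff_card.mp (core_isPGroup t Rb)
        have h2 := h1 ▸ Subgroup.orderOf_dvd_natCard _ (show f g ∈ core t Rb from hg)
        rw [hi] at h2
        obtain rfl := (Nat.prime_dvd_prime_iff_eq hs ht).mp (hs.dvd_of_dvd_pow h2)
        exact ⟨hs, htF⟩
    have hWO : W ≤ O := OddTransitivity.le_piCoreOf hWR hWn hWπ
    refine le_bot_iff.mp fun z hz => ?_
    obtain ⟨g, rfl⟩ := QuotientGroup.mk'_surjective (O.subgroupOf Y) z
    exact mem_bot.mpr ((hf0 g).mpr (hWO ⟨g, hz, rfl⟩))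
  -- `Q` centralizes every `O_p (R̄)`
  have hQY : Q ≤ Y := hQR.trans hRY
  have hQc : ∀ (p : ℕ) [Fact p.Prime], p ∣ Nat.card (Cfsg.fittingOf Rb) →
      (Q.subgroupOf Y).map f ≤ centralizer (core p Rb : Set (Y ⧸ O.subgroupOf Y)) := by
    intro p hp hd
    have hpF := hprimes p hp.out hd
    obtain ⟨r, hr, hrp, hrF⟩ := h.exists_prime p
    haveI : Fact r.Prime := ⟨hr⟩
    set V := core p Rb
    have hzp : zcore p H ≤ Y := (h.zcore_le p).trans hMY
    have hzr : zcore r H ≤ Y := (h.zcore_le r).trans hMY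
    set A := ((zcore p H).subgroupOf Y).map f
    set B := ((zcore r H).subgroupOf Y).map f
    have hAV : A ≤ normalizer (V : Set (Y ⧸ O.subgroupOf Y)) := by
      rintro _ ⟨a, ha, rfl⟩
      exact hnV p a (h.norm (h.zcore_le p (mem_subgroupOf.mp ha)))
    have hBV : B ≤ normalizer (V : Set (Y ⧸ O.subgroupOf Y)) := by
      rintro _ ⟨a, ha, rfl⟩
      exact hnV p a (h.norm (h.zcore_le r (mem_subgroupOf.mp ha)))
    have hrz : IsPGroup r (zcore r H) := (core_isPGroup r H).to_le inf_le_left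
    have hpz : IsPGroup p (zcore p H) := (core_isPGroup p H).to_le inf_le_left
    have hAp : IsPGroup p A := (hpz.of_equiv (subgroupOfEquivOfLe hzp).symm).map f
    have hBr : IsPGroup r B := (hrz.of_equiv (subgroupOfEquivOfLe hzr).symm).map f
    have hBA : B ≤ centralizer (A : Set (Y ⧸ O.subgroupOf Y)) := by
      rintro _ ⟨b, hb, rfl⟩
      refine mem_centralizer_iff.mpr ?_
      rintro _ ⟨a, ha, rfl⟩
      rw [← map_mul, ← map_mul]
      exact congrArg f (Subtype.ext (mem_centralizer_iff.mp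
        (core_commute H hrp (mem_subgroupOf.mp hb).1) _ (mem_subgroupOf.mp ha).1))
    have hOp : (Nat.card (zcore p H)).Coprime (Nat.card O) := by
      obtain ⟨i, hi⟩ := IsPGroup.iff_card.mp hpz
      rw [hi]
      exact (hp.out.coprime_iff_not_dvd.mpr fun hd' => (hOπ p hp.out hd').2 hpF).pow_left i
    have hfix : V ⊓ centralizer (A : Set (Y ⧸ O.subgroupOf Y)) ≤ centralizer (B : Set (Y ⧸ O.subgroupOf Y)) := by
      intro v hv
      obtain ⟨y, rfl⟩ := QuotientGroup.mk'_surjective (O.subgroupOf Y) v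
      have hyR : (y : G) ∈ R := hmem y (core_le p Rb hv.1)
      have hcomm : ∀ a ∈ zcore p H, (y : G) * a * (y : G)⁻¹ * a⁻¹ ∈ O := fun a ha => by
        have h1 : f (⟨a, hzp ha⟩ : Y) * f y = f y * f (⟨a, hzp ha⟩ : Y) :=
          mem_centralizer_iff.mp hv.2 _ (mem_map_of_mem f (mem_subgroupOf.mpr ha : (⟨a, hzp ha⟩ : Y) ∈ _))
        have h2 : f (y * ⟨a, hzp ha⟩ * y⁻¹ * (⟨a, hzp ha⟩ : Y)⁻¹) = 1 := by
          rw [map_mul, map_mul, map_mul, map_inv, map_inv, ← h1]
          group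
        exact (hf0 _).mp h2
      obtain ⟨n, hn, hny⟩ := exists_lift_centralizer (hzp : zcore p H ≤ normalizer (O : Set G)) hOp
        (haveI := hpz.isNilpotent; inferInstance) hcomm
      have hy0H : n * (y : G) ∈ H := h.centralizer_zcore hpF hny
      set y0 : Y := ⟨n, Subgroup.le_normalizer hn⟩ * y
      have hfy : f y0 = f y := by
        rw [map_mul, show f ⟨n, Subgroup.le_normalizer hn⟩ = 1 from (hf0 _).mpr hn, one_mul]
      refine mem_centralizer_iff.mpr ?_
      rintro _ ⟨z, hz, rfl⟩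
      rw [← hfy]
      set c : Y := y0 * z * y0⁻¹ * z⁻¹
      have hcr : (c : G) ∈ core r H :=
        mul_mem ((mem_normalizer_iff.mp (le_normalizer_core r H hy0H) _).mp (mem_subgroupOf.mp hz).1)
          (inv_mem (mem_subgroupOf.mp hz).1)
      have hcV : f c ∈ V := by
        have hy0V : f y0 ∈ V := hfy ▸ hv.1
        rw [show c = y0 * (z * y0⁻¹ * z⁻¹) by simp only [c]; group, map_mul]
        refine mul_mem hy0V ?_
        rw [map_mul, map_mul, map_inv, map_inv]
        exact (mem_normalizer_iff.mp (hBV (mem_map_of_mem f hz)) _).mp (inv_mem hy0V)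
      have hc1 : f c = 1 := by
        obtain ⟨i, hi⟩ := IsPGroup.iff_card.mp (core_isPGroup r H)
        obtain ⟨j, hj⟩ := IsPGroup.iff_card.mp (core_isPGroup p Rb)
        refine orderOf_eq_one_iff.mp (Nat.eq_one_of_dvd_coprimes (Nat.coprime_pow_primes i j hr hp.out hrp) ?_
          (hj ▸ Subgroup.orderOf_dvd_natCard _ hcV))
        refine (orderOf_map_dvd f c).trans ?_
        rw [← orderOf_coe, ← hi]
        exact Subgroup.orderOf_dvd_natCard _ hcr
      rw [map_mul, map_mul, map_mul, map_inv, map_inv, mul_inv_eq_one, mul_inv_eq_iff_eq_mul] at hc1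
      exact hc1.symm
    have hb := Cfsg.Lib.Coprime.commutator_eq_bot_of_AxB V A B (core_isPGroup p Rb) hAp (by
      obtain ⟨i, hi⟩ := IsPGroup.iff_card.mp hBr
      rw [hi]
      exact ((Nat.coprime_primes hr hp.out).mpr hrp).pow_left i) hAV hBV hBA hfix
    have hBc : B ≤ centralizer (V : Set (Y ⧸ O.subgroupOf Y)) :=
      le_centralizer_iff.mp (commutator_eq_bot_iff_le_centralizer.mp hb)
    -- `Q = [Q, Z_r]`
    have hzQ : zcore r H ≤ normalizer (Q : Set G) := (h.zcore_le r).trans hMQ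
    have hzQc : (Nat.card (zcore r H)).Coprime (Nat.card Q) := by
      obtain ⟨i, hi⟩ := IsPGroup.iff_card.mp hrz
      obtain ⟨j, hj⟩ := IsPGroup.iff_card.mp hQ
      rw [hi, hj]
      exact Nat.coprime_pow_primes i j hr hq.out fun e => hqF (e ▸ hrF)
    haveI : Group.IsNilpotent Q := hQ.isNilpotent
    have hQeq := Cfsg.Lib.Coprime.commutator_sup_centralizer_eq hzQ hzQc (Or.inr inferInstance)
    rw [h.fixedfree hqF hrF hQR hQ hMQ, sup_bot_eq] at hQeq
    set C := (centralizer (V : Set (Y ⧸ O.subgroupOf Y))).comap f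
    have hle : ⁅Q, zcore r H⁆ ≤ C.map Y.subtype := by
      refine commutator_le.mpr fun a ha z hz => ?_
      refine ⟨⁅(⟨a, hQY ha⟩ : Y), ⟨z, hzr hz⟩⁆, ?_, map_commutatorElement Y.subtype _ _⟩
      show f _ ∈ centralizer (V : Set (Y ⧸ O.subgroupOf Y))
      have hzc : f ⟨z, hzr hz⟩ ∈ centralizer (V : Set (Y ⧸ O.subgroupOf Y)) :=
        hBc (mem_map_of_mem f (mem_subgroupOf.mpr hz))
      have haV : f ⟨a, hQY ha⟩ ∈ normalizer (V : Set (Y ⧸ O.subgroupOf Y)) :=
        hnV p _ (Subgroup.le_normalizer (hQR ha))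
      rw [map_commutatorElement, commutatorElement_def]
      exact mul_mem ((mem_normalizer_iff.mp (normalizer_le_normalizer_centralizer _ haV) _).mp hzc) (inv_mem hzc)
    rintro _ ⟨a, ha, rfl⟩
    obtain ⟨a', ha', he⟩ := (hQeq.ge.trans hle) (mem_subgroupOf.mp ha)
    rw [show a = a' from Subtype.ext he.symm]
    exact ha'
  intro a ha
  have ha' : f ⟨a, hQY ha⟩ ∈ Cfsg.fittingOf Rb := by
    have hR' : f ⟨a, hQY ha⟩ ∈ Rb := mem_map_of_mem f (mem_subgroupOf.mpr (hQR ha))
    have hc : f ⟨a, hQY ha⟩ ∈ centralizer (Cfsg.fittingOf Rb : Set (Y ⧸ O.subgroupOf Y)) :=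
      mem_centralizer_fitting fun p _ hd => hQc p hd (mem_map_of_mem f (mem_subgroupOf.mpr ha))
    refine ⟨⟨_, hR'⟩, Core.centralizer_fitting_le_of_isSolvable (mem_centralizer_iff.mpr fun y hy =>
      Subtype.ext ?_), rfl⟩
    exact mem_centralizer_iff.mp hc _ (mem_map_of_mem _ hy)
  refine (hf0 ⟨a, hQY ha⟩).mp (orderOf_eq_one_iff.mp ?_)
  obtain ⟨k, hk⟩ := IsPGroup.iff_orderOf.mp hQ ⟨a, ha⟩
  rw [Subgroup.orderOf_mk] at hk
  refine Nat.eq_one_of_dvd_coprimes ((hq.out.coprime_iff_not_dvd.mpr fun hd => hqF (hprimes q hq.out hd)).pow_left k)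
    ?_ (Subgroup.orderOf_dvd_natCard _ ha')
  refine (orderOf_map_dvd f _).trans (dvd_of_eq ?_)
  rw [Subgroup.orderOf_mk, hk]

/-- S1481. -/
theorem BenderData.unique (h : BenderData H M R) {q : ℕ} [hq : Fact q.Prime]
    (hqF : ¬ q ∣ Nat.card (Cfsg.fittingOf H)) :
    ∃! Q : Subgroup G, Q ∈ Cfsg.maxInvSubgroups R M {q} ∧
      (∀ Q' : Subgroup G, Q' ∈ Cfsg.maxInvSubgroups R M {q} →
        Q' ≤ Cfsg.piCoreOf (Cfsg.primesNotDvd (Nat.card (Cfsg.fittingOf H))) R ∧
        ¬ q ∣ Q'.relIndex (Cfsg.piCoreOf (Cfsg.primesNotDvd (Nat.card (Cfsg.fittingOf H))) R)) := by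
  set O := Cfsg.piCoreOf (Cfsg.primesNotDvd (Nat.card (Cfsg.fittingOf H))) R
  have hOR : O ≤ R := OddTransitivity.piCoreOf_le R
  have hMO : M ≤ normalizer (O : Set G) := h.norm.trans (Core.normalizer_le_normalizer_map_char
    (Cfsg.piCore (Cfsg.primesNotDvd (Nat.card (Cfsg.fittingOf H))) R))
  have hcop : (Nat.card M).Coprime (Nat.card O) := Nat.coprime_of_dvd fun t ht h1 h2 =>
    (OddTransitivity.piCoreOf_isPiSub R t ht h2).2 (h1.trans (card_dvd_of_le h.le))
  have hsol : Group.IsSolvable M ∨ Group.IsSolvable O :=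
    Or.inr (Cfsg.Lib.Coprime.isSolvable_of_le hOR h.solvable)
  obtain ⟨P, hP⟩ := Cfsg.Lib.Coprime.exists_invariant_sylow hMO hcop hsol q
  set S := (P : Subgroup O).map O.subtype
  have hSp : IsPGroup q S := P.isPGroup'.map _
  have hSO : S ≤ O := map_subtype_le _
  have hC : O ⊓ centralizer (M : Set G) = ⊥ := le_bot_iff.mp fun c hc =>
    mem_bot.mpr (h.eq_one (hOR hc.1) hc.2 (Nat.coprime_of_dvd fun t ht h1 h2 =>
      (OddTransitivity.piCoreOf_isPiSub R t ht (h1.trans (Subgroup.orderOf_dvd_natCard _ hc.1))).2 h2))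
  have hle : ∀ U ∈ Cfsg.invSubgroups R M {q}, U ≤ S := by
    intro U hU
    have hUp := OddTransitivity.isPGroup_of_inv hq.out hU
    obtain ⟨P', hUP', hP'⟩ := Cfsg.Lib.Coprime.exists_invariant_sylow_ge hMO hcop hsol
      (h.le_core hqF hU.1 hUp hU.2.2) hUp hU.2.2
    obtain ⟨c, hc, he⟩ := Cfsg.Lib.Coprime.exists_centralizer_conj_sylow hMO hcop hsol P P' hP hP'
    rw [hC, mem_bot] at hc
    rw [he, hc, Cfsg.Lib.Coprime.map_conj_one] at hUP'
    exact hUP'
  have hSinv : S ∈ Cfsg.invSubgroups R M {q} := by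
    refine ⟨hSO.trans hOR, fun t ht hd => ?_, hP⟩
    obtain ⟨i, hi⟩ := IsPGroup.iff_card.mp hSp
    rw [hi] at hd
    exact Set.mem_singleton_iff.mpr ((Nat.prime_dvd_prime_iff_eq ht hq.out).mp (ht.dvd_of_dvd_pow hd))
  have hmax : ∀ Q' ∈ Cfsg.maxInvSubgroups R M {q}, Q' = S := fun Q' hQ' =>
    (hQ'.2 S hSinv (hle Q' hQ'.1)).symm
  refine ⟨S, ⟨⟨hSinv, fun T hT hST => le_antisymm (hle T hT) hST⟩, fun Q' hQ' => ?_⟩, fun Q' hQ' => hmax Q' hQ'.1⟩
  rw [hmax Q' hQ']
  refine ⟨hSO, ?_⟩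
  show ¬ q ∣ (S.subgroupOf O).index
  rw [show S.subgroupOf O = (P : Subgroup O) from comap_map_eq_self_of_injective O.subtype_injective _]
  exact P.not_dvd_index

end Cfsg.Lib.Local.Uniq
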