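import Cfsg.Agent.Lib.Local.Uniq.Basic
import Cfsg.Agent.S0126
import Cfsg.Agent.S1393
import Cfsg.Agent.S1395
import Cfsg.Agent.S1396
import Cfsg.Agent.S1452
import Cfsg.Agent.S1457
import Cfsg.Agent.Lib.Local.RankTwoSolvable

/-!
A noncyclic elementary subgroup with all invariant `p'`-subgroups in one maximal subgroup is a
uniqueness subgroup.
-/

set_option autoImplicit false
set_option linter.style.haveILetI false

namespace Cfsg.Lib.Local.Uniq

open Subgroup

universe u

variable {G : Type u} [Group G] [Finite G] {p : ℕ} [hp : Fact p.Prime]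

omit [Finite G] in
/-- An elementary abelian subgroup from a lower bound on the `p`-rank. -/
theorem exists_elementary {H : Subgroup G} [Finite G] {k : ℕ} (h : ¬ Cfsg.PRankLE p k H) :
    ∃ E : Subgroup G, E ≤ H ∧ Cfsg.IsElementaryAbelian p E ∧ p ^ (k + 1) ≤ Nat.card E := by
  simp only [Cfsg.PRankLE, not_forall, not_le] at h
  obtain ⟨E, hEc, hEp, hcard⟩ := h
  refine ⟨E.map H.subtype, map_subtype_le _, ⟨inferInstance, ?_⟩, ?_⟩
  · rintro _ ⟨e, he, rfl⟩
    rw [← map_pow, hEp e he, map_one]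
  · rw [card_map_of_injective H.subtype_injective]
    have hE : IsPGroup p E := fun a => ⟨1, Subtype.ext (by simpa using hEp a a.2)⟩
    obtain ⟨i, hi⟩ := IsPGroup.iff_card.mp hE
    rw [hi] at hcard ⊢
    exact Nat.pow_le_pow_right hp.out.pos ((Nat.pow_lt_pow_iff_right hp.out.one_lt).mp hcard)

omit [Finite G] in
theorem not_rankLE_of_elementary {H E : Subgroup G} [Finite G] {k : ℕ} (hEH : E ≤ H)
    (hE : Cfsg.IsElementaryAbelian p E) (h : p ^ (k + 1) ≤ Nat.card E) : ¬ Cfsg.PRankLE p k H := fun hr => by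
  haveI := hE.1
  have := hr (E.subgroupOf H) ⟨⟨fun a b => Subtype.ext (Subtype.ext (by
      simpa using congrArg Subtype.val (mul_comm' (⟨a.1.1, a.2⟩ : E) ⟨b.1.1, b.2⟩)))⟩⟩
    (fun a ha => Subtype.ext (by simpa using hE.2 a.1 ha))
  rw [Nat.card_congr (subgroupOfEquivOfLe hEH).toEquiv] at this
  have := h.trans this
  rw [Nat.pow_le_pow_iff_right hp.out.one_lt] at this
  omega

/-- A self-centralizing normal subgroup of rank three in a `p`-group of rank three. -/
theorem exists_scn (hp2 : p ≠ 2) {R : Subgroup G} (hR : IsPGroup p R) (hr : ¬ Cfsg.PRankLE p 2 R) :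
    ∃ A : Subgroup G, Cfsg.IsSCN R A ∧ IsMulCommutative A ∧ ¬ Cfsg.PRankLE p 2 A := by
  have hnc : ¬ IsCyclic R := fun hc => hr fun A _ hA => by
    haveI := hc
    haveI := Fintype.ofFinite R
    classical
    have h := IsCyclic.card_pow_eq_one_le (α := R) hp.out.pos
    have hle : (A : Set R).ncard ≤ p := by
      refine le_trans ?_ h
      rw [← Set.ncard_coe_finset]
      exact Set.ncard_le_ncard fun a ha => by simpa using hA a ha
    rw [← Nat.card_coe_set_eq] at hle
    exact hle.trans (Nat.le_self_pow two_ne_zero p)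
  obtain ⟨E, hEn, hEe, hEc⟩ := Cfsg.Agent.S0126.result hp2 hR hnc
  obtain ⟨A, -, hAn, hAC, hA3⟩ := Cfsg.Agent.S1452.result p hp2 hR hr E hEe hEc
  haveI : IsMulCommutative A := ⟨⟨fun a b => Subtype.ext (mem_centralizer_iff.mp (hAC.ge b.2) a a.2)⟩⟩
  refine ⟨A.map R.subtype, ⟨map_subtype_le _, ?_, ?_⟩, inferInstance, ?_⟩
  · exact (le_of_eq (by rw [normalizer_eq_top, ← MonoidHom.range_eq_map, range_subtype])).trans
      (le_normalizer_map R.subtype)
  · refine le_antisymm ?_ (le_inf (map_subtype_le _) ?_)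
    · rintro x ⟨hx, hxc⟩
      refine ⟨⟨x, hx⟩, hAC.le (mem_centralizer_iff.mpr fun a ha => Subtype.ext ?_), rfl⟩
      exact mem_centralizer_iff.mp hxc _ (mem_map_of_mem _ ha)
    · exact le_centralizer_iff_isMulCommutative.mpr inferInstance
  · obtain ⟨F, hF, hFe, hFc⟩ := exists_elementary (G := R) hA3
    refine not_rankLE_of_elementary (E := F.map R.subtype) (map_mono hF)
      (Cfsg.Lib.PGroup.isElementaryAbelian_map hFe R.subtype) ?_
    rwa [card_map_of_injective R.subtype_injective]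

/-- The greatest invariant `p'`-subgroup from invariant `q`-subgroups. -/
theorem le_of_forall_qgroup {A K : Subgroup G} (hA : IsPGroup p A) {Y : Subgroup G}
    (hY : (Nat.card Y).Coprime p) (hAY : A ≤ normalizer (Y : Set G))
    (h : ∀ q : ℕ, q.Prime → q ≠ p → ∀ Q ∈ Cfsg.invSubgroups ⊤ A {q}, Q ≤ K) : Y ≤ K := by
  obtain ⟨i, hi⟩ := IsPGroup.iff_card.mp hA
  have hcop : (Nat.card A).Coprime (Nat.card Y) := by rw [hi]; exact hY.symm.pow_left i
  haveI := hA.isNilpotent
  have hsol : Group.IsSolvable A ∨ Group.IsSolvable Y := Or.inl inferInstance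
  suffices hd : Nat.card Y ∣ Nat.card (Y ⊓ K : Subgroup G) by
    exact inf_eq_left.mp (eq_of_le_of_card_ge inf_le_left (Nat.le_of_dvd Nat.card_pos hd))
  refine (Nat.dvd_iff_prime_pow_dvd_dvd _ _).mpr fun q k hq hdvd => ?_
  rcases Nat.eq_zero_or_pos k with rfl | hk
  · simp
  haveI : Fact q.Prime := ⟨hq⟩
  have hqp : q ≠ p := fun e => hp.out.coprime_iff_not_dvd.mp hY.symm
    (e ▸ (dvd_pow_self q hk.ne').trans hdvd)
  obtain ⟨S, hS⟩ := Cfsg.Lib.Coprime.exists_invariant_sylow hAY hcop hsol q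
  have hSK : (S : Subgroup Y).map Y.subtype ≤ K := h q hq hqp _ ⟨le_top, fun r hr hd => by
    obtain ⟨j, hj⟩ := IsPGroup.iff_card.mp (S.isPGroup'.map Y.subtype)
    rw [hj] at hd
    exact (Nat.prime_dvd_prime_iff_eq hr hq).mp (hr.dvd_of_dvd_pow hd), hS⟩
  refine dvd_trans ?_ (card_dvd_of_le (le_inf (map_subtype_le _) hSK))
  rw [card_map_of_injective Y.subtype_injective, S.card_eq_multiplicity]
  exact pow_dvd_pow q ((hq.pow_dvd_iff_le_factorization Nat.card_pos.ne').mp hdvd)

omit [Finite G] hp in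
theorem primes_eq {A : Subgroup G} {n : ℕ} (hn : Nat.card A = p ^ n) (h : n ≠ 0) (hp : p.Prime) :
    Cfsg.primesNotDvd (Nat.card A) = Cfsg.primesNotDvd p := Set.ext fun r =>
  ⟨fun hr => ⟨hr.1, fun hd => hr.2 (hd.trans (hn ▸ dvd_pow_self p h))⟩,
    fun hr => ⟨hr.1, fun hd => hr.2 (hr.1.dvd_of_dvd_pow (hn ▸ hd))⟩⟩

/-- `S1398`, second form. -/
theorem unique_of_invariant (hG : Cfsg.IsMinSimpleOddOrder G) {M : Subgroup G} (hM : IsCoatom M)
    {B : Subgroup G} (hBM : B ≤ M) (hBp : IsPGroup p B) (hB1 : B ≠ ⊥)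
    (h : ∀ Y : Subgroup G, (Nat.card Y).Coprime p → B ≤ normalizer (Y : Set G) → Y ≤ M) :
    Cfsg.InUniqueMaximal B := by
  obtain ⟨i, hi⟩ := IsPGroup.iff_card.mp hBp
  have hpG : p ∣ Nat.card G := by
    have hi0 : i ≠ 0 := fun h0 => hB1 (eq_bot_of_card_eq _ (by rw [hi, h0, pow_zero]))
    exact (dvd_pow_self p hi0).trans (hi ▸ card_subgroup_dvd_card B)
  have hp2 := ne_two hG hpG
  refine unique_of_forall hM hBM fun H₀ hH₀ hBH₀ => ?_
  by_contra hne₀
  obtain ⟨H, R, hH, hne, hBR, hRH, hRM, hR, hcase⟩ := exists_extremal hG hp2 hM hBM hBp hB1 hH₀ hne₀ hBH₀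
  have hoppM : ∀ X : Subgroup G, B ≤ X → opp p X ≤ M := fun X hX =>
    h _ (opp_coprime X) (hX.trans (le_normalizer_opp X))
  rcases hcase with hS | hfac
  swap
  · exact hne ((hH.le_iff.mp (hfac.trans (sup_le (hoppM H (hBR.trans hRH)) le_rfl))).resolve_left hM.1).symm
  have hRne : R ≠ ⊥ := ne_bot_of_le_ne_bot hB1 hBR
  have hRtop := ne_top_of_isPGroup hG hR
  haveI hMs : Group.IsSolvable M := hG.2.2.2 M hM.1
  set K := opp p M
  have hKmax : ∀ Y : Subgroup G, (Nat.card Y).Coprime p → R ≤ normalizer (Y : Set G) → Y ≤ K :=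
    fun Y hY hRY => le_opp_of_sylow hMs hRM hR hS (h Y hY (hBR.trans hRY)) hY hRY
  have hRK : R ≤ normalizer (K : Set G) := hRM.trans (le_normalizer_opp M)
  have hK : K ≠ ⊥ → normalizer (K : Set G) = M := fun hK0 =>
    eq_normalizer hG hM hK0 (ne_top_of_le_ne_top hM.1 (opp_le M)) (le_normalizer_opp M)
  have hZ : K = ⊥ → normalizer (PuigZL.zl R : Set G) = M := fun hK0 => by
    refine eq_normalizer hG hM (zl_ne_bot hR hRne) (ne_top_of_le_ne_top hRtop (zl_le R)) ?_
    refine (factor hG hp2 hM.1 hRM hR hS).trans (sup_le ?_ inf_le_right)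
    rw [show opp p M = ⊥ from hK0]
    exact bot_le
  have hconj : ∀ g : G, (∀ r ∈ R, g⁻¹ * r * g ∈ normalizer (K : Set G)) →
      R ≤ normalizer (K.map (MulAut.conj g).toMonoidHom : Set G) := by
    intro g hg r hr
    rw [Core.mem_normalizer_iff_map_conj, OddTransitivity.map_conj_conj,
      show r * g = g * (g⁻¹ * r * g) by group, ← OddTransitivity.map_conj_conj,
      Core.map_conj_eq_of_mem_normalizer (hg r hr)]
  have hNR : normalizer (R : Set G) ≤ M := by
    by_cases hK0 : K = ⊥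
    · exact (normalizer_le_zl R).trans (hZ hK0).le
    rw [← hK hK0]
    intro g hg
    rw [Core.mem_normalizer_iff_map_conj]
    refine eq_of_le_of_card_ge (hKmax _ (by rw [Cfsg.Lib.Coprime.card_map_conj]; exact opp_coprime M) (hconj g fun r hr =>
      hRK ((mem_normalizer_iff''.mp hg r).mp hr))) (by rw [Cfsg.Lib.Coprime.card_map_conj])
  have hRS := sylow_of_normalizer_le hRM hR hS hNR
  refine hne ((hH.le_iff.mp ?_).resolve_left hM.1).symm
  -- every proper overgroup of `R` lies in `M`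
  set X := H
  have hOX : opp p X ≤ K := hKmax _ (opp_coprime X) (hRH.trans (le_normalizer_opp X))
  by_cases hK0 : K = ⊥
  · refine (factor hG hp2 hH.1 hRH hR fun hd => hRS (hd.trans (relIndex_dvd_index_of_le hRH))).trans
      (sup_le (hOX.trans (opp_le M)) (inf_le_right.trans (hZ hK0).le))
  haveI : Group.IsSolvable X := hG.2.2.2 X hH.1
  set S := sylowOf hRH hR (fun hd => hRS (hd.trans (relIndex_dvd_index_of_le hRH))) with hSdef
  have hScoe : (S : Subgroup X) = R.subgroupOf X := rfl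
  set N₂ := Cfsg.pPrimePCore p X with hN₂
  set f := QuotientGroup.mk' (Cfsg.pPrimeCore p X)
  have hN₂eq : N₂ ≤ Cfsg.pPrimeCore p X ⊔ ((S : Subgroup X) ⊓ N₂) := by
    intro x hx
    have h1 : f x ∈ (S : Subgroup X).map f :=
      (Core.pCore_le_sylow (S.mapSurjective (QuotientGroup.mk'_surjective _))) hx
    obtain ⟨s, hs, hsx⟩ := h1
    have hsN : s ∈ N₂ := by
      show f s ∈ Cfsg.pCore p _
      rw [hsx]; exact hx
    rw [show x = x * s⁻¹ * s by group]
    refine mul_mem_sup ?_ (mem_inf.mpr ⟨hs, hsN⟩)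
    rw [← QuotientGroup.eq_one_iff]
    show f (x * s⁻¹) = 1
    rw [map_mul, map_inv, hsx, mul_inv_cancel]
  haveI : N₂.Normal := inferInstanceAs
    (((Cfsg.pCore p (X ⧸ Cfsg.pPrimeCore p X)).comap (QuotientGroup.mk' (Cfsg.pPrimeCore p X))).Normal)
  obtain ⟨U, hU⟩ := exists_sylow_inf S N₂
  have hfr := Sylow.normalizer_sup_eq_top U
  rw [hU, subgroupOf_map_subtype] at hfr
  -- `X` is generated by `O_{p'}` and the normalizer of `R ∩ O_{p',p}`
  have hXgen : (⊤ : Subgroup X) ≤ Cfsg.pPrimeCore p X ⊔ normalizer (((S : Subgroup X) ⊓ N₂ : Subgroup X) : Set X) :=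
    hfr.ge.trans (sup_le le_sup_right (hN₂eq.trans (sup_le_sup_left le_normalizer _)))
  have key : (normalizer (((S : Subgroup X) ⊓ N₂ : Subgroup X) : Set X)).map X.subtype ≤ M := by
    by_cases hr : Cfsg.PRankLE p 2 X
    · have hle : (S : Subgroup X) ≤ N₂ := by
        intro s hs
        obtain ⟨k, hk⟩ := S.isPGroup' ⟨s, hs⟩
        have h2 := (RankTwoAut.structure_mod_core hp2 (odd_subgroup hG X) hr).2.1
        refine (QuotientGroup.eq_one_iff (N := N₂) s).mp ?_
        refine RankTwoAut.pow_eq_one_of_coprime ⟨k, ?_⟩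
          (h2.coprime_dvd_left (by rw [index_eq_card]; exact orderOf_dvd_natCard _))
        rw [← QuotientGroup.mk_pow, show s ^ p ^ k = 1 from congrArg Subtype.val hk]
        rfl
      rw [inf_eq_left.mpr hle, hScoe]
      refine (le_normalizer_map _).trans ?_
      rw [map_subgroupOf_eq_of_le hRH]
      exact hNR
    · have hr' : ¬ Cfsg.PRankLE p 2 R := by
        intro hrR
        refine hr fun E hEc hEe => ?_
        have hE : IsPGroup p E := fun a => ⟨1, Subtype.ext (by simpa using hEe a a.2)⟩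
        obtain ⟨T, hT⟩ := hE.exists_le_sylow
        obtain ⟨g, hg⟩ := MulAction.exists_smul_eq X T S
        have hle : E.map (MulAut.conj g).toMonoidHom ≤ (S : Subgroup X) := by
          rw [← hg, Sylow.coe_subgroup_smul]; exact map_mono hT
        haveI := hEc
        have hle' : ((E.map (MulAut.conj g).toMonoidHom).map X.subtype) ≤ R := by
          refine (map_mono hle).trans (le_of_eq ?_)
          rw [hScoe, map_subgroupOf_eq_of_le hRH]
        by_contra hlt
        refine not_rankLE_of_elementary (k := 2) hle' ⟨inferInstance, ?_⟩ ?_ hrR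
        · rintro _ ⟨_, ⟨e, he, rfl⟩, rfl⟩
          rw [← map_pow, ← map_pow, hEe e he, map_one, map_one]
        · rw [card_map_of_injective X.subtype_injective, Cfsg.Lib.Coprime.card_map_conj]
          obtain ⟨j, hj⟩ := IsPGroup.iff_card.mp hE
          rw [hj] at hlt ⊢
          exact Nat.pow_le_pow_right hp.out.pos
            ((Nat.pow_lt_pow_iff_right hp.out.one_lt).mp (not_le.mp hlt))
      obtain ⟨A, hA, hAc, hA3⟩ := exists_scn hp2 hR hr'
      haveI := hAc
      have hAp : IsPGroup p A := hR.to_le hA.1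
      obtain ⟨n, hn⟩ := IsPGroup.iff_card.mp hAp
      have hn0 : n ≠ 0 := fun h0 => by
        obtain ⟨E, hEA, -, hE3⟩ := exists_elementary hA3
        have := hE3.trans (card_le_of_le hEA)
        rw [hn, h0, Nat.pow_le_pow_iff_right hp.out.one_lt] at this
        omega
      have hπ := primes_eq hn hn0 hp.out
      have hAT : Cfsg.TransitivityHypothesis A := Cfsg.Agent.S1396.result hG p hpG A hAp hAc
        (Or.inr ⟨hR.toSylow hRS, hA, fun h1 => hA3 fun E he1 he2 =>
          (h1 E he1 he2).trans (Nat.pow_le_pow_right hp.out.pos one_le_two)⟩)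
      -- every `A`-invariant `p'`-subgroup lies in `K`
      have hAK : ∀ Y : Subgroup G, (Nat.card Y).Coprime p → A ≤ normalizer (Y : Set G) → Y ≤ K := by
        intro Y hY hAY
        refine le_of_forall_qgroup hAp hY hAY fun q hq hqp Q hQ => ?_
        have hqA : ¬ q ∣ Nat.card A := fun hd => hqp
          ((Nat.prime_dvd_prime_iff_eq hq hp.out).mp (hq.dvd_of_dvd_pow (hn ▸ hd)))
        have htr := Cfsg.Agent.S1393.result hG A hAT (fun h1 => hA3 (fun E he1 he2 => by
          refine not_not.mp fun hlt => ?_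
          have e : A ⊓ centralizer (A : Set G) = A :=
            inf_eq_left.mpr (le_centralizer_iff_isMulCommutative.mpr inferInstance)
          rw [e] at h1
          exact hlt (h1 p hp.out E he1 he2))) q hq hqA
        have hR3 := Cfsg.Agent.S1395.result hG A hAT q hq hqA R hRtop (fun r hr hd => by
            obtain ⟨j, hj⟩ := IsPGroup.iff_card.mp hR
            rw [hj] at hd
            rw [(Nat.prime_dvd_prime_iff_eq hr hp.out).mp (hr.dvd_of_dvd_pow hd), hn]
            exact dvd_pow_self p hn0) hA.1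
          (normal_subgroupOf_iff_le_normalizer hA.1 |>.mpr hA.2.1).isSubnormal htr
        obtain ⟨Q₂, hQ₂, -⟩ := OddTransitivity.exists_max (A := R) (π := {q}) (H := ⊤) (U := ⊥)
          ⟨le_top, fun r hr hd => absurd (by rwa [card_bot] at hd) hr.not_dvd_one,
            fun a _ => mem_normalizer_iff.mpr fun x => by simp⟩
        have hQ₂K : Q₂ ≤ K := hKmax _ (coprime_of_isPiSub fun r hr hd => by
          rw [show r = q from hQ₂.1.2.1 r hr hd]
          exact ⟨hq, fun hd' => hqp ((Nat.prime_dvd_prime_iff_eq hq hp.out).mp hd')⟩) hQ₂.1.2.2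
        obtain ⟨Q₁, hQ₁, hQQ₁⟩ := OddTransitivity.exists_max hQ
        obtain ⟨k, hk, rfl⟩ := htr Q₂ (hR3.2.2.1 hQ₂) Q₁ hQ₁
        have hkK : k ∈ K := by
          refine hKmax _ (coprime_of_isPiSub (hπ ▸ OddTransitivity.piCoreOf_isPiSub _)) ?_ hk
          rw [hπ]
          refine le_trans ?_ (normalizer_le_normalizer_opp (centralizer (A : Set G)))
          refine hA.2.1.trans ?_
          exact normalizer_le_normalizer_centralizer A
        refine hQQ₁.trans ?_
        rintro _ ⟨y, hy, rfl⟩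
        exact mul_mem (mul_mem hkK (hQ₂K hy)) (inv_mem hkK)
      have hAU : A ≤ ((S : Subgroup X) ⊓ N₂).map X.subtype := by
        have h1 := Cfsg.Agent.S1457.result (odd_subgroup hG X) p S (A.subgroupOf X)
          (fun a ha => hA.1 ha) ⟨⟨fun a b => Subtype.ext (Subtype.ext (by
            simpa using congrArg Subtype.val (mul_comm' (⟨a.1.1, a.2⟩ : A) ⟨b.1.1, b.2⟩)))⟩⟩
          (hScoe ▸ subgroupOf_le_normalizer hA.2.1)
        intro a ha
        exact ⟨⟨a, hRH (hA.1 ha)⟩, ⟨hA.1 ha, h1 ha⟩, rfl⟩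
      rintro _ ⟨g, hg, rfl⟩
      rw [← hK hK0, Core.mem_normalizer_iff_map_conj]
      refine eq_of_le_of_card_ge (hAK _ (by rw [Cfsg.Lib.Coprime.card_map_conj]; exact opp_coprime M) ?_)
        (by rw [Cfsg.Lib.Coprime.card_map_conj])
      intro a ha
      obtain ⟨u, hu, rfl⟩ := hAU ha
      rw [Core.mem_normalizer_iff_map_conj, OddTransitivity.map_conj_conj,
        show X.subtype u * X.subtype g = X.subtype g * X.subtype (g⁻¹ * u * g) by
          simp [mul_assoc],
        ← OddTransitivity.map_conj_conj,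
        Core.map_conj_eq_of_mem_normalizer (H := K) (g := X.subtype (g⁻¹ * u * g))
          (hRK ((mem_normalizer_iff''.mp hg u).mp hu).1)]
  calc X = (⊤ : Subgroup X).map X.subtype := by rw [← MonoidHom.range_eq_map, range_subtype]
    _ ≤ _ := map_mono hXgen
    _ ≤ M := by
      rw [Subgroup.map_sup, ← opp_eq_map]
      exact sup_le (hOX.trans (opp_le M)) key

/-- `S1398`, first form. -/
theorem unique_of_centralizers (hG : Cfsg.IsMinSimpleOddOrder G) {M : Subgroup G} (hM : IsCoatom M)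
    {B : Subgroup G} (hBM : B ≤ M) (hB : Cfsg.IsElementaryAbelian p B) (hnc : ¬ IsCyclic B)
    (h : ∀ b ∈ B, b ≠ 1 → centralizer ({b} : Set G) ≤ M) : Cfsg.InUniqueMaximal B := by
  haveI := hB.1
  have hBp := Cfsg.Lib.PGroup.isPGroup_of_isElementaryAbelian hB
  have hB1 : B ≠ ⊥ := fun e => hnc (e ▸ isCyclic_of_subsingleton)
  refine unique_of_invariant hG hM hBM hBp hB1 fun Y hY hBY => ?_
  obtain ⟨i, hi⟩ := IsPGroup.iff_card.mp hBp
  refine (Cfsg.Lib.Coprime.le_iSup_centralizer_of_not_isCyclic hnc hBY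
    (by rw [hi]; exact hY.symm.pow_left i)).trans (iSup_le fun a => inf_le_right.trans (h a a.2.1 a.2.2))

end Cfsg.Lib.Local.Uniq
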