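import Cfsg.Agent.Lib.Local.Uniq.Core
import Cfsg.Agent.Lib.Coprime.PGroupAction

/-!
An elementary subgroup of rank three of `F (M)` gives a uniqueness subgroup.
-/

set_option autoImplicit false
set_option linter.style.haveILetI false

namespace Cfsg.Lib.Local.Uniq

open Subgroup

universe u

variable {G : Type u} [Group G] [Finite G]

/-- No nontrivial invariant `q`-subgroups, once there are none inside `M`. -/
theorem no_invariant (hG : Cfsg.IsMinSimpleOddOrder G) {M : Subgroup G} (hM : IsCoatom M) {A : Subgroup G}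
    (hAF : A ≤ Cfsg.fittingOf M) (hAT : Cfsg.TransitivityHypothesis A)
    (hrk : ¬ Cfsg.RankLE 2 ↥(A ⊓ centralizer (A : Set G)))
    (hπ : ∀ r : ℕ, r.Prime → r ∣ Nat.card (Cfsg.fittingOf M) → r ∣ Nat.card A)
    {q : ℕ} (hq : q.Prime) (hqA : ¬ q ∣ Nat.card A)
    (hK : Cfsg.piCoreOf (Cfsg.primesNotDvd (Nat.card A)) (centralizer (A : Set G)) = ⊥)
    (hT1 : ∀ Y ∈ Cfsg.invSubgroups ⊤ A {q}, Y ≤ M → Y = ⊥) :
    ∀ Y ∈ Cfsg.invSubgroups ⊤ A {q}, Y = ⊥ := by
  haveI : Fact q.Prime := ⟨hq⟩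
  have hF := fitting_isNilpotent M
  have htr := Cfsg.Agent.S1393.result hG A hAT hrk q hq hqA
  have h5 := Cfsg.Agent.S1395.result hG A hAT q hq hqA (Cfsg.fittingOf M)
    (ne_top_of_le_ne_top hM.1 (fitting_le M)) hπ hAF
    (Cfsg.Lib.Solv.isNilpotent_iff_forall_isSubnormal.mp hF _) htr
  obtain ⟨Q, hQ, -⟩ := OddTransitivity.exists_max (A := Cfsg.fittingOf M) (π := {q}) (H := ⊤) (U := ⊥)
    ⟨le_top, fun r hr hd => absurd (by rwa [card_bot] at hd) hr.not_dvd_one,
      fun a _ => mem_normalizer_iff.mpr fun x => by simp⟩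
  have hQA := h5.2.2.1 hQ
  have huniq : ∀ Q' ∈ Cfsg.maxInvSubgroups ⊤ A {q}, Q' = Q := by
    intro Q' hQ'
    obtain ⟨k, hk, rfl⟩ := htr Q hQA Q' hQ'
    rw [hK, mem_bot] at hk
    rw [hk, map_one]
    exact map_id Q
  have hMQ : M ≤ normalizer (Q : Set G) := by
    intro m hm
    rw [Core.mem_normalizer_iff_map_conj]
    refine eq_of_le_of_card_ge ?_ (by rw [Cfsg.Lib.Coprime.card_map_conj])
    have hinv : Q.map (MulAut.conj m).toMonoidHom ∈ Cfsg.invSubgroups ⊤ A {q} := by
      refine ⟨le_top, (show Core.IsPiSub _ Q from hQ.1.2.1).map _, hAF.trans ?_⟩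
      calc Cfsg.fittingOf M = (Cfsg.fittingOf M).map (MulAut.conj m).toMonoidHom :=
            (Core.map_conj_eq_of_mem_normalizer (le_normalizer_map_normal _ hm)).symm
        _ ≤ _ := (map_mono hQ.1.2.2).trans (le_normalizer_map _)
    obtain ⟨Q', hQ', hle⟩ := OddTransitivity.exists_max hinv
    rwa [huniq Q' hQ'] at hle
  have hQp : IsPGroup q Q := OddTransitivity.isPGroup_of_inv hq hQ.1
  have hQ0 : Q = ⊥ := by
    by_contra hne
    refine hne (hT1 Q hQA.1 ?_)
    rw [← eq_normalizer hG hM hne (ne_top_of_isPGroup hG hQp) hMQ]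
    exact le_normalizer
  intro Y hY
  obtain ⟨Q', hQ', hle⟩ := OddTransitivity.exists_max hY
  rw [huniq Q' hQ', hQ0] at hle
  exact le_bot_iff.mp hle

variable {p : ℕ} [hp : Fact p.Prime]

/-- The case of a Fitting subgroup which is not a `p`-group. -/
theorem unique_centralizer_fitting (hG : Cfsg.IsMinSimpleOddOrder G) {M : Subgroup G} (hM : IsCoatom M)
    {A₀ : Subgroup G} (hA₀ : A₀ ≤ Cfsg.fittingOf M) (hA₀e : Cfsg.IsElementaryAbelian p A₀)
    (hA₀3 : p ^ 3 ≤ Nat.card A₀) (hF : ¬ IsPGroup p (Cfsg.fittingOf M)) :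
    Cfsg.InUniqueMaximal (Cfsg.fittingOf M ⊓ centralizer (A₀ : Set G)) := by
  set F := Cfsg.fittingOf M with hFdef
  set A := F ⊓ centralizer (A₀ : Set G) with hAdef
  haveI := hA₀e.1
  have hA₀p := Cfsg.Lib.PGroup.isPGroup_of_isElementaryAbelian hA₀e
  have hA₀ne : A₀ ≠ ⊥ := ne_bot_of_card (by norm_num) hA₀3
  have hA₀A : A₀ ≤ A := le_inf hA₀ (le_centralizer_iff_isMulCommutative.mpr inferInstance)
  have hA₀c : A₀ ≤ core p M := fun a ha => by
    obtain ⟨k, hk⟩ := IsPGroup.iff_orderOf.mp hA₀p ⟨a, ha⟩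
    exact mem_core_of_fitting (hA₀ ha) k (by rwa [Subgroup.orderOf_mk] at hk)
  have hAM : A ≤ M := inf_le_left.trans (fitting_le M)
  have hAq : ∀ (q : ℕ) [Fact q.Prime], q ≠ p → core q M ≤ A := fun q _ hqp =>
    le_inf (core_le_fitting q M) ((core_commute M hqp).trans (centralizer_le hA₀c))
  have hZA : ∀ (q : ℕ) [Fact q.Prime], zcore q M ≤ A := fun q _ => by
    by_cases hqp : q = p
    · subst hqp
      exact le_inf (inf_le_left.trans (core_le_fitting q M)) (inf_le_right.trans (centralizer_le hA₀c))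
    · exact inf_le_left.trans (hAq q hqp)
  have hπA : ∀ r : ℕ, r.Prime → r ∣ Nat.card F → r ∣ Nat.card A := fun r hr hd => by
    haveI : Fact r.Prime := ⟨hr⟩
    have hz := zcore_ne_bot (core_ne_bot (M := M) hd)
    obtain ⟨i, hi⟩ := IsPGroup.iff_card.mp ((core_isPGroup r M).to_le (inf_le_left : zcore r M ≤ core r M))
    have hi0 : i ≠ 0 := fun h0 => hz (eq_bot_of_card_eq _ (by rw [hi, h0, pow_zero]))
    exact (dvd_pow_self r hi0).trans (hi ▸ card_dvd_of_le (hZA r))
  have hAdvd : ∀ r : ℕ, r ∣ Nat.card A → r ∣ Nat.card F := fun r hr => hr.trans (card_dvd_of_le inf_le_left)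
  have hpF : p ∣ Nat.card F := dvd_of_core_ne_bot (ne_bot_of_le_ne_bot hA₀ne hA₀c)
  obtain ⟨r₀, hr₀, hr₀F, hr₀p⟩ : ∃ r₀ : ℕ, r₀.Prime ∧ r₀ ∣ Nat.card F ∧ r₀ ≠ p := by
    by_contra! h
    exact hF (IsPGroup.iff_card.mpr ⟨_, Nat.eq_prime_pow_of_unique_prime_dvd Nat.card_pos.ne'
      fun {d} hd hdF => h d hd hdF⟩)
  haveI : Fact r₀.Prime := ⟨hr₀⟩
  -- invariant `π'`-subgroups inside `M`
  have hT1 : ∀ Y : Subgroup G, Y ≤ M → (∀ r : ℕ, r.Prime → r ∣ Nat.card Y → ¬ r ∣ Nat.card A) →
      A ≤ normalizer (Y : Set G) → Y = ⊥ := by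
    intro Y hYM hYπ hAY
    have hcA : Y ≤ centralizer (A : Set G) := by
      refine fun y hy => mem_centralizer_iff.mpr fun a ha => mem_centralizer_singleton_iff.mp
        (show a ∈ centralizer ({y} : Set G) from ?_)
      refine Cfsg.Lib.PGroup.mem_of_ordCompl_pow_mem fun q hq hd => ?_
      haveI : Fact q.Prime := ⟨hq⟩
      set b := a ^ (orderOf a / q ^ (orderOf a).factorization q)
      have hbA : b ∈ A := pow_mem ha _
      have hbc : b ∈ core q M := mem_core_of_fitting hbA.1 _ (Cfsg.Lib.PGroup.orderOf_ordCompl_pow hq)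
      have hqA : q ∣ Nat.card A := hd.trans (by rw [← Subgroup.orderOf_mk a ha]; exact orderOf_dvd_natCard _)
      have h1 : b * y * b⁻¹ * y⁻¹ ∈ core q M ⊓ Y := by
        refine mem_inf.mpr ⟨?_, mul_mem ((mem_normalizer_iff.mp (hAY hbA) y).mp hy) (inv_mem hy)⟩
        rw [show b * y * b⁻¹ * y⁻¹ = b * (y * b⁻¹ * y⁻¹) by group]
        exact mul_mem hbc ((mem_normalizer_iff.mp (le_normalizer_core q M (hYM hy)) _).mp (inv_mem hbc))
      rw [eq_bot_of_card_eq (core q M ⊓ Y) (Nat.eq_one_of_dvd_coprimes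
        (coprime_core (fun hd' => hYπ q hq hd' hqA)) (card_dvd_of_le inf_le_left) (card_dvd_of_le inf_le_right)),
        mem_bot, mul_inv_eq_one, mul_inv_eq_iff_eq_mul] at h1
      exact mem_centralizer_singleton_iff.mpr h1
    have hYp : (Nat.card Y).Coprime p := Core.coprime_iff_not_dvd'.mpr fun hd =>
      hYπ p hp.out hd (hπA p hp.out hpF)
    have hAB := Cfsg.Lib.Coprime.commutator_eq_bot_of_AxB (core p M) A₀ Y (core_isPGroup p M) hA₀p hYp
      ((hA₀.trans (fitting_le M)).trans (le_normalizer_core p M)) (hYM.trans (le_normalizer_core p M))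
      (hcA.trans (centralizer_le hA₀A)) ((le_inf (inf_le_left.trans (core_le_fitting p M)) inf_le_right).trans
        (le_centralizer_iff.mp hcA))
    have hYF : Y ≤ F := fun y hy => centralizer_fitting_le hG hM.1 ⟨hYM hy, mem_centralizer_fitting
      fun q _ _ => by
        by_cases hqp : q = p
        · subst hqp
          exact le_centralizer_iff.mp (commutator_eq_bot_iff_le_centralizer.mp hAB) hy
        · exact centralizer_le (hAq q hqp) (hcA hy)⟩
    refine eq_bot_of_card_eq _ ?_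
    by_contra hne
    obtain ⟨r, hr, hrd⟩ := Nat.exists_prime_and_dvd hne
    exact hYπ r hr hrd (hπA r hr (hrd.trans (card_dvd_of_le hYF)))
  have hCZ : ∀ (r : ℕ) [Fact r.Prime], r ∣ Nat.card F → centralizer (zcore r M : Set G) ≤ M :=
    fun r _ hr => centralizer_zcore_le hG hM (core_ne_bot hr)
  -- the transitivity hypothesis
  have hT2 : ∀ X : Subgroup G, X ≠ ⊤ → A ≤ X → ∀ Y : Subgroup G, Y ≤ X →
      (∀ r : ℕ, r.Prime → r ∣ Nat.card Y → ¬ r ∣ Nat.card A) → A ≤ normalizer (Y : Set G) →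
      Y ≤ Cfsg.piCoreOf (Cfsg.primesNotDvd (Nat.card A)) X := by
    intro X hX hAX Y hYX hYπ hAY
    haveI : Group.IsSolvable X := hG.2.2.2 X hX
    set π' := Cfsg.primesNotDvd (Nat.card A)
    set N := Cfsg.piCore π' X
    set f := QuotientGroup.mk' N
    haveI : Group.IsSolvable (X ⧸ N) := Group.isSolvable_of_surjective (QuotientGroup.mk'_surjective N)
    set YX := Y.subgroupOf X
    set Yb := YX.map f
    have hYX' : Nat.card YX = Nat.card Y := Nat.card_congr (subgroupOfEquivOfLe hYX).toEquiv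
    have hNcop : ∀ r : ℕ, r.Prime → r ∣ Nat.card A → (Nat.card N).Coprime r := fun r hr hrA =>
      (hr.coprime_iff_not_dvd.mpr fun hd => (Core.piCore_isPiSub π' X r hr hd).2 hrA).symm
    set AS : ℕ → Subgroup X := fun s => (A ⊓ core s M).subgroupOf X
    -- the `s`-part centralizes the other cores of the quotient
    have step1 : ∀ (s r : ℕ) [Fact s.Prime] [Fact r.Prime], s ≠ r →
        (AS s).map f ≤ centralizer (Cfsg.pCore r (X ⧸ N) : Set (X ⧸ N)) := by
      intro s r _ _ hsr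
      set W := Cfsg.pCore r (X ⧸ N)
      have hWn : ∀ U : Subgroup (X ⧸ N), U ≤ normalizer (W : Set (X ⧸ N)) := fun U => by
        rw [normalizer_eq_top_iff.mpr inferInstance]; exact le_top
      by_cases hrA : r ∣ Nat.card A
      swap
      · have hW : W = ⊥ := le_bot_iff.mp ((Core.le_piCore' inferInstance fun t ht htd => by
          obtain ⟨i, hi⟩ := IsPGroup.iff_card.mp (Core.pCore_isPGroup r (X ⧸ N))
          rw [hi] at htd
          rw [(Nat.prime_dvd_prime_iff_eq ht Fact.out).mp (ht.dvd_of_dvd_pow htd)]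
          exact ⟨Fact.out, hrA⟩).trans (Core.piCore_quotient_eq_bot (π := π') (G := X)).le)
        intro x _
        refine mem_centralizer_iff.mpr fun w hw => ?_
        rw [hW] at hw
        simp only [mem_bot.mp hw, one_mul, mul_one]
      have hZX : zcore r M ≤ X := (hZA r).trans hAX
      set P := ((zcore r M).subgroupOf X)
      have hPp : IsPGroup r P :=
        ((core_isPGroup r M).to_le inf_le_left).of_equiv (subgroupOfEquivOfLe hZX).symm
      have hQc : (Nat.card ((AS s).map f)).Coprime r := by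
        refine Nat.Coprime.coprime_dvd_left (Core.card_map_dvd _ _) ?_
        rw [Nat.card_congr (subgroupOfEquivOfLe (inf_le_left.trans hAX)).toEquiv]
        obtain ⟨i, hi⟩ := IsPGroup.iff_card.mp ((core_isPGroup s M).to_le (inf_le_right : A ⊓ core s M ≤ _))
        rw [hi]
        exact ((Nat.coprime_primes Fact.out Fact.out).mpr hsr).pow_left i
      refine le_centralizer_iff.mp (commutator_eq_bot_iff_le_centralizer.mp
        (Cfsg.Lib.Coprime.commutator_eq_bot_of_AxB W (P.map f) ((AS s).map f) (Core.pCore_isPGroup r _)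
          (hPp.map f) hQc (hWn _) (hWn _) ?_ ?_))
      · rintro _ ⟨x, hx, rfl⟩
        refine mem_centralizer_iff.mpr ?_
        rintro _ ⟨z, hz, rfl⟩
        rw [← map_mul, ← map_mul]
        exact congrArg f (Subtype.ext (mem_centralizer_iff.mp
          (centralizer_le inf_le_left (core_commute M hsr hx.2)) (z : G) hz))
      · rintro w ⟨hwW, hwc⟩
        rw [Cfsg.Lib.Sig.centralizer_map_mk' N (hNcop r Fact.out hrA) hPp] at hwc
        obtain ⟨c, hc, rfl⟩ := hwc
        have hcM : (c : G) ∈ M := hCZ r (hAdvd r hrA) (mem_centralizer_iff.mpr fun z hz =>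
          congrArg Subtype.val (mem_centralizer_iff.mp hc ⟨z, hZX hz⟩ hz))
        refine mem_centralizer_iff.mpr ?_
        rintro _ ⟨a, ha, rfl⟩
        set d := c * a * c⁻¹ * a⁻¹
        have hd : (d : G) ∈ core s M := by
          show (c : G) * a * (c : G)⁻¹ * (a : G)⁻¹ ∈ _
          exact mul_mem ((mem_normalizer_iff.mp (le_normalizer_core s M hcM) _).mp ha.2) (inv_mem ha.2)
        have hfd : f d ∈ W := by
          rw [show f d = f c * (f a * (f c)⁻¹ * (f a)⁻¹) by simp [d, mul_assoc]]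
          exact mul_mem hwW ((inferInstance : W.Normal).conj_mem _ (inv_mem hwW) _)
        obtain ⟨i, hi⟩ := IsPGroup.iff_orderOf.mp (core_isPGroup s M) ⟨d, hd⟩
        obtain ⟨j, hj⟩ := IsPGroup.iff_orderOf.mp (Core.pCore_isPGroup r (X ⧸ N)) ⟨f d, hfd⟩
        rw [Subgroup.orderOf_mk, orderOf_coe] at hi
        rw [Subgroup.orderOf_mk] at hj
        have h1 : orderOf (f d) = 1 := Nat.eq_one_of_dvd_coprimes
          (((Nat.coprime_primes Fact.out Fact.out).mpr hsr).pow i j) (hi ▸ orderOf_map_dvd f d) hj.dvd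
        rw [orderOf_eq_one_iff] at h1
        simp only [d, map_mul, map_inv, mul_inv_eq_one, mul_inv_eq_iff_eq_mul, one_mul] at h1
        exact h1.symm
    -- so the image of `Y` centralizes every core
    have step2 : ∀ (r : ℕ) [Fact r.Prime], Yb ≤ centralizer (Cfsg.pCore r (X ⧸ N) : Set (X ⧸ N)) := by
      intro r _
      obtain ⟨s, hs, hsF, hsr⟩ : ∃ s : ℕ, s.Prime ∧ s ∣ Nat.card F ∧ s ≠ r := by
        by_cases h : p = r
        · exact ⟨r₀, hr₀, hr₀F, h ▸ hr₀p⟩
        · exact ⟨p, hp.out, hpF, h⟩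
      haveI : Fact s.Prime := ⟨hs⟩
      set C := centralizer (Cfsg.pCore r (X ⧸ N) : Set (X ⧸ N))
      haveI : C.Normal := inferInstance
      have hA' : AS s ≤ normalizer (YX : Set X) := subgroupOf_le_normalizer (inf_le_left.trans hAY)
      have hcop : (Nat.card (AS s)).Coprime (Nat.card YX) := by
        rw [Nat.card_congr (subgroupOfEquivOfLe (inf_le_left.trans hAX)).toEquiv, hYX']
        exact Nat.coprime_of_dvd fun t ht h1 h2 => hYπ t ht h2 (h1.trans (card_dvd_of_le inf_le_left))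
      have hsol : Group.IsSolvable (AS s) ∨ Group.IsSolvable YX := Or.inr inferInstance
      have hfix : YX.map f ⊓ centralizer (((AS s).map f : Subgroup (X ⧸ N)) : Set (X ⧸ N)) = ⊥ := by
        rw [← Cfsg.Lib.Coprime.map_inf_centralizer_eq f hA' hcop hsol, Subgroup.map_eq_bot_iff]
        have h0 : Y ⊓ centralizer (zcore s M : Set G) = ⊥ := by
          refine hT1 _ (inf_le_right.trans (hCZ s hsF))
            (fun t ht htd => hYπ t ht (htd.trans (card_dvd_of_le inf_le_left))) ?_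
          exact (le_inf hAY ((hAM.trans (le_normalizer_zcore s M)).trans
            (normalizer_le_normalizer_centralizer _))).trans inf_normalizer_le_normalizer_inf
        intro x hx
        have : (x : G) ∈ (⊥ : Subgroup G) := h0 ▸ mem_inf.mpr ⟨hx.1, mem_centralizer_iff.mpr fun z hz =>
          congrArg Subtype.val (mem_centralizer_iff.mp hx.2 ⟨z, hAX (hZA s hz)⟩ ⟨hZA s hz, hz.1⟩)⟩
        rw [show x = 1 from Subtype.ext (mem_bot.mp this)]
        exact one_mem _
      rintro _ ⟨y, hy, rfl⟩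
      have hA'' : (AS s).map f ≤ normalizer (Yb : Set (X ⧸ N)) :=
        (map_mono hA').trans (le_normalizer_map f)
      obtain ⟨n, hn, c, hc, e⟩ := Cfsg.Lib.Coprime.le_commutator_sup_centralizer hA''
        (Nat.Coprime.coprime_dvd_left (Core.card_map_dvd _ _)
          (Nat.Coprime.coprime_dvd_right (Core.card_map_dvd _ _) hcop))
        (Or.inr inferInstance) (mem_map_of_mem f hy)
      rw [hfix, mem_bot] at hc
      rw [e, hc, mul_one]
      refine (commutator_le.mpr fun u _ a ha => ?_) hn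
      rw [commutatorElement_def]
      exact mul_mem ((inferInstance : C.Normal).conj_mem _ (step1 s r hsr ha) u) (inv_mem (step1 s r hsr ha))
    have hY1 : Yb = ⊥ := by
      refine eq_bot_of_card_eq _ ?_
      by_contra hne
      obtain ⟨t, ht, htd⟩ := Nat.exists_prime_and_dvd hne
      haveI : Fact t.Prime := ⟨ht⟩
      have hYbF : Yb ≤ Cfsg.fittingSubgroup (X ⧸ N) := by
        refine fun y hy => Core.centralizer_fitting_le_of_isSolvable ?_
        refine mem_centralizer_iff.mpr fun z hz => mem_centralizer_singleton_iff.mp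
          (show z ∈ centralizer ({y} : Set (X ⧸ N)) from ?_)
        refine Cfsg.Lib.PGroup.mem_of_ordCompl_pow_mem fun r hr _ => ?_
        haveI : Fact r.Prime := ⟨hr⟩
        exact mem_centralizer_singleton_iff.mpr (mem_centralizer_iff.mp (step2 r hy) _
          (NarrowAut.mem_pCore_of_fitting (pow_mem hz _) _ (Cfsg.Lib.PGroup.orderOf_ordCompl_pow hr)))
      have htY : t ∣ Nat.card Y := hYX' ▸ htd.trans (Core.card_map_dvd f YX)
      obtain ⟨⟨x, hx⟩, hxo⟩ := exists_prime_orderOf_dvd_card' t htd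
      rw [Subgroup.orderOf_mk] at hxo
      have hxW : x ∈ Cfsg.pCore t (X ⧸ N) :=
        NarrowAut.mem_pCore_of_fitting (hYbF hx) 1 (by rw [hxo, pow_one])
      have hW : Cfsg.pCore t (X ⧸ N) = ⊥ := le_bot_iff.mp ((Core.le_piCore' inferInstance fun r hr hrd => by
        obtain ⟨i, hi⟩ := IsPGroup.iff_card.mp (Core.pCore_isPGroup t (X ⧸ N))
        rw [hi] at hrd
        rw [(Nat.prime_dvd_prime_iff_eq hr ht).mp (hr.dvd_of_dvd_pow hrd)]
        exact ⟨ht, hYπ t ht htY⟩).trans (Core.piCore_quotient_eq_bot (π := π') (G := X)).le)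
      rw [hW, mem_bot] at hxW
      rw [hxW, orderOf_one] at hxo
      exact ht.ne_one hxo.symm
    rw [Subgroup.map_eq_bot_iff, QuotientGroup.ker_mk'] at hY1
    rw [← map_subgroupOf_eq_of_le hYX]
    exact map_mono hY1
  have hA1 : A ≠ ⊥ := ne_bot_of_le_ne_bot hA₀ne hA₀A
  have hAT : Cfsg.TransitivityHypothesis A :=
    ⟨hA1, ne_top_of_le_ne_top hM.1 hAM, fun X hX hAX => le_antisymm
      (sSup_le fun Y hY => hT2 X hX hAX Y hY.1 (fun r hr hd => (hY.2.1 r hr hd).2) hY.2.2)
      (le_sSup ⟨OddTransitivity.piCoreOf_le X, OddTransitivity.piCoreOf_isPiSub X,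
        hAX.trans (OddTransitivity.le_normalizer_piCoreOf X)⟩)⟩
  have hCA : centralizer (A : Set G) ≤ M := (centralizer_le (hZA r₀)).trans (hCZ r₀ hr₀F)
  have hK : Cfsg.piCoreOf (Cfsg.primesNotDvd (Nat.card A)) (centralizer (A : Set G)) = ⊥ :=
    hT1 _ ((OddTransitivity.piCoreOf_le _).trans hCA)
      (fun r hr hd => (OddTransitivity.piCoreOf_isPiSub _ r hr hd).2)
      ((le_centralizer_iff.mp (OddTransitivity.piCoreOf_le _)).trans (centralizer_le_normalizer _))
  have hrk : ¬ Cfsg.RankLE 2 ↥(A ⊓ centralizer (A : Set G)) := fun h =>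
    not_rankLE_of_elementary (le_inf hA₀A (le_centralizer_iff.mp inf_le_right)) hA₀e hA₀3 (h p hp.out)
  have hnone : ∀ (q : ℕ), q.Prime → ¬ q ∣ Nat.card F → ∀ Y ∈ Cfsg.invSubgroups ⊤ A {q}, Y = ⊥ :=
    fun q hq hqF => no_invariant hG hM inf_le_left hAT hrk hπA hq (fun h => hqF (hAdvd q h)) hK
      fun Y hY hYM => hT1 Y hYM (fun r hr hd => by
        rw [show r = q from hY.2.1 r hr hd]; exact fun h => hqF (hAdvd q h)) hY.2.2
  -- any maximal overgroup of `A` is `M`
  refine unique_of_forall hM hAM fun H hH hAH => ?_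
  haveI : Group.IsSolvable H := hG.2.2.2 H hH.1
  have hHF : ∀ (r : ℕ) [Fact r.Prime], core r H ≠ ⊥ → r ∣ Nat.card F := fun r _ h => by
    by_contra hr
    refine h (hnone r Fact.out hr _ ⟨le_top, fun t ht htd => ?_, hAH.trans (le_normalizer_core r H)⟩)
    obtain ⟨i, hi⟩ := IsPGroup.iff_card.mp (core_isPGroup r H)
    rw [hi] at htd
    exact (Nat.prime_dvd_prime_iff_eq ht Fact.out).mp (ht.dvd_of_dvd_pow htd)
  have cross : ∀ (q r : ℕ) [Fact q.Prime] [Fact r.Prime], q ≠ r →
      A ⊓ core q M ≤ centralizer (core r H : Set G) := by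
    intro q r _ _ hqr
    by_cases hr : core r H = ⊥
    · intro x _
      refine mem_centralizer_iff.mpr fun w hw => ?_
      rw [hr] at hw
      simp only [mem_bot.mp hw, one_mul, mul_one]
    have hQc : (Nat.card (A ⊓ core q M : Subgroup G)).Coprime r := by
      obtain ⟨i, hi⟩ := IsPGroup.iff_card.mp ((core_isPGroup q M).to_le (inf_le_right : A ⊓ core q M ≤ _))
      rw [hi]
      exact ((Nat.coprime_primes Fact.out Fact.out).mpr hqr).pow_left i
    refine le_centralizer_iff.mp (commutator_eq_bot_iff_le_centralizer.mp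
      (Cfsg.Lib.Coprime.commutator_eq_bot_of_AxB (core r H) (zcore r M) (A ⊓ core q M) (core_isPGroup r H)
        ((core_isPGroup r M).to_le inf_le_left) hQc (((hZA r).trans hAH).trans (le_normalizer_core r H))
        ((inf_le_left.trans hAH).trans (le_normalizer_core r H))
        (inf_le_right.trans ((core_commute M hqr).trans (centralizer_le inf_le_left))) ?_))
    rintro c ⟨hc, hcz⟩
    have hcM : c ∈ M := hCZ r (hHF r hr) hcz
    refine mem_centralizer_iff.mpr fun a ha => ?_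
    have h1 : c * a * c⁻¹ * a⁻¹ ∈ core r H ⊓ core q M := by
      refine mem_inf.mpr ⟨?_, mul_mem ((mem_normalizer_iff.mp (le_normalizer_core q M hcM) a).mp ha.2) (inv_mem ha.2)⟩
      rw [show c * a * c⁻¹ * a⁻¹ = c * (a * c⁻¹ * a⁻¹) by group]
      exact mul_mem hc ((mem_normalizer_iff.mp (le_normalizer_core r H (hAH ha.1)) _).mp (inv_mem hc))
    rw [Cfsg.Lib.Sig.disjoint_of_isPGroup_coprime (core_isPGroup r H)
      (by
        obtain ⟨i, hi⟩ := IsPGroup.iff_card.mp (core_isPGroup q M)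
        rw [hi]
        exact ((Nat.coprime_primes Fact.out Fact.out).mpr hqr).pow_left i), mem_bot, mul_inv_eq_one,
      mul_inv_eq_iff_eq_mul] at h1
    exact h1.symm
  have hHM : ∀ (r : ℕ) [Fact r.Prime], core r H ≤ M := by
    intro r _
    obtain ⟨q, hq, hqF, hqr⟩ : ∃ q : ℕ, q.Prime ∧ q ∣ Nat.card F ∧ q ≠ r := by
      by_cases h : p = r
      · exact ⟨r₀, hr₀, hr₀F, h ▸ hr₀p⟩
      · exact ⟨p, hp.out, hpF, h⟩
    haveI : Fact q.Prime := ⟨hq⟩
    exact (le_centralizer_iff.mp (cross q r hqr)).trans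
      ((centralizer_le (le_inf (hZA q) inf_le_left)).trans (hCZ q hqF))
  have hπ : ∀ (r : ℕ) [Fact r.Prime], core r M ≠ ⊥ ↔ core r H ≠ ⊥ := by
    intro r _
    refine ⟨fun hr hrH => ?_, fun h => core_ne_bot (hHF r h)⟩
    obtain ⟨z, hz, hz1⟩ := (zcore r M).bot_or_exists_ne_one.resolve_left (zcore_ne_bot hr)
    obtain ⟨k, hk⟩ := IsPGroup.iff_orderOf.mp (core_isPGroup r M) ⟨z, hz.1⟩
    rw [Subgroup.orderOf_mk] at hk
    have hzF : z ∈ Cfsg.fittingOf H := centralizer_fitting_le hG hH.1 ⟨hAH (hZA r hz),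
      mem_centralizer_fitting fun s _ hs => cross r s (fun e => core_ne_bot hs (e ▸ hrH)) ⟨hZA r hz, hz.1⟩⟩
    have := mem_core_of_fitting hzF k hk
    rw [hrH, mem_bot] at this
    exact hz1 this
  have hMH : ∀ (q : ℕ) [Fact q.Prime], core q M ≤ H := by
    intro q _
    by_cases hqp : q = p
    swap
    · exact (hAq q hqp).trans hAH
    subst hqp
    have hr₀H : core r₀ H ≠ ⊥ := (hπ r₀).mp (core_ne_bot hr₀F)
    have hQ : core r₀ H ≤ centralizer (((A ⊓ core q M : Subgroup G)) : Set G) :=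
      le_centralizer_iff.mp (cross q r₀ hr₀p.symm)
    have h := Cfsg.Lib.Coprime.commutator_eq_bot_of_AxB (core q M) A₀ (core r₀ H) (core_isPGroup q M) hA₀p
      (by
        obtain ⟨i, hi⟩ := IsPGroup.iff_card.mp (core_isPGroup r₀ H)
        rw [hi]
        exact ((Nat.coprime_primes hr₀ hp.out).mpr hr₀p).pow_left i)
      ((hA₀.trans (fitting_le M)).trans (le_normalizer_core q M)) ((hHM r₀).trans (le_normalizer_core q M))
      (hQ.trans (centralizer_le (le_inf hA₀A hA₀c)))
      (le_trans (le_inf (le_inf (inf_le_left.trans (core_le_fitting q M)) inf_le_right) inf_le_left)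
        (le_centralizer_iff.mp hQ))
    exact (commutator_eq_bot_iff_le_centralizer.mp h).trans (centralizer_core_le hG hH hr₀H)
  exact bender hG hM hH hπ hMH hHM (q := p) (r := r₀) hr₀p (core_ne_bot hpF) (core_ne_bot hr₀F)

end Cfsg.Lib.Local.Uniq
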