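import Cfsg.Agent.Lib.Local.Uniq.Fitting
import Cfsg.Agent.Lib.Local.OddStability

/-!
The case where `F (M)` is a `p`-group, and uniqueness from the rank of `F (M)`.
-/

set_option autoImplicit false
set_option linter.style.haveILetI false

namespace Cfsg.Lib.Local.Uniq

open Subgroup

universe u

variable {G : Type u} [Group G] [Finite G] {p : ℕ} [hp : Fact p.Prime]

theorem opp_eq_bot (hG : Cfsg.IsMinSimpleOddOrder G) {M : Subgroup G} (hM : M ≠ ⊤)
    (hF : IsPGroup p (Cfsg.fittingOf M)) : opp p M = ⊥ := by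
  have hd : Cfsg.fittingOf M ⊓ opp p M = ⊥ := Cfsg.Lib.Sig.disjoint_of_isPGroup_coprime hF (opp_coprime M)
  have hc : opp p M ≤ centralizer (Cfsg.fittingOf M : Set G) :=
    le_centralizer_of_normalizes ((opp_le M).trans (le_normalizer_map_normal _))
      ((fitting_le M).trans (le_normalizer_opp M)) ((inf_comm (opp p M) (Cfsg.fittingOf M)).trans hd)
  exact le_bot_iff.mp ((le_inf ((le_inf (opp_le M) hc).trans (centralizer_fitting_le hG hM)) le_rfl).trans hd.le)

/-- When `F (M)` is a `p`-group, a Sylow subgroup of `M` is one of `G`, and its rank three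
self-centralizing normal subgroups are uniqueness subgroups inside `F (M)`. -/
theorem fitting_pGroup_case (hG : Cfsg.IsMinSimpleOddOrder G) {M : Subgroup G} (hM : IsCoatom M)
    (hF : IsPGroup p (Cfsg.fittingOf M)) (hFne : Cfsg.fittingOf M ≠ ⊥) {P : Subgroup G} (hPM : P ≤ M)
    (hP : IsPGroup p P) (hPS : ¬ p ∣ P.relIndex M) :
    ¬ p ∣ P.index ∧ ∀ A : Subgroup G, Cfsg.IsSCN P A → ¬ Cfsg.PRankLE p 2 A →
      A ≤ Cfsg.fittingOf M ∧ Cfsg.InUniqueMaximal A := by
  haveI hMs : Group.IsSolvable M := hG.2.2.2 M hM.1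
  have hpG : p ∣ Nat.card G := by
    obtain ⟨i, hi⟩ := IsPGroup.iff_card.mp hF
    have hi0 : i ≠ 0 := fun h => hFne (eq_bot_of_card_eq _ (by rw [hi, h, pow_zero]))
    exact (dvd_pow_self p hi0).trans (hi ▸ card_subgroup_dvd_card _)
  have hp2 := ne_two hG hpG
  have hO : opp p M = ⊥ := opp_eq_bot hG hM.1 hF
  have hFP : Cfsg.fittingOf M ≤ P := by
    intro x hx
    obtain ⟨k, hk⟩ := IsPGroup.iff_orderOf.mp hF ⟨x, hx⟩
    rw [Subgroup.orderOf_mk] at hk
    obtain ⟨w, hw, rfl⟩ := mem_core_of_fitting hx k hk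
    exact (Core.pCore_le_sylow (sylowOf hPM hP hPS) hw : w ∈ P.subgroupOf M)
  have hPne : P ≠ ⊥ := ne_bot_of_le_ne_bot hFne hFP
  have hPtop := ne_top_of_isPGroup hG hP
  have hMZ : normalizer (PuigZL.zl P : Set G) = M := by
    refine eq_normalizer hG hM (zl_ne_bot hP hPne) (ne_top_of_le_ne_top hPtop (zl_le P)) ?_
    refine (factor hG hp2 hM.1 hPM hP hPS).trans (sup_le ?_ inf_le_right)
    rw [hO]; exact bot_le
  have hPG : ¬ p ∣ P.index := sylow_of_normalizer_le hPM hP hPS ((normalizer_le_zl P).trans hMZ.le)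
  refine ⟨hPG, fun A hA hA3 => ?_⟩
  have hAc : IsMulCommutative A :=
    le_centralizer_iff_isMulCommutative.mp (hA.2.2.ge.trans inf_le_right)
  haveI := hAc
  have hAp : IsPGroup p A := hP.to_le hA.1
  have hAM : A ≤ M := hA.1.trans hPM
  have hAF : A ≤ Cfsg.fittingOf M := by
    have hOM : Cfsg.pPrimeCore p M = ⊥ := by
      have := opp_eq_map (p := p) M
      rw [hO, eq_comm, map_eq_bot_iff_of_injective _ M.subtype_injective] at this
      exact this
    haveI : IsMulCommutative (A.subgroupOf M) := ⟨⟨fun a b => Subtype.ext (Subtype.ext (by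
      simpa using congrArg Subtype.val (mul_comm' (⟨a.1.1, a.2⟩ : A) ⟨b.1.1, b.2⟩)))⟩⟩
    have h1 := OddStability.le_pCore_of_abelian (odd_subgroup hG M) hp2 hOM (Cfsg.pCore p M)
      (Core.pCore_isPGroup p M) inf_le_left (B := A.subgroupOf M) inferInstance
      (hAp.of_equiv (subgroupOfEquivOfLe hAM).symm)
      ((Core.pCore_le_sylow (sylowOf hPM hP hPS)).trans (subgroupOf_le_normalizer hA.2.1))
    rw [← map_subgroupOf_eq_of_le hAM]
    exact (map_mono h1).trans (core_le_fitting p M)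
  refine ⟨hAF, ?_⟩
  obtain ⟨n, hn⟩ := IsPGroup.iff_card.mp hAp
  obtain ⟨E, hEA, hE, hE3⟩ := exists_elementary hA3
  have hn0 : n ≠ 0 := fun h0 => by
    have := hE3.trans (card_le_of_le hEA)
    rw [hn, h0, Nat.pow_le_pow_iff_right hp.out.one_lt] at this
    omega
  have hπ := primes_eq hn hn0 hp.out
  have hA1 : A ≠ ⊥ := ne_bot_of_le_ne_bot (ne_bot_of_card (k := 3) (by norm_num) hE3) hEA
  have hAT : Cfsg.TransitivityHypothesis A := Cfsg.Agent.S1396.result hG p hpG A hAp hAc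
    (Or.inr ⟨hP.toSylow hPG, hA, fun h1 => hA3 fun B he1 he2 =>
      (h1 B he1 he2).trans (Nat.pow_le_pow_right hp.out.pos one_le_two)⟩)
  have hrk : ¬ Cfsg.RankLE 2 ↥(A ⊓ centralizer (A : Set G)) := fun h => by
    refine not_rankLE_of_elementary (le_inf hEA ?_) hE hE3 (h p hp.out)
    exact hEA.trans (le_centralizer_iff_isMulCommutative.mpr inferInstance)
  have hpF : ∀ r : ℕ, r.Prime → r ∣ Nat.card (Cfsg.fittingOf M) → r ∣ Nat.card A := fun r hr hd => by
    obtain ⟨i, hi⟩ := IsPGroup.iff_card.mp hF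
    rw [hi] at hd
    rw [(Nat.prime_dvd_prime_iff_eq hr hp.out).mp (hr.dvd_of_dvd_pow hd), hn]
    exact dvd_pow_self p hn0
  haveI : Fact p.Prime := hp
  have hcoreF : core p M ≠ ⊥ := core_ne_bot (by
    obtain ⟨i, hi⟩ := IsPGroup.iff_card.mp hF
    rw [hi]
    exact dvd_pow_self p (fun h => hFne (eq_bot_of_card_eq _ (by rw [hi, h, pow_zero]))))
  have hZA : zcore p M ≤ A := fun z hz => hA.2.2 ▸ mem_inf.mpr ⟨hFP (core_le_fitting p M hz.1),
    mem_centralizer_iff.mpr fun a ha => by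
      obtain ⟨k, hk⟩ := IsPGroup.iff_orderOf.mp hAp ⟨a, ha⟩
      rw [Subgroup.orderOf_mk] at hk
      exact mem_centralizer_iff.mp hz.2 a (mem_core_of_fitting (hAF ha) k hk)⟩
  have hCA : centralizer (A : Set G) ≤ M := (centralizer_le hZA).trans (centralizer_zcore_le hG hM hcoreF)
  have hin : ∀ Y : Subgroup G, Y ≤ M → (Nat.card Y).Coprime p → A ≤ normalizer (Y : Set G) → Y = ⊥ := by
    intro Y hYM hY hAY
    have h1 := hAT.2.2 M hM.1 hAM
    rw [hπ] at h1
    have hY' : Y ∈ Cfsg.invSubgroups M A (Cfsg.primesNotDvd p) :=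
      ⟨hYM, isPiSub_of_coprime hp.out hY, hAY⟩
    have hle : Y ≤ opp p M := (le_sSup hY').trans h1.le
    exact le_bot_iff.mp (hle.trans hO.le)
  have hK : Cfsg.piCoreOf (Cfsg.primesNotDvd (Nat.card A)) (centralizer (A : Set G)) = ⊥ := by
    rw [hπ]
    exact hin _ ((opp_le _).trans hCA) (opp_coprime _)
      ((le_centralizer_iff.mp (opp_le _)).trans (centralizer_le_normalizer _))
  have hnone : ∀ Y : Subgroup G, (Nat.card Y).Coprime p → A ≤ normalizer (Y : Set G) → Y = ⊥ := by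
    intro Y hY hAY
    refine le_bot_iff.mp (le_of_forall_qgroup hAp hY hAY fun q hq hqp Q hQ => le_bot_iff.mpr ?_)
    have hqA : ¬ q ∣ Nat.card A := fun h => hqp
      ((Nat.prime_dvd_prime_iff_eq hq hp.out).mp (hq.dvd_of_dvd_pow (hn ▸ h)))
    refine no_invariant hG hM hAF hAT hrk hpF hq hqA hK (fun Y hY hYM => hin Y hYM ?_ hY.2.2) Q hQ
    refine coprime_of_isPiSub fun r hr hd => ?_
    rw [show r = q from hY.2.1 r hr hd]
    exact ⟨hq, fun h => hqp ((Nat.prime_dvd_prime_iff_eq hq hp.out).mp h)⟩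
  refine unique_of_forall hM hAM fun H₀ hH₀ hAH₀ => ?_
  by_contra hne₀
  obtain ⟨H, R, hH, hne, hAR, hRH, hRM, hR, hcase⟩ :=
    exists_extremal hG hp2 hM hAM hAp hA1 hH₀ hne₀ hAH₀
  refine hne ((hH.le_iff.mp ?_).resolve_left hM.1).symm
  have hOH : opp p H = ⊥ := hnone _ (opp_coprime H) ((hAR.trans hRH).trans (le_normalizer_opp H))
  rcases hcase with hS | hfac
  swap
  · rwa [hOH, bot_sup_eq] at hfac
  have hRne : R ≠ ⊥ := ne_bot_of_le_ne_bot hA1 hAR
  have hMR : normalizer (PuigZL.zl R : Set G) = M := by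
    refine eq_normalizer hG hM (zl_ne_bot hR hRne)
      (ne_top_of_le_ne_top (ne_top_of_isPGroup hG hR) (zl_le R)) ?_
    refine (factor hG hp2 hM.1 hRM hR hS).trans (sup_le ?_ inf_le_right)
    rw [hO]; exact bot_le
  have hRS := sylow_of_normalizer_le hRM hR hS ((normalizer_le_zl R).trans hMR.le)
  refine (factor hG hp2 hH.1 hRH hR (fun hd => hRS (hd.trans (relIndex_dvd_index_of_le hRH)))).trans ?_
  rw [hOH, bot_sup_eq]
  exact inf_le_right.trans hMR.le

/-- `S1401`. -/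
theorem unique_of_fitting_rank (hG : Cfsg.IsMinSimpleOddOrder G) {M : Subgroup G} (hM : IsCoatom M)
    (hF : ¬ Cfsg.PRankLE p 2 (Cfsg.fittingOf M)) {B : Subgroup G} (hB : Cfsg.IsElementaryAbelian p B)
    (hB3 : p ^ 3 ≤ Nat.card B) : Cfsg.InUniqueMaximal B := by
  obtain ⟨E₀, hE₀F, hE₀, hE₀3⟩ := exists_elementary hF
  suffices h : ∃ E : Subgroup G, Cfsg.IsElementaryAbelian p E ∧ p ^ 3 ≤ Nat.card E ∧ Cfsg.InUniqueMaximal E by
    obtain ⟨E, hE, hE3, hU⟩ := h
    exact connect_all hG hE hE3 hU hB hB3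
  by_cases hFp : IsPGroup p (Cfsg.fittingOf M)
  swap
  · exact ⟨E₀, hE₀, hE₀3, unique_of_centralizes hG (unique_centralizer_fitting hG hM hE₀F hE₀ hE₀3 hFp) hE₀
      ((Nat.pow_le_pow_right hp.out.pos (by norm_num)).trans hE₀3) (le_centralizer_iff.mp inf_le_right)⟩
  have hFne : Cfsg.fittingOf M ≠ ⊥ := ne_bot_of_le_ne_bot (ne_bot_of_card (by norm_num) hE₀3) hE₀F
  obtain ⟨T, hT⟩ := (hFp.of_equiv (subgroupOfEquivOfLe (fitting_le M)).symm :
    IsPGroup p ((Cfsg.fittingOf M).subgroupOf M)).exists_le_sylow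
  set P := (T : Subgroup M).map M.subtype
  have hPM : P ≤ M := map_subtype_le _
  have hP : IsPGroup p P := T.isPGroup'.map _
  have hPS : ¬ p ∣ P.relIndex M := by
    show ¬ p ∣ (P.subgroupOf M).index
    rw [show P.subgroupOf M = (T : Subgroup M) from comap_map_eq_self_of_injective M.subtype_injective _]
    exact T.not_dvd_index
  have hFP : Cfsg.fittingOf M ≤ P := by
    rw [← map_subgroupOf_eq_of_le (fitting_le M)]
    exact map_mono hT
  have hp2 : p ≠ 2 := by
    refine ne_two hG (dvd_trans ?_ (card_subgroup_dvd_card E₀))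
    obtain ⟨i, hi⟩ := IsPGroup.iff_card.mp (Cfsg.Lib.PGroup.isPGroup_of_isElementaryAbelian hE₀)
    rw [hi] at hE₀3 ⊢
    exact dvd_pow_self p (by have := (Nat.pow_le_pow_iff_right hp.out.one_lt).mp hE₀3; omega)
  obtain ⟨A, hA, hAc, hA3⟩ := exists_scn hp2 hP (not_rankLE_of_elementary (hE₀F.trans hFP) hE₀ hE₀3)
  haveI := hAc
  obtain ⟨-, hU⟩ := (fitting_pGroup_case hG hM hFp hFne hPM hP hPS).2 A hA hA3
  obtain ⟨E, hEA, hE, hE3⟩ := exists_elementary hA3
  exact ⟨E, hE, hE3, unique_of_centralizes hG hU hE ((Nat.pow_le_pow_right hp.out.pos (by norm_num)).trans hE3)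
    (hEA.trans (le_centralizer_iff_isMulCommutative.mpr inferInstance))⟩

end Cfsg.Lib.Local.Uniq
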