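import Cfsg.Agent.Lib.Local.Uniq.Tools

/-!
Maximal subgroups `M` whose core `O_q (M)` has rank three and no maximal elementary subgroup of
order `q ^ 2`.
-/

set_option autoImplicit false
set_option linter.style.haveILetI false

namespace Cfsg.Lib.Local.Uniq

open Subgroup
open scoped commutatorElement

universe u

variable {G : Type u} [Group G] [Finite G] {q : ℕ} [hq : Fact q.Prime]

/-- `O_q (M)` is big: every elementary subgroup lies in one of order at least `q ^ 3`. -/
structure Good (q : ℕ) (M : Subgroup G) : Prop where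
  coatom : IsCoatom M
  extend_elementary : ∀ W : Subgroup G, W ≤ core q M → Cfsg.IsElementaryAbelian q W →
    ∃ E : Subgroup G, W ≤ E ∧ E ≤ core q M ∧ Cfsg.IsElementaryAbelian q E ∧ q ^ 3 ≤ Nat.card E

omit [Finite G] hq in
theorem elementary_bot : Cfsg.IsElementaryAbelian q (⊥ : Subgroup G) :=
  ⟨inferInstance, fun a ha => by rw [mem_bot.mp ha, one_pow]⟩

theorem Good.fitting_rank {M : Subgroup G} (h : Good q M) : ¬ Cfsg.PRankLE q 2 (Cfsg.fittingOf M) := by
  obtain ⟨E, -, hE, hEe, hE3⟩ := h.extend_elementary ⊥ bot_le elementary_bot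
  exact not_rankLE_of_elementary (hE.trans (core_le_fitting q M)) hEe hE3

theorem Good.ne_two (hG : Cfsg.IsMinSimpleOddOrder G) {M : Subgroup G} (h : Good q M) : q ≠ 2 := by
  obtain ⟨E, -, -, hEe, hE3⟩ := h.extend_elementary ⊥ bot_le elementary_bot
  obtain ⟨i, hi⟩ := IsPGroup.iff_card.mp (Cfsg.Lib.PGroup.isPGroup_of_isElementaryAbelian hEe)
  refine Uniq.ne_two hG ((dvd_pow_self q ?_).trans (hi ▸ card_subgroup_dvd_card E))
  intro h0
  rw [hi, h0, Nat.pow_le_pow_iff_right hq.out.one_lt] at hE3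
  omega

theorem Good.unique_three (hG : Cfsg.IsMinSimpleOddOrder G) {M : Subgroup G} (h : Good q M)
    {E : Subgroup G} (hE : Cfsg.IsElementaryAbelian q E) (hE3 : q ^ 3 ≤ Nat.card E) :
    Cfsg.InUniqueMaximal E :=
  unique_of_fitting_rank hG h.coatom h.fitting_rank hE hE3

theorem Good.unique_two (hG : Cfsg.IsMinSimpleOddOrder G) {M : Subgroup G} (h : Good q M)
    {W : Subgroup G} (hWR : W ≤ core q M) (hW : Cfsg.IsElementaryAbelian q W)
    (hW2 : q ^ 2 ≤ Nat.card W) : Cfsg.InUniqueMaximal W := by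
  obtain ⟨E, hWE, -, hE, hE3⟩ := h.extend_elementary W hWR hW
  haveI := hE.1
  exact unique_of_centralizes hG (h.unique_three hG hE hE3) hW hW2
    (hWE.trans (le_centralizer_iff_isMulCommutative.mpr inferInstance))

theorem Good.centralizer_le (hG : Cfsg.IsMinSimpleOddOrder G) {M : Subgroup G} (h : Good q M)
    {z : G} (hz : z ∈ core q M) (hzq : z ^ q = 1) (hz1 : z ≠ 1) :
    centralizer ({z} : Set G) ≤ M := by
  obtain ⟨E, hzE, hER, hE, hE3⟩ := h.extend_elementary _ (zpowers_le.mpr hz) (elementary_zpowers hzq)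
  haveI := hE.1
  refine le_of_unique (h.unique_three hG hE hE3) h.coatom (hER.trans (core_le q M)) ?_
    (OddTransitivity.centralizer_ne_top hG hz1)
  exact fun e he => mem_centralizer_singleton_iff.mpr
    (congrArg Subtype.val (mul_comm' (⟨e, he⟩ : E) ⟨z, hzE (mem_zpowers z)⟩))

theorem Good.normalizer_zpowers_le (hG : Cfsg.IsMinSimpleOddOrder G) {M : Subgroup G} (h : Good q M)
    {z : G} (hz : z ∈ core q M) (hzq : z ^ q = 1) (hz1 : z ≠ 1) :
    normalizer (zpowers z : Set G) ≤ M := by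
  obtain ⟨E, hzE, hER, hE, hE3⟩ := h.extend_elementary _ (zpowers_le.mpr hz) (elementary_zpowers hzq)
  haveI := hE.1
  refine le_of_unique (h.unique_three hG hE hE3) h.coatom (hER.trans (core_le q M)) ?_
    (CN.normalizer_ne_top hG (fun e => hz1 (zpowers_eq_bot.mp e))
      (Group.isSolvable_of_comm fun a b => mul_comm' a b))
  exact (le_centralizer_iff_isMulCommutative.mpr inferInstance : E ≤ centralizer (E : Set G)).trans
    ((Subgroup.centralizer_le hzE).trans (centralizer_le_normalizer _))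

/-- A core whose operator group has a derived group which is not a `q`-group. -/
theorem good_of_not_commutator (hG : Cfsg.IsMinSimpleOddOrder G) {M : Subgroup G} (hM : IsCoatom M)
    (hne : ¬ IsPGroup q (commutator (MulAut.conjNormal (H := Cfsg.pCore q M)).range)) : Good q M := by
  have hRp := Core.pCore_isPGroup q M
  set φ := (MulAut.conjNormal (H := Cfsg.pCore q M) : M →* MulAut (Cfsg.pCore q M))
  haveI : Finite φ.range := Finite.of_surjective φ.rangeRestrict φ.rangeRestrict_surjective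
  have hker : IsPGroup q φ.range.subtype.ker := by
    rw [(MonoidHom.ker_eq_bot_iff _).mpr φ.range.subtype_injective]; exact IsPGroup.of_bot
  have hodd : Odd (Nat.card φ.range) := (odd_subgroup hG M).of_dvd_nat (card_range_dvd φ)
  have hR1 : core q M ≠ ⊥ := fun e => hne fun a => ⟨0, by
    have hsub : ∀ b : MulAut (Cfsg.pCore q M), b = 1 := fun b => MulEquiv.ext fun x => Subtype.ext (by
      have h0 : Cfsg.pCore q M = ⊥ := (map_eq_bot_iff_of_injective _ M.subtype_injective).mp e
      rw [show b x = 1 from Subtype.ext (by simpa using h0.le (b x).2),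
        show x = 1 from Subtype.ext (by simpa using h0.le x.2)]
      rfl)
    rw [pow_zero, pow_one]
    exact Subtype.ext (Subtype.ext (hsub _))⟩
  have hpG : q ∣ Nat.card G := by
    obtain ⟨i, hi⟩ := IsPGroup.iff_card.mp (core_isPGroup q M)
    exact (dvd_pow_self q fun h0 => hR1 (eq_bot_of_card_eq _ (by rw [hi, h0, pow_zero]))).trans
      (hi ▸ card_subgroup_dvd_card _)
  have hq2 := Uniq.ne_two hG hpG
  have hrank : ¬ Cfsg.PRankLE q 2 (Cfsg.pCore q M) := fun hr =>
    hne (RankTwoAut.commutator_isPGroup hq2 hRp hr hodd φ.range.subtype hker)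
  have hslim : ∀ x : Cfsg.pCore q M, x ^ q = 1 →
      q ^ 2 < {y : Cfsg.pCore q M | Commute y x ∧ y ^ q = 1}.ncard := fun x hx =>
    not_le.mp fun hS => hne (NarrowAut.operator_facts hq2 hRp hrank hx hS φ.range.subtype hker).1
  -- a bigger commuting elementary subgroup
  obtain ⟨z, hzR, hzq, hz1, hzc⟩ := exists_central (core_isPGroup q M) le_rfl le_normalizer hR1
  have step : ∀ W : Subgroup G, W ≤ core q M → Cfsg.IsElementaryAbelian q W → Nat.card W ≤ q ^ 2 →
      ∃ W' : Subgroup G, W < W' ∧ W' ≤ core q M ∧ Cfsg.IsElementaryAbelian q W' := by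
    intro W hWR hW hW2
    haveI := hW.1
    by_cases hzW : z ∈ W
    swap
    · refine ⟨W ⊔ zpowers z, lt_of_le_of_ne le_sup_left fun e => hzW (e.ge (mem_sup_right (mem_zpowers z))),
        sup_le hWR (zpowers_le.mpr hzR), elementary_adjoin hW hzq ?_⟩
      exact Subgroup.centralizer_le hWR hzc
    obtain ⟨w, hwW, hgen⟩ : ∃ w ∈ W, W ≤ zpowers z ⊔ zpowers w := by
      by_cases h : W ≤ zpowers z
      · exact ⟨z, hzW, h.trans le_sup_left⟩
      obtain ⟨w, hw, hwz⟩ := SetLike.not_le_iff_exists.mp h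
      refine ⟨w, hw, le_of_eq (eq_of_le_of_card_ge (sup_le (zpowers_le.mpr hzW) (zpowers_le.mpr hw)) ?_).symm⟩
      have hWp := Cfsg.Lib.PGroup.isPGroup_of_isElementaryAbelian hW
      have h1 := mul_card_le_of_lt (hWp.to_le (sup_le (zpowers_le.mpr hzW) (zpowers_le.mpr hw)))
        (zpowers_lt_sup hwz)
      rw [card_zpowers_eq hzq hz1, ← sq] at h1
      exact hW2.trans h1
    obtain ⟨w₀, hw₀, hw₀e⟩ := hWR hwW
    have hbig := hslim ⟨w₀, hw₀⟩ (Subtype.ext (Subtype.ext (by
      show (w₀ : G) ^ q = 1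
      rw [show (w₀ : G) = w from hw₀e]; exact hW.2 w hwW)))
    obtain ⟨y, ⟨hyc, hyq⟩, hyW⟩ : ∃ y : Cfsg.pCore q M,
        (Commute y ⟨w₀, hw₀⟩ ∧ y ^ q = 1) ∧ ((y : M) : G) ∉ W := by
      by_contra! hall
      refine absurd hbig (not_lt.mpr ?_)
      refine le_trans ?_ hW2
      rw [← Nat.card_coe_set_eq]
      exact Nat.card_le_card_of_injective (fun y => (⟨((y.1 : M) : G), hall y.1 y.2⟩ : W))
        fun a b hab => Subtype.ext (Subtype.ext (Subtype.ext (congrArg Subtype.val hab :)))
    have hyR : ((y : M) : G) ∈ core q M := mem_map_of_mem _ y.2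
    refine ⟨W ⊔ zpowers ((y : M) : G), lt_of_le_of_ne le_sup_left fun e =>
      hyW (e.ge (mem_sup_right (mem_zpowers _))), sup_le hWR (zpowers_le.mpr hyR),
      elementary_adjoin hW (congrArg (fun a : Cfsg.pCore q M => ((a : M) : G)) hyq)
        (Subgroup.centralizer_le hgen ?_)⟩
    refine le_centralizer_iff.mp (sup_le (zpowers_le.mpr ?_) (zpowers_le.mpr ?_))
      (mem_zpowers ((y : M) : G))
    · exact Subgroup.centralizer_le (zpowers_le.mpr hyR) hzc
    · refine mem_centralizer_iff.mpr fun a ha => ?_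
      obtain ⟨i, rfl⟩ := mem_zpowers_iff.mp ha
      have hc : Commute ((y : M) : G) w := by
        rw [← hw₀e]; exact congrArg (fun a : Cfsg.pCore q M => ((a : M) : G)) hyc
      exact (hc.zpow_left i).eq
  refine ⟨hM, fun W hWR hW => ?_⟩
  obtain ⟨E, hWE, ⟨hER, hE⟩, hmax⟩ := (Set.toFinite {E : Subgroup G | E ≤ core q M ∧
    Cfsg.IsElementaryAbelian q E}).exists_le_maximal (a := W) ⟨hWR, hW⟩
  refine ⟨E, hWE, hER, hE, ?_⟩
  obtain ⟨i, hi⟩ := IsPGroup.iff_card.mp (Cfsg.Lib.PGroup.isPGroup_of_isElementaryAbelian hE)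
  rw [hi]
  refine Nat.pow_le_pow_right hq.out.pos ?_
  by_contra hlt
  obtain ⟨E', hlt', hE'R, hE'⟩ := step E hER hE (hi ▸ Nat.pow_le_pow_right hq.out.pos (by omega))
  exact hlt'.not_ge (hmax ⟨hE'R, hE'⟩ hlt'.le)

/-- An element of order `q` of `O_q (M)` and a commuting one. -/
theorem pair (hG : Cfsg.IsMinSimpleOddOrder G) {M : Subgroup G} (h : Good q M) {z u : G}
    (hz : z ∈ core q M) (hzq : z ^ q = 1) (hz1 : z ≠ 1) (huq : u ^ q = 1) (huz : u * z = z * u)
    (hu : u ∉ zpowers z) :
    zpowers z ⊔ zpowers u ≤ M ∧ (Cfsg.InUniqueMaximal (zpowers z ⊔ zpowers u) ∨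
      (normalizer ((zpowers z ⊔ zpowers u : Subgroup G) : Set G) ≤ M ∧
       normalizer ((zpowers z ⊔ zpowers u : Subgroup G) : Set G) ≤ normalizer (zpowers z : Set G) ∧
       ∀ y ∈ centralizer ((zpowers z ⊔ zpowers u : Subgroup G) : Set G), y ^ q = 1 →
         y ∈ zpowers z ⊔ zpowers u)) := by
  set W := zpowers z ⊔ zpowers u with hWdef
  have hzu : zpowers z ≤ centralizer (zpowers u : Set G) := zpowers_le.mpr (mem_centralizer_iff.mpr
    fun a ha => by
      obtain ⟨i, rfl⟩ := mem_zpowers_iff.mp ha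
      exact ((show Commute u z from huz).zpow_left i).eq)
  have hW : Cfsg.IsElementaryAbelian q W :=
    elementary_sup (elementary_zpowers hzq) (elementary_zpowers huq) hzu
  haveI := hW.1
  have hu1 : u ≠ 1 := fun e => hu (e ▸ one_mem _)
  have hWp := Cfsg.Lib.PGroup.isPGroup_of_isElementaryAbelian hW
  have hzlt : zpowers z < W := zpowers_lt_sup hu
  have hWge : q ^ 2 ≤ Nat.card W := by
    have := mul_card_le_of_lt hWp hzlt
    rwa [card_zpowers_eq hzq hz1, ← sq] at this
  have hWle : Nat.card W ≤ q ^ 2 := by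
    rw [sq]
    conv_rhs => rw [← card_zpowers_eq hzq hz1]
    conv_rhs => arg 2; rw [card_zpowers_eq hzq hz1, ← card_zpowers_eq huq hu1]
    rw [← Nat.card_prod]
    refine Nat.card_le_card_of_surjective (fun ab : zpowers z × zpowers u =>
      (⟨(ab.1 : G) * ab.2, mul_mem (mem_sup_left ab.1.2) (mem_sup_right ab.2.2)⟩ : W)) fun y => ?_
    obtain ⟨a, ha, b, hb, e⟩ :=
      (Core.mem_sup_of_commute (commutator_eq_bot_iff_le_centralizer.mpr hzu)).1 y.2
    exact ⟨(⟨a, ha⟩, ⟨b, hb⟩), Subtype.ext e⟩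
  have huM : u ∈ M := h.centralizer_le hG hz hzq hz1 (mem_centralizer_singleton_iff.mpr huz)
  refine ⟨sup_le (zpowers_le.mpr (core_le q M hz)) (zpowers_le.mpr huM), ?_⟩
  by_cases hbig : ∀ y ∈ centralizer (W : Set G), y ^ q = 1 → y ∈ W
  swap
  · left
    push Not at hbig
    obtain ⟨y, hyc, hyq, hyW⟩ := hbig
    have hE := elementary_adjoin hW hyq hyc
    haveI := hE.1
    have hlt : W < W ⊔ zpowers y :=
      lt_of_le_of_ne le_sup_left fun e => hyW (e.ge (mem_sup_right (mem_zpowers y)))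
    have hE3 : q ^ 3 ≤ Nat.card (W ⊔ zpowers y : Subgroup G) := by
      refine le_trans ?_ (mul_card_le_of_lt (Cfsg.Lib.PGroup.isPGroup_of_isElementaryAbelian hE) hlt)
      rw [pow_succ']
      exact Nat.mul_le_mul_left q hWge
    exact unique_of_centralizes hG (h.unique_three hG hE hE3) hW hWge
      (le_sup_left.trans (le_centralizer_iff_isMulCommutative.mpr inferInstance))
  right
  -- a `q`-element of `N (W)` moving `u`
  set R := core q M
  set Q := R ⊔ zpowers u with hQdef
  have hRn : zpowers u ≤ normalizer (R : Set G) := (zpowers_le.mpr huM).trans (le_normalizer_core q M)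
  have hQp : IsPGroup q Q := (core_isPGroup q M).to_sup_of_normal_left'
    (Cfsg.Lib.PGroup.isPGroup_of_isElementaryAbelian (elementary_zpowers huq)) hRn
  have hWQ : W ≤ Q := sup_le ((zpowers_le.mpr hz).trans le_sup_left) le_sup_right
  set C := Q ⊓ centralizer (W : Set G)
  have hnotle : ∀ E : Subgroup G, Cfsg.IsElementaryAbelian q E → q ^ 3 ≤ Nat.card E →
      ¬ E ≤ centralizer (W : Set G) := by
    intro E hE hE3 hEc
    have h1 := hE3.trans ((card_le_of_le (fun e he => hbig e (hEc he) (hE.2 e he))).trans hWle)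
    rw [Nat.pow_le_pow_iff_right hq.out.one_lt] at h1
    omega
  have hClt : C < Q := by
    refine lt_of_le_of_ne inf_le_left fun e => ?_
    obtain ⟨E, -, hER, hE, hE3⟩ := h.extend_elementary ⊥ bot_le elementary_bot
    exact hnotle E hE hE3 ((hER.trans le_sup_left).trans (e.ge.trans inf_le_right))
  obtain ⟨g, hgQ, hgC, hgN⟩ := exists_normalizing hQp hClt
  have hgW : g ∈ normalizer (W : Set G) := by
    rw [Core.mem_normalizer_iff_map_conj]
    refine eq_of_le_of_card_ge ?_ (by rw [Cfsg.Lib.Coprime.card_map_conj])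
    rintro _ ⟨w, hw, rfl⟩
    refine hbig _ ((mem_normalizer_iff.mp hgN w).mp ⟨hWQ hw,
      le_centralizer_iff_isMulCommutative.mpr inferInstance hw⟩).2 ?_
    rw [MulEquiv.coe_toMonoidHom, ← map_pow, hW.2 w hw, map_one]
  have huR : u ∉ R := fun huR => by
    obtain ⟨E, hWE, -, hE, hE3⟩ := h.extend_elementary W (sup_le (zpowers_le.mpr hz) (zpowers_le.mpr huR)) hW
    haveI := hE.1
    exact hnotle E hE hE3 ((le_centralizer_iff_isMulCommutative.mpr inferInstance).trans (Subgroup.centralizer_le hWE))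
  have hWR : W ⊓ R = zpowers z := by
    refine (eq_of_le_of_card_ge (le_inf hzlt.le (zpowers_le.mpr hz)) ?_).symm
    have hlt : W ⊓ R < W := lt_of_le_of_ne inf_le_left fun e =>
      huR (e.ge (mem_sup_right (mem_zpowers u))).2
    have h1 := (mul_card_le_of_lt hWp hlt).trans hWle
    rw [sq] at h1
    rw [card_zpowers_eq hzq hz1]
    exact Nat.le_of_mul_le_mul_left h1 hq.out.pos
  have hgM : g ∈ M := (sup_le (core_le q M) (zpowers_le.mpr huM) : Q ≤ M) hgQ
  have hgz : g ∈ normalizer (zpowers z : Set G) := by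
    rw [← hWR]
    exact inf_normalizer_le_normalizer_inf ⟨hgW, le_normalizer_core q M hgM⟩
  have hgk := pow_pow_eq_one hQp hgQ
  have hline := fixed_line hG.1 (h.ne_two hG) hW hWle hgW hgk (fun hc => hgC ⟨hgQ, hc⟩)
    (mem_sup_left (mem_zpowers z)) hzq hz1 (commute_of_normalizes hgk hzq hgz)
  exact ⟨hline.trans (h.normalizer_zpowers_le hG hz hzq hz1), hline, hbig⟩

/-- The normalizer of a suitable `q`-group lies in `M`. -/
theorem Good.normalizer_le (hG : Cfsg.IsMinSimpleOddOrder G) {M : Subgroup G} (h : Good q M) {z : G}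
    (hz : z ∈ core q M) (hzq : z ^ q = 1) (hz1 : z ≠ 1) {S L : Subgroup G} (hS : IsPGroup q S)
    (hzS : z ∈ S) (hLS : L ≤ S) (hSL : S ≤ normalizer (L : Set G))
    (hL : z ∈ L ∨ ¬ IsCyclic L) : normalizer (L : Set G) ≤ M := by
  have hL1 : L ≠ ⊥ := by
    rcases hL with hL | hL
    · exact fun e => hz1 (by rwa [e, mem_bot] at hL)
    · exact fun e => hL (e ▸ isCyclic_of_subsingleton)
  have hNtop : normalizer (L : Set G) ≠ ⊤ := CN.normalizer_ne_top hG hL1
    (CN.isSolvable_of_nilpotent (hS.to_le hLS).isNilpotent)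
  have invariant_set : ∀ (D W : Subgroup G), W ≤ D → (∀ y ∈ D, y ^ q = 1 → y ∈ W) →
      Cfsg.IsElementaryAbelian q W → normalizer (D : Set G) ≤ normalizer (W : Set G) := by
    intro D W hWD hDW hW
    refine Cfsg.Lib.Sig.le_normalizer_of_invariant fun g hg w hw => hDW _
      ((mem_normalizer_iff.mp hg w).mp (hWD hw)) ?_
    rw [conj_pow, hW.2 w hw, mul_one, mul_inv_cancel]
  obtain ⟨u, huL, huq, hu1, huS⟩ := exists_central hS hLS hSL hL1
  by_cases huz : u ∈ zpowers z
  swap
  · have huzc : u * z = z * u := (mem_centralizer_iff.mp huS z hzS).symm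
    obtain ⟨hWM, hcase⟩ := pair hG h hz hzq hz1 huq huzc huz
    set W := zpowers z ⊔ zpowers u with hWdef
    have hWS : W ≤ S := sup_le (zpowers_le.mpr hzS) (zpowers_le.mpr (hLS huL))
    rcases hcase with hU | ⟨hNM, hNz, hbig⟩
    · exact le_of_unique hU h.coatom hWM (hWS.trans hSL) hNtop
    have hW : Cfsg.IsElementaryAbelian q W := elementary_adjoin (elementary_zpowers hzq) huq
      (mem_centralizer_iff.mpr fun a ha => by
        obtain ⟨i, rfl⟩ := mem_zpowers_iff.mp ha
        exact ((show Commute z u from huzc.symm).zpow_left i).eq)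
    haveI := hW.1
    have hSc : S ≤ centralizer (W : Set G) := by
      by_contra hSc
      set C := S ⊓ centralizer (W : Set G)
      have hClt : C < S := lt_of_le_of_ne inf_le_left fun e => hSc (e.ge.trans inf_le_right)
      obtain ⟨g, hgS, hgC, hgN⟩ := exists_normalizing hS hClt
      have hgW : g ∈ normalizer (W : Set G) := by
        rw [Core.mem_normalizer_iff_map_conj]
        refine eq_of_le_of_card_ge ?_ (by rw [Cfsg.Lib.Coprime.card_map_conj])
        rintro _ ⟨w, hw, rfl⟩
        refine hbig _ ((mem_normalizer_iff.mp hgN w).mp ⟨hWS hw,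
          le_centralizer_iff_isMulCommutative.mpr inferInstance hw⟩).2 ?_
        rw [MulEquiv.coe_toMonoidHom, ← map_pow, hW.2 w hw, map_one]
      have hgz := commute_of_normalizes (pow_pow_eq_one hS hgS) hzq (hNz hgW)
      have hgu : g * u = u * g := mem_centralizer_iff.mp huS g hgS
      refine hgC ⟨hgS, ?_⟩
      refine le_centralizer_iff.mp (sup_le ?_ ?_) (mem_zpowers g) <;>
        refine zpowers_le.mpr (mem_centralizer_iff.mpr fun a ha => ?_) <;>
        obtain ⟨i, rfl⟩ := mem_zpowers_iff.mp ha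
      · exact ((show Commute g z from hgz).zpow_left i).eq
      · exact ((show Commute g u from hgu).zpow_left i).eq
    have hall : ∀ y ∈ S, y ^ q = 1 → y ∈ W := fun y hy hyq => hbig y (hSc hy) hyq
    by_cases hzL : z ∈ L
    · exact (invariant_set L W (sup_le (zpowers_le.mpr hzL) (zpowers_le.mpr huL))
        (fun y hy => hall y (hLS hy)) hW).trans hNM
    exfalso
    refine (hL.resolve_left hzL) (isCyclic_of_forall (h.ne_two hG) (hS.to_le hLS) huq fun y hy hyq => ?_)
    have hWp := Cfsg.Lib.PGroup.isPGroup_of_isElementaryAbelian hW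
    have hlt : W ⊓ L < W := lt_of_le_of_ne inf_le_left fun e => hzL (e.ge (mem_sup_left (mem_zpowers z))).2
    have hWle : Nat.card W ≤ q * q := by
      conv_rhs => rw [← card_zpowers_eq hzq hz1]
      conv_rhs => arg 2; rw [card_zpowers_eq hzq hz1, ← card_zpowers_eq huq hu1]
      rw [← Nat.card_prod]
      refine Nat.card_le_card_of_surjective (fun ab : zpowers z × zpowers u =>
        (⟨(ab.1 : G) * ab.2, mul_mem (mem_sup_left ab.1.2) (mem_sup_right ab.2.2)⟩ : W)) fun y => ?_
      obtain ⟨a, ha, b, hb, e⟩ := (Core.mem_sup_of_commute (commutator_eq_bot_iff_le_centralizer.mpr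
        (zpowers_le.mpr (mem_centralizer_iff.mpr fun a ha => by
          obtain ⟨i, rfl⟩ := mem_zpowers_iff.mp ha
          exact ((show Commute u z from huzc).zpow_left i).eq)))).1 y.2
      exact ⟨(⟨a, ha⟩, ⟨b, hb⟩), Subtype.ext e⟩
    have hle := Nat.le_of_mul_le_mul_left ((mul_card_le_of_lt hWp hlt).trans hWle) hq.out.pos
    have he : zpowers u = W ⊓ L := eq_of_le_of_card_ge
      (le_inf le_sup_right (zpowers_le.mpr huL)) (by rw [card_zpowers_eq huq hu1]; exact hle)
    rw [he]
    exact ⟨hall y (hLS hy) hyq, hy⟩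
  -- `z` is central in `S` and lies in `L`
  have hzu : z ∈ zpowers u := by
    rw [zpowers_eq_of_mem hzq huz hu1]; exact mem_zpowers z
  have hzL : z ∈ L := zpowers_le.mpr huL hzu
  have hzc : z ∈ centralizer (S : Set G) := zpowers_le.mpr huS hzu
  set D := L ⊓ centralizer (L : Set G)
  have hND : normalizer (L : Set G) ≤ normalizer (D : Set G) :=
    (le_inf le_rfl (normalizer_le_normalizer_centralizer L)).trans inf_normalizer_le_normalizer_inf
  have hzD : z ∈ D := ⟨hzL, Subgroup.centralizer_le hLS hzc⟩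
  by_cases hV : ∀ y ∈ D, y ^ q = 1 → y ∈ zpowers z
  · exact (hND.trans (invariant_set D _ (zpowers_le.mpr hzD) hV (elementary_zpowers hzq))).trans
      (h.normalizer_zpowers_le hG hz hzq hz1)
  push Not at hV
  obtain ⟨y, hyD, hyq, hyz⟩ := hV
  have hyzc : y * z = z * y := (mem_centralizer_iff.mp hyD.2 z hzL).symm
  obtain ⟨hWM, hcase⟩ := pair hG h hz hzq hz1 hyq hyzc hyz
  rcases hcase with hU | ⟨hNM, -, hbig⟩
  · exact le_of_unique hU h.coatom hWM
      ((sup_le (zpowers_le.mpr hzL) (zpowers_le.mpr hyD.1)).trans le_normalizer) hNtop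
  have hWD : zpowers z ⊔ zpowers y ≤ D := sup_le (zpowers_le.mpr hzD) (zpowers_le.mpr hyD)
  have hW : Cfsg.IsElementaryAbelian q (zpowers z ⊔ zpowers y : Subgroup G) :=
    elementary_adjoin (elementary_zpowers hzq) hyq (mem_centralizer_iff.mpr fun a ha =>
      mem_centralizer_iff.mp hyD.2 a (zpowers_le.mpr hzL ha))
  refine (hND.trans (invariant_set D _ hWD (fun t ht htq => hbig t ?_ htq) hW)).trans hNM
  exact Subgroup.centralizer_le (hWD.trans inf_le_left) ht.2

end Cfsg.Lib.Local.Uniq
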